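/-
Transvections in PSU(6,2): orbits of one, two and three orthogonal centres.

* `tau hF v` : the image of the transvection with centre `v`; `members hF` : all of them;
* `exists_act_three` : SU(6,2) is transitive on triples of independent orthogonal centres, up to a scalar;
* `members_commute_of_two_group` : the members in a two-subgroup commute.
-/
import Cfsg.Agent.Lib.ThreeTransSU.PSUPoints
import Cfsg.Agent.Lib.FischerM22.Counts

set_option autoImplicit false

namespace Cfsg.Agent.U62Base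

open Cfsg.Agent.Unitary Cfsg.Agent.U62Cover Cfsg.Agent.ThreeTransSU

variable {F : Type*} [Field F] [Fintype F]

/-- The image of a transvection. -/
noncomputable def tau (hF : Fintype.card F = 4) (v : Fin 6 → F) : Cfsg.PSU 6 F 2 := toPSU 6 F (tv hF v)

/-- The images of the transvections. -/
def members (hF : Fintype.card F = 4) : Set (Cfsg.PSU 6 F 2) := {x | ∃ v, Iso v ∧ x = tau hF v}

/-- Three independent pairwise orthogonal isotropic vectors. -/
structure Frame3 (u : Fin 3 → (Fin 6 → F)) : Prop where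
  li : LinearIndependent F u
  orth : ∀ i j, hf (u i) (u j) = 0

theorem Frame3.iso {u : Fin 3 → (Fin 6 → F)} (h : Frame3 u) (i : Fin 3) : Iso (u i) :=
  ⟨h.li.ne_zero i, h.orth i i⟩

theorem Frame3.pair {u : Fin 3 → (Fin 6 → F)} (h : Frame3 u) {i j : Fin 3} (hij : i ≠ j) :
    OrthPair (u i) (u j) := by
  refine ⟨h.iso i, h.iso j, h.orth i j, fun c e => ?_⟩
  have := h.li.notMem_span_image (s := {i}) (x := j) (by simpa using hij.symm)
  refine this ?_
  rw [Set.image_singleton, Submodule.mem_span_singleton]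
  exact ⟨c, e.symm⟩

theorem Frame3.act {u : Fin 3 → (Fin 6 → F)} (h : Frame3 u) (g : Cfsg.SU 6 F 2) :
    Frame3 fun i => act g (u i) := by
  refine ⟨Fintype.linearIndependent_iff.2 fun c hc => ?_, fun i j => by rw [act_hf]; exact h.orth i j⟩
  refine Fintype.linearIndependent_iff.1 h.li c ((act_eq_iff g).1 ?_)
  rw [act_zero, Fin.sum_univ_three, act_add, act_add, act_smul, act_smul, act_smul]
  rwa [Fin.sum_univ_three] at hc

theorem tau_conj (hF : Fintype.card F = 4) (g : Cfsg.SU 6 F 2) {v : Fin 6 → F} (hv : Iso v) :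
    toPSU 6 F g * tau hF v * (toPSU 6 F g)⁻¹ = tau hF (act g v) := by
  rw [tau, tau, ← map_inv, ← map_mul, ← map_mul, tv_conj_inv hF g hv.2]

theorem tau_mem (hF : Fintype.card F = 4) {v : Fin 6 → F} (hv : Iso v) : tau hF v ∈ members hF :=
  ⟨v, hv, rfl⟩

theorem tau_sq (hF : Fintype.card F = 4) {v : Fin 6 → F} (hv : Iso v) : tau hF v * tau hF v = 1 := by
  rw [tau, ← map_mul, tv_sq hF hv.2, map_one]

theorem tau_inv (hF : Fintype.card F = 4) {v : Fin 6 → F} (hv : Iso v) : (tau hF v)⁻¹ = tau hF v :=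
  inv_eq_of_mul_eq_one_left (tau_sq hF hv)

theorem tau_smul (hF : Fintype.card F = 4) {v : Fin 6 → F} (hv : Iso v) {c : F} (hc : c ≠ 0) :
    tau hF (c • v) = tau hF v := by rw [tau, tau, tv_smul hF hv hc]

theorem tau_comm_iff (hF : Fintype.card F = 4) {u v : Fin 6 → F} (hu : Iso u) (hv : Iso v) :
    Commute (tau hF u) (tau hF v) ↔ hf u v = 0 := mk_tv_comm hF (by norm_num) hu hv

theorem tau_inj (hF : Fintype.card F = 4) {u v : Fin 6 → F} (hu : Iso u) (hv : Iso v)
    (h : tau hF u = tau hF v) : ∃ c : F, c ≠ 0 ∧ v = c • u := mk_tv_inj hF (by norm_num) hu hv h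

theorem tau_ne_one (hF : Fintype.card F = 4) {v : Fin 6 → F} (hv : Iso v) : tau hF v ≠ 1 := by
  intro h
  have h1 : (tv hF v * tv hF v) ^ 1 = 1 := by rw [pow_one, tv_sq hF hv.2]
  have h2 : tv hF v ∈ Subgroup.center (Cfsg.SU 6 F 2) := toPSU_eq_one.1 h
  have h3 := center_cube hF (by norm_num) h2
  rw [pow_succ, pow_two, tv_sq hF hv.2, one_mul] at h3
  exact tv_ne_one hF hv h3

theorem members_conj (hF : Fintype.card F = 4) (g : Cfsg.PSU 6 F 2) {x : Cfsg.PSU 6 F 2}
    (hx : x ∈ members hF) : g * x * g⁻¹ ∈ members hF := by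
  obtain ⟨v, hv, rfl⟩ := hx
  obtain ⟨h, rfl⟩ := QuotientGroup.mk'_surjective _ g
  exact ⟨_, hv.act h, tau_conj hF h hv⟩

theorem members_conj_transitive (hF : Fintype.card F = 4) {x y : Cfsg.PSU 6 F 2} (hx : x ∈ members hF)
    (hy : y ∈ members hF) : ∃ g : Cfsg.PSU 6 F 2, g * x * g⁻¹ = y := by
  obtain ⟨u, hu, rfl⟩ := hx
  obtain ⟨v, hv, rfl⟩ := hy
  obtain ⟨g, rfl⟩ := exists_act hF (by norm_num) hu hv
  exact ⟨toPSU 6 F g, tau_conj hF g hu⟩

/-! ### Transitivity on three centres -/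

/-- Two centres orthogonal to `p, q` but not to each other are exchanged fixing `p, q`. -/
theorem exists_act_step (hF : Fintype.card F = 4) {p q z y : Fin 6 → F} (hz : Iso z) (hy : Iso y)
    (hzp : hf z p = 0) (hzq : hf z q = 0) (hyp : hf y p = 0) (hyq : hf y q = 0) (h : hf z y ≠ 0) :
    ∃ (g : Cfsg.SU 6 F 2) (c : F), c ≠ 0 ∧ act g p = p ∧ act g q = q ∧ act g z = c • y := by
  set c := hf z y with hc
  set x := z + c • y with hx
  have h1 : hf z (c • y) = 1 := by
    rw [hf_smul_right hF, ← hc, mul_comm, mul_sq_self hF h]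
  have hzx : hf z x = 1 := by rw [hx, hf_add_right hF, hz.2, h1, zero_add]
  have hxx : hf x x = 0 := by
    rw [hx, hf_add_left hF, hf_add_right hF, hf_add_right hF, hz.2, h1, hf_eq_one_symm hF h1,
      (hy.smul hF h).2, add_zero, zero_add]
    exact add_self hF 1
  have orth : ∀ {r : Fin 6 → F}, hf z r = 0 → hf y r = 0 → hf r x = 0 := fun {r} hzr hyr =>
    (hf_eq_zero_symm hF).1 (by rw [hx, hf_add_left hF, hf_smul_left hF, hzr, hyr, mul_zero, add_zero])
  refine ⟨tv hF x, c, h, act_tv_of_orth hF hxx (orth hzp hyp), act_tv_of_orth hF hxx (orth hzq hyq), ?_⟩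
  rw [act_tv hF hxx, hzx, one_smul, hx, ← add_assoc, vadd_self hF, zero_add]

/-- Transitivity on three independent orthogonal centres, the third up to a scalar. -/
theorem exists_act_three (hF : Fintype.card F = 4) {u w : Fin 3 → (Fin 6 → F)} (hu : Frame3 u)
    (hw : Frame3 w) : ∃ (g : Cfsg.SU 6 F 2) (c : F), c ≠ 0 ∧ act g (u 0) = w 0 ∧ act g (u 1) = w 1 ∧
      act g (u 2) = c • w 2 := by
  obtain ⟨g, g0, g1⟩ := exists_act_two hF (by norm_num) (hu.pair (show (0 : Fin 3) ≠ 1 by decide))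
    (hw.pair (show (0 : Fin 3) ≠ 1 by decide))
  have hu' := hu.act g
  set z := act g (u 2) with hz
  have hli : LinearIndependent F ![w 0, w 1, z] := by
    have e : ![w 0, w 1, z] = fun i => act g (u i) := by
      funext i; fin_cases i
      exacts [g0.symm, g1.symm, rfl]
    rw [e]; exact hu'.li
  have hli' : LinearIndependent F ![w 0, w 1, w 2] := by
    have e : ![w 0, w 1, w 2] = w := by funext i; fin_cases i <;> rfl
    rw [e]; exact hw.li
  have z0 : hf z (w 0) = 0 := by rw [← g0]; exact hu'.orth 2 0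
  have z1 : hf z (w 1) = 0 := by rw [← g1]; exact hu'.orth 2 1
  have hzI : Iso z := hu'.iso 2
  obtain ⟨x1, hx1⟩ := exists_dual hF hli ![0, 0, 1]
  obtain ⟨x2, hx2⟩ := exists_dual hF hli' ![0, 0, 1]
  obtain ⟨x, xa, xb, xz, xw⟩ : ∃ x, hf x (w 0) = 0 ∧ hf x (w 1) = 0 ∧ hf x z ≠ 0 ∧ hf x (w 2) ≠ 0 := by
    have a0 : hf x1 (w 0) = 0 := hx1 0
    have a1 : hf x1 (w 1) = 0 := hx1 1
    have a2 : hf x1 z = 1 := hx1 2
    have b0 : hf x2 (w 0) = 0 := hx2 0
    have b1 : hf x2 (w 1) = 0 := hx2 1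
    have b2 : hf x2 (w 2) = 1 := hx2 2
    by_cases h1 : hf x1 (w 2) = 0
    · by_cases h2 : hf x2 z = 0
      · refine ⟨x1 + x2, ?_, ?_, ?_, ?_⟩ <;> rw [hf_add_left hF]
        · rw [a0, b0, add_zero]
        · rw [a1, b1, add_zero]
        · rw [a2, h2, add_zero]; exact one_ne_zero
        · rw [h1, b2, zero_add]; exact one_ne_zero
      · exact ⟨x2, b0, b1, h2, by rw [b2]; exact one_ne_zero⟩
    · exact ⟨x1, a0, a1, by rw [a2]; exact one_ne_zero, h1⟩
  obtain ⟨k, c, hc, k0, k1, k2⟩ : ∃ (k : Cfsg.SU 6 F 2) (c : F), c ≠ 0 ∧ act k (w 0) = w 0 ∧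
      act k (w 1) = w 1 ∧ act k z = c • w 2 := by
    by_cases h : hf z (w 2) = 0
    swap
    · exact exists_act_step hF hzI (hw.iso 2) z0 z1 (hw.orth 2 0) (hw.orth 2 1) h
    obtain ⟨x0, hx0⟩ : ∃ x0, x0 = (hf x z)⁻¹ • x := ⟨_, rfl⟩
    have e0 : hf x0 z = 1 := by rw [hx0, hf_smul_left hF, inv_mul_cancel₀ xz]
    obtain ⟨t, ht⟩ := exists_trace hF (a := hf x0 x0) ((hf_symm hF x0 x0).symm)
    obtain ⟨y, hy⟩ : ∃ y, y = x0 + t • z := ⟨_, rfl⟩
    have y0 : hf y (w 0) = 0 := by
      rw [hy, hx0, hf_add_left hF, hf_smul_left hF, hf_smul_left hF, xa, z0]; simp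
    have y1 : hf y (w 1) = 0 := by
      rw [hy, hx0, hf_add_left hF, hf_smul_left hF, hf_smul_left hF, xb, z1]; simp
    have y2 : hf y (w 2) ≠ 0 := by
      rw [hy, hx0, hf_add_left hF, hf_smul_left hF, hf_smul_left hF, h, mul_zero, add_zero]
      exact mul_ne_zero (inv_ne_zero xz) xw
    have yz : hf z y = 1 := hf_eq_one_symm hF (by
      rw [hy, hf_add_left hF, hf_smul_left hF, hzI.2, e0, mul_zero, add_zero])
    have hyy : hf y y = 0 := by
      rw [hy, hf_add_left hF, hf_add_right hF, hf_add_right hF, hf_smul_left hF, hf_smul_left hF,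
        hf_smul_right hF, hf_smul_right hF, hzI.2, e0, hf_eq_one_symm hF e0, ← ht]
      linear_combination (t + t ^ 2) * two_eq_zero hF
    have hyI : Iso y := ⟨fun e => y2 (by rw [e, hf_zero_left hF]), hyy⟩
    obtain ⟨k1, c1, hc1, p1, q1, r1⟩ := exists_act_step hF hzI hyI z0 z1 y0 y1 (by rw [yz]; exact one_ne_zero)
    obtain ⟨k2, c2, hc2, p2, q2, r2⟩ := exists_act_step hF hyI (hw.iso 2) y0 y1 (hw.orth 2 0) (hw.orth 2 1) y2
    exact ⟨k2 * k1, c1 * c2, mul_ne_zero hc1 hc2, by rw [act_mul, p1, p2], by rw [act_mul, q1, q2],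
      by rw [act_mul, r1, act_smul, r2, smul_smul]⟩
  exact ⟨k * g, c, hc, by rw [act_mul, g0, k0], by rw [act_mul, g1, k1], by rw [act_mul]; exact k2⟩

/-- Members that do not commute have a product of order three. -/
theorem tau_mul_cube (hF : Fintype.card F = 4) {u v : Fin 6 → F} (hu : Iso u) (hv : Iso v)
    (h : hf u v ≠ 0) : (tau hF u * tau hF v) ^ 3 = 1 := by
  obtain ⟨g, c, hc, -, -, hg⟩ := exists_act_step hF (p := (0 : Fin 6 → F)) (q := 0) hu hv
    (hf_zero_right hF u) (hf_zero_right hF u) (hf_zero_right hF v) (hf_zero_right hF v) h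
  set w := act (tv hF v) u with hw
  have e1 : tau hF v * tau hF u * tau hF v = tau hF w := by
    conv_lhs => arg 2; rw [← tau_inv hF hv]
    exact tau_conj hF (tv hF v) hu
  have e2 : tau hF u * tau hF v * tau hF u = tau hF (act (tv hF u) v) := by
    conv_lhs => arg 2; rw [← tau_inv hF hu]
    exact tau_conj hF (tv hF u) hv
  have e3 : act (tv hF u) v = hf v u • w := by
    rw [hw, act_tv hF hu.2, act_tv hF hv.2, smul_add, smul_smul]
    rw [show hf v u * hf u v = 1 by rw [hf_symm hF u v, mul_comm, mul_sq_self hF h], one_smul, add_comm]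
  calc (tau hF u * tau hF v) ^ 3
      = (tau hF u * tau hF v * tau hF u) * (tau hF v * tau hF u * tau hF v) := by
        simp only [pow_succ, pow_zero, one_mul, mul_assoc]
    _ = 1 := by
      rw [e1, e2, e3, tau_smul hF (hv := hu.act _) (fun k => h ((hf_eq_zero_symm hF).1 k))]
      exact tau_sq hF (hu.act _)

/-- The members in a two-subgroup commute. -/
theorem members_commute_of_two_group (hF : Fintype.card F = 4) {T : Subgroup (Cfsg.PSU 6 F 2)}
    (hT : IsPGroup 2 T) {u v : Fin 6 → F} (hu : Iso u) (hv : Iso v) (hut : tau hF u ∈ T)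
    (hvt : tau hF v ∈ T) : hf u v = 0 := by
  by_contra hn
  obtain ⟨k, hk⟩ := hT ⟨tau hF u * tau hF v, mul_mem hut hvt⟩
  have hk' : (tau hF u * tau hF v) ^ 2 ^ k = 1 := congrArg Subtype.val hk
  have h1 : orderOf (tau hF u * tau hF v) ∣ Nat.gcd (2 ^ k) 3 :=
    Nat.dvd_gcd (orderOf_dvd_of_pow_eq_one hk') (orderOf_dvd_of_pow_eq_one (tau_mul_cube hF hu hv hn))
  rw [show Nat.gcd (2 ^ k) 3 = 1 from Nat.Coprime.pow_left k (by norm_num), Nat.dvd_one,
    orderOf_eq_one_iff] at h1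
  exact hn ((tau_comm_iff hF hu hv).1 (by
    have e : tau hF u = tau hF v := by rw [← tau_inv hF hv]; exact eq_inv_of_mul_eq_one_left h1
    rw [e]))

end Cfsg.Agent.U62Base
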