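/-
Totally isotropic planes of the six-dimensional unitary space and the elements fixing one pointwise.

* `fixW W` : the pointwise stabiliser, elementary abelian of order 2 ^ 9 (`card_fixW`), generated by transvections;
* `spanW hF W` : its image in PSU(6,2); `spanW_eq_closure`, `mem_spanW_of_commute`;
* `spanW_cases` : its elements are products of at most three orthogonal transvections with centres in `W`;
* `pair_unique` : a product of two commuting members determines them.
-/
import Cfsg.Agent.Lib.U62Base.Basic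
import Cfsg.Agent.Lib.FischerM22.Width
import Cfsg.Agent.Lib.M22Cover.Types

set_option autoImplicit false

namespace Cfsg.Agent.U62Base

open Cfsg.Agent.Unitary Cfsg.Agent.U62Cover Cfsg.Agent.ThreeTransSU

variable {F : Type*} [Field F] [Fintype F] {W : Submodule F (Fin 6 → F)}

/-- A totally isotropic plane. -/
structure IsPlane (W : Submodule F (Fin 6 → F)) : Prop where
  dim : Module.finrank F W = 3
  iso : ∀ x ∈ W, ∀ y ∈ W, hf x y = 0

/-- The members with centre in `W`. -/
def planeSet (hF : Fintype.card F = 4) (W : Submodule F (Fin 6 → F)) : Set (Cfsg.PSU 6 F 2) :=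
  {x | ∃ v ∈ W, v ≠ 0 ∧ x = tau hF v}

theorem isPlane_span (hF : Fintype.card F = 4) {u : Fin 3 → (Fin 6 → F)} (h : Frame3 u) :
    IsPlane (Submodule.span F (Set.range u)) :=
  ⟨by rw [finrank_span_eq_card h.li, Fintype.card_fin], FischerM22.hf_span_zero hF (T := Set.range u)
    (by rintro _ ⟨i, rfl⟩ _ ⟨j, rfl⟩; exact h.orth i j)⟩

theorem IsPlane.exists_frame (P : IsPlane W) :
    ∃ u : Fin 3 → (Fin 6 → F), Frame3 u ∧ W = Submodule.span F (Set.range u) := by
  let b := Module.finBasisOfFinrankEq F W P.dim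
  refine ⟨fun i => (b i : Fin 6 → F),
    ⟨b.linearIndependent.map' W.subtype W.ker_subtype, fun i j => P.iso _ (b i).2 _ (b j).2⟩, ?_⟩
  rw [show Set.range (fun i => (b i : Fin 6 → F)) = W.subtype '' Set.range b from (Set.range_comp _ _),
    ← Submodule.map_span, b.span_eq, Submodule.map_top, Submodule.range_subtype]

theorem IsPlane.iso_of_mem (P : IsPlane W) {v : Fin 6 → F} (hv : v ∈ W) (h0 : v ≠ 0) : Iso v :=
  ⟨h0, P.iso v hv v hv⟩

theorem mem_iff_perp (hF : Fintype.card F = 4) {u : Fin 3 → (Fin 6 → F)} (h : Frame3 u) {x : Fin 6 → F} :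
    x ∈ Submodule.span F (Set.range u) ↔ ∀ i, hf x (u i) = 0 := by
  have hle : Submodule.span F (Set.range u) ≤ perp hF u := Submodule.span_le.2 (by
    rintro _ ⟨i, rfl⟩; exact (mem_perp hF).2 (h.orth i))
  have e := Submodule.eq_of_le_of_finrank_eq hle (by
    have := finrank_perp hF h.li
    rw [(isPlane_span hF h).dim]; omega)
  rw [e]; exact mem_perp hF

theorem IsPlane.mem_of_perp (P : IsPlane W) (hF : Fintype.card F = 4) {x : Fin 6 → F}
    (h : ∀ y ∈ W, hf x y = 0) : x ∈ W := by
  obtain ⟨u, hu, rfl⟩ := P.exists_frame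
  exact (mem_iff_perp hF hu).2 fun i => h _ (Submodule.subset_span ⟨i, rfl⟩)

theorem planeSet_card (hF : Fintype.card F = 4) (P : IsPlane W) : (planeSet hF W).ncard = 21 := by
  classical
  have h := M22Cover.ncard_fibres (tau hF) (fun v => v ∈ W ∧ v ≠ 0) (planeSet hF W) 3 ?_
  · have e : {v | tau hF v ∈ planeSet hF W ∧ v ∈ W ∧ v ≠ 0} = (W : Set (Fin 6 → F)) \ {0} := by
      ext v
      exact ⟨fun hv => hv.2, fun hv => ⟨⟨v, hv.1, hv.2, rfl⟩, hv⟩⟩
    rw [e, FischerM22.submodule_nonzero_card hF, P.dim] at h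
    omega
  · rintro _ ⟨v, hv, hv0, rfl⟩
    have hI := P.iso_of_mem hv hv0
    have e : {a | tau hF a = tau hF v ∧ a ∈ W ∧ a ≠ 0}
        = ↑(((Finset.univ : Finset F).erase 0).image fun c => c • v) := by
      ext a
      simp only [Set.mem_ofPred_eq, Finset.coe_image, Set.mem_image, Finset.mem_coe, Finset.mem_erase,
        Finset.mem_univ, and_true]
      constructor
      · rintro ⟨h, ha, ha0⟩
        obtain ⟨c, hc, rfl⟩ := tau_inj hF hI (P.iso_of_mem ha ha0) h.symm
        exact ⟨c, hc, rfl⟩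
      · rintro ⟨c, hc, rfl⟩
        exact ⟨tau_smul hF hI hc, W.smul_mem c hv, smul_ne_zero hc hv0⟩
    rw [e, Set.ncard_coe_finset, Finset.card_image_of_injective _ (smul_left_injective F hv0),
      Finset.card_erase_of_mem (Finset.mem_univ _), Finset.card_univ, hF]

/-! ### The pointwise stabiliser -/

/-- The elements fixing `W` pointwise. -/
def fixW (W : Submodule F (Fin 6 → F)) : Subgroup (Cfsg.SU 6 F 2) where
  carrier := {g | ∀ x ∈ W, act g x = x}
  one_mem' := fun x _ => act_one x
  mul_mem' := fun {g h} hg hh x hx => by rw [act_mul, hh x hx, hg x hx]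
  inv_mem' := fun {g} hg x hx => by conv_lhs => rw [← hg x hx, act_inv_act]

theorem mem_fixW {g : Cfsg.SU 6 F 2} : g ∈ fixW W ↔ ∀ x ∈ W, act g x = x := Iff.rfl

theorem tv_mem_fixW (hF : Fintype.card F = 4) (P : IsPlane W) {v : Fin 6 → F} (hv : v ∈ W) :
    tv hF v ∈ fixW W := fun x hx => act_tv_of_orth hF (P.iso v hv v hv) (P.iso x hx v hv)

theorem disp_mem (hF : Fintype.card F = 4) (P : IsPlane W) {g : Cfsg.SU 6 F 2} (hg : g ∈ fixW W)
    (x : Fin 6 → F) : act g x + x ∈ W :=
  P.mem_of_perp hF fun y hy => by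
    rw [hf_add_left hF]
    nth_rewrite 1 [← hg y hy]
    rw [act_hf, add_self hF]

theorem act_disp (hF : Fintype.card F = 4) (g : Cfsg.SU 6 F 2) (x : Fin 6 → F) :
    act g x = x + (act g x + x) := by
  rw [add_comm (act g x) x, ← add_assoc, vadd_self hF, zero_add]

theorem disp_mul (hF : Fintype.card F = 4) (P : IsPlane W) {g h : Cfsg.SU 6 F 2} (hg : g ∈ fixW W)
    (hh : h ∈ fixW W) (x : Fin 6 → F) :
    act (g * h) x + x = (act g x + x) + (act h x + x) := by
  rw [act_mul]
  conv_lhs => rw [act_disp hF h x, act_add, hg _ (disp_mem hF P hh x)]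
  abel

theorem fixW_comm (hF : Fintype.card F = 4) (P : IsPlane W) {g h : Cfsg.SU 6 F 2} (hg : g ∈ fixW W)
    (hh : h ∈ fixW W) : Commute g h := by
  refine act_ext fun x => ?_
  refine add_right_cancel (b := x) ?_
  rw [disp_mul hF P hg hh, disp_mul hF P hh hg, add_comm]

theorem fixW_sq (hF : Fintype.card F = 4) (P : IsPlane W) {g : Cfsg.SU 6 F 2} (hg : g ∈ fixW W) :
    g * g = 1 := by
  refine act_ext fun x => ?_
  refine add_right_cancel (b := x) ?_
  rw [disp_mul hF P hg hg, vadd_self hF, act_one, vadd_self hF]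

/-- Involutions of SU(6,2) with the same image are equal. -/
theorem eq_of_toPSU (hF : Fintype.card F = 4) {g h : Cfsg.SU 6 F 2} (hg : g * g = 1) (hh : h * h = 1)
    (e : toPSU 6 F g = toPSU 6 F h) : g = h := by
  have hz : (g * h) ^ 1 ∈ Subgroup.center (Cfsg.SU 6 F 2) := by
    refine toPSU_eq_one.1 ?_
    rw [pow_one, map_mul, e, ← map_mul, hh, map_one]
  have h1 := eq_one_of_pow_central hF (by norm_num) hg hh hz
  rw [pow_one, mul_eq_one_iff_eq_inv, inv_eq_of_mul_eq_one_left hh] at h1
  exact h1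

/-- The form attached to an element. -/
def form (g : Cfsg.SU 6 F 2) (x y : Fin 6 → F) : F := hf (act g x + x) y

theorem form_symm (hF : Fintype.card F = 4) (P : IsPlane W) {g : Cfsg.SU 6 F 2} (hg : g ∈ fixW W)
    (x y : Fin 6 → F) : form g y x = form g x y ^ 2 := by
  have e : hf (act g y) x = hf y (act g x) := by
    conv_lhs => rw [← act_one (F := F) x, ← fixW_sq hF P hg, act_mul]
    exact act_hf g y (act g x)
  unfold form
  rw [← hf_symm hF, hf_add_left hF, hf_add_right hF, e]

theorem form_mul (hF : Fintype.card F = 4) (P : IsPlane W) {g h : Cfsg.SU 6 F 2} (hg : g ∈ fixW W)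
    (hh : h ∈ fixW W) (x y : Fin 6 → F) : form (g * h) x y = form g x y + form h x y := by
  unfold form
  rw [disp_mul hF P hg hh, hf_add_left hF]

theorem form_tv (hF : Fintype.card F = 4) {v : Fin 6 → F} (hv : hf v v = 0) (x y : Fin 6 → F) :
    form (tv hF v) x y = hf x v * hf v y := by
  unfold form
  rw [act_tv hF hv, add_comm x, vadd_cancel hF, hf_smul_left hF]

theorem exists_duals (hF : Fintype.card F = 4) {u : Fin 3 → (Fin 6 → F)} (h : Frame3 u) :
    ∃ f : Fin 3 → (Fin 6 → F), ∀ k i, hf (f k) (u i) = if k = i then 1 else 0 := by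
  have := fun k : Fin 3 => exists_dual hF h.li (fun i => if k = i then (1 : F) else 0)
  choose f hf' using this
  exact ⟨f, hf'⟩

theorem fixW_ext (hF : Fintype.card F = 4) {u : Fin 3 → (Fin 6 → F)} (hu : Frame3 u)
    {f : Fin 3 → (Fin 6 → F)} (hf' : ∀ k i, hf (f k) (u i) = if k = i then 1 else 0)
    {g h : Cfsg.SU 6 F 2} (hg : g ∈ fixW (Submodule.span F (Set.range u)))
    (hh : h ∈ fixW (Submodule.span F (Set.range u))) (e : ∀ k l, form g (f k) (f l) = form h (f k) (f l)) :
    g = h := by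
  have P := isPlane_span hF hu
  -- the displacements agree
  have coord : ∀ w ∈ Submodule.span F (Set.range u), (∀ l, hf w (f l) = 0) → w = 0 := by
    intro w hw h0
    obtain ⟨c, rfl⟩ := (Submodule.mem_span_range_iff_exists_fun F).1 hw
    refine Finset.sum_eq_zero fun i _ => ?_
    have hi := h0 i
    rw [Fin.sum_univ_three, hf_add_left hF, hf_add_left hF, hf_smul_left hF, hf_smul_left hF,
      hf_smul_left hF] at hi
    have hfu : ∀ j, hf (u j) (f i) = if i = j then 1 else 0 := fun j => by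
      rw [hf_symm hF (f i) (u j), hf' i j]; split <;> simp
    rw [hfu, hfu, hfu] at hi
    fin_cases i <;> simp at hi <;> simp [hi]
  have hk : ∀ k, act g (f k) = act h (f k) := fun k => by
    refine add_right_cancel (b := f k) ?_
    refine (eq_of_sub_eq_zero (coord _ (Submodule.sub_mem _ (disp_mem hF P hg _) (disp_mem hF P hh _)) fun l => ?_))
    rw [show ∀ p q : Fin 6 → F, p - q = p + q from fun p q => by
      funext i; simp only [Pi.sub_apply, Pi.add_apply]; linear_combination -q i * two_eq_zero hF,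
      hf_add_left hF]
    have := e k l
    unfold form at this
    rw [this, add_self hF]
  refine act_ext fun x => ?_
  set y := x + (hf x (u 0) • f 0 + hf x (u 1) • f 1 + hf x (u 2) • f 2) with hy
  have hyW : y ∈ Submodule.span F (Set.range u) := by
    refine (mem_iff_perp hF hu).2 fun i => ?_
    rw [hy, hf_add_left hF, hf_add_left hF, hf_add_left hF, hf_smul_left hF, hf_smul_left hF,
      hf_smul_left hF, hf', hf', hf']
    fin_cases i <;> simp <;> exact add_self hF _
  have hx : x = y + (hf x (u 0) • f 0 + hf x (u 1) • f 1 + hf x (u 2) • f 2) := by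
    rw [hy, vadd_cancel hF]
  rw [hx]
  simp only [act_add, act_smul, hk, hg y hyW, hh y hyW]

/-- The elements fixing a plane, through their forms on dual vectors. -/
theorem fixW_data (hF : Fintype.card F = 4) (P : IsPlane W) :
    Nat.card ↥(fixW W) = 512 ∧ ∀ g ∈ fixW W, g ∈ Subgroup.closure {t | ∃ v ∈ W, v ≠ 0 ∧ t = tv hF v} := by
  classical
  obtain ⟨u, hu, hW⟩ := P.exists_frame
  obtain ⟨f, hf'⟩ := exists_duals hF hu
  have hfu : ∀ k j, hf (u j) (f k) = if k = j then 1 else 0 := fun k j => by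
    rw [hf_symm hF (f k) (u j), hf' k j]; split <;> simp
  have huW : ∀ i, u i ∈ W := fun i => hW ▸ Submodule.subset_span ⟨i, rfl⟩
  set N := Subgroup.closure {t | ∃ v ∈ W, v ≠ 0 ∧ t = tv hF v} with hN
  have hle : N ≤ fixW W := (Subgroup.closure_le _).2 (by
    rintro _ ⟨v, hv, -, rfl⟩; exact tv_mem_fixW hF P hv)
  let T := (Fin 3 → {a : F // a ^ 2 = a}) × (F × F × F)
  let dat : ↥(fixW W) → T := fun g =>
    (fun k => ⟨form (g : Cfsg.SU 6 F 2) (f k) (f k), (form_symm hF P g.2 (f k) (f k)).symm⟩,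
      form (g : Cfsg.SU 6 F 2) (f 0) (f 1), form (g : Cfsg.SU 6 F 2) (f 0) (f 2),
      form (g : Cfsg.SU 6 F 2) (f 1) (f 2))
  have hinj : Function.Injective dat := by
    intro g h e
    obtain ⟨e1, e2⟩ := Prod.ext_iff.1 e
    obtain ⟨a, e3⟩ := Prod.ext_iff.1 e2
    obtain ⟨b, c⟩ := Prod.ext_iff.1 e3
    have d : ∀ k, form (g : Cfsg.SU 6 F 2) (f k) (f k) = form (h : Cfsg.SU 6 F 2) (f k) (f k) :=
      fun k => congrArg Subtype.val (congrFun e1 k)
    dsimp only [dat] at a b c
    have hg := g.2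
    have hh := h.2
    refine Subtype.ext (fixW_ext hF hu hf' (hW ▸ hg) (hW ▸ hh) fun k l => ?_)
    fin_cases k <;> fin_cases l <;> first
      | exact d _
      | assumption
      | (rw [form_symm hF P hg, form_symm hF P hh]; exact congrArg (· ^ 2) (by assumption))
  -- every datum occurs in the group generated by the transvections
  let t : (Fin 6 → F) → Cfsg.SU 6 F 2 := fun v => if v ∈ W ∧ v ≠ 0 then tv hF v else 1
  have ht : ∀ v, t v ∈ N := fun v => by
    simp only [t]; split
    next h => exact Subgroup.subset_closure ⟨v, h.1, h.2, rfl⟩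
    next => exact one_mem _
  have htu : ∀ i, t (u i) = tv hF (u i) := fun i => if_pos ⟨huW i, hu.li.ne_zero i⟩
  let diag : Fin 3 → F → Cfsg.SU 6 F 2 := fun i a => if a = 0 then 1 else tv hF (u i)
  have hdiag : ∀ i a, diag i a ∈ N := fun i a => by
    simp only [diag]; split
    next => exact one_mem _
    next => exact Subgroup.subset_closure ⟨_, huW i, hu.li.ne_zero i, rfl⟩
  let off : Fin 3 → Fin 3 → F → Cfsg.SU 6 F 2 := fun i j c =>
    if c = 0 then 1 else t (u i + c • u j) * (tv hF (u i) * tv hF (u j))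
  have hoff : ∀ i j c, off i j c ∈ N := fun i j c => by
    simp only [off]; split
    next => exact one_mem _
    next => exact mul_mem (ht _) (mul_mem (Subgroup.subset_closure ⟨_, huW i, hu.li.ne_zero i, rfl⟩)
      (Subgroup.subset_closure ⟨_, huW j, hu.li.ne_zero j, rfl⟩))
  have fdiag : ∀ i a k l, a ^ 2 = a → form (diag i a) (f k) (f l) = if k = i ∧ l = i then a else 0 := by
    intro i a k l ha
    simp only [diag]
    by_cases h0 : a = 0
    · rw [if_pos h0]; simp [form, act_one, vadd_self hF, hf_zero_left hF, h0]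
    · rw [if_neg h0, form_tv hF (hu.orth i i), hf', hfu, fixed_eq_one hF ha h0]
      split_ifs <;> simp_all
  have foff : ∀ i j c k l, i ≠ j → form (off i j c) (f k) (f l) =
      (if k = i ∧ l = j then c else 0) + (if k = j ∧ l = i then c ^ 2 else 0) := by
    intro i j c k l hij
    simp only [off]
    by_cases h0 : c = 0
    · rw [if_pos h0]; simp [form, act_one, vadd_self hF, hf_zero_left hF, h0]
    have hv : u i + c • u j ∈ W := W.add_mem (huW i) (W.smul_mem c (huW j))
    have hv0 : u i + c • u j ≠ 0 := fun e => by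
      have := congrArg (fun z => hf z (f i)) e
      simp only [hf_add_left hF, hf_smul_left hF, hfu, hf_zero_left hF] at this
      simp [hij] at this
    rw [if_neg h0, form_mul hF P (hle (ht _)) (mul_mem (tv_mem_fixW hF P (huW i)) (tv_mem_fixW hF P (huW j))),
      form_mul hF P (tv_mem_fixW hF P (huW i)) (tv_mem_fixW hF P (huW j)),
      show t (u i + c • u j) = tv hF (u i + c • u j) from if_pos ⟨hv, hv0⟩, form_tv hF (P.iso _ hv _ hv),
      form_tv hF (hu.orth i i), form_tv hF (hu.orth j j), hf_add_right hF, hf_smul_right hF,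
      hf_add_left hF, hf_smul_left hF, hf', hf', hfu, hfu]
    have h3 := pow_three hF h0
    split_ifs <;> first | (exfalso; simp_all; done) | (simp_all; done) |
      (simp only [mul_one, mul_zero, zero_mul, add_zero, zero_add, one_mul]
       first
         | linear_combination two_eq_zero hF
         | linear_combination h3 + two_eq_zero hF
         | linear_combination h3 * (1 : F))
  have hsurj : ∀ T0 : T, ∃ g : ↥(fixW W), (g : Cfsg.SU 6 F 2) ∈ N ∧ dat g = T0 := by
    rintro ⟨a, p, q, r⟩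
    set g := diag 0 (a 0).1 * diag 1 (a 1).1 * diag 2 (a 2).1 * off 0 1 p * off 0 2 q * off 1 2 r with hg
    have hgN : g ∈ N := mul_mem (mul_mem (mul_mem (mul_mem (mul_mem (hdiag _ _) (hdiag _ _)) (hdiag _ _))
      (hoff _ _ _)) (hoff _ _ _)) (hoff _ _ _)
    refine ⟨⟨g, hle hgN⟩, hgN, ?_⟩
    have m1 := fun i x => hle (hdiag i x)
    have m2 := fun i j x => hle (hoff i j x)
    have key : ∀ k l, form g (f k) (f l) =
        ((((( if k = 0 ∧ l = 0 then (a 0).1 else 0) + (if k = 1 ∧ l = 1 then (a 1).1 else 0))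
          + (if k = 2 ∧ l = 2 then (a 2).1 else 0))
          + ((if k = 0 ∧ l = 1 then p else 0) + (if k = 1 ∧ l = 0 then p ^ 2 else 0)))
          + ((if k = 0 ∧ l = 2 then q else 0) + (if k = 2 ∧ l = 0 then q ^ 2 else 0)))
          + ((if k = 1 ∧ l = 2 then r else 0) + (if k = 2 ∧ l = 1 then r ^ 2 else 0)) := by
      intro k l
      rw [hg, form_mul hF P (mul_mem (mul_mem (mul_mem (mul_mem (m1 _ _) (m1 _ _)) (m1 _ _)) (m2 _ _ _)) (m2 _ _ _)) (m2 _ _ _),
        form_mul hF P (mul_mem (mul_mem (mul_mem (m1 _ _) (m1 _ _)) (m1 _ _)) (m2 _ _ _)) (m2 _ _ _),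
        form_mul hF P (mul_mem (mul_mem (m1 _ _) (m1 _ _)) (m1 _ _)) (m2 _ _ _),
        form_mul hF P (mul_mem (m1 _ _) (m1 _ _)) (m1 _ _), form_mul hF P (m1 _ _) (m1 _ _),
        fdiag _ _ _ _ (a 0).2, fdiag _ _ _ _ (a 1).2, fdiag _ _ _ _ (a 2).2,
        foff _ _ _ _ _ (by decide), foff _ _ _ _ _ (by decide), foff _ _ _ _ _ (by decide)]
    refine Prod.ext (funext fun k => Subtype.ext ?_) (Prod.ext ?_ (Prod.ext ?_ ?_))
    · show form g (f k) (f k) = (a k).1
      rw [key]; fin_cases k <;> simp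
    all_goals (show form g _ _ = _; rw [key]; simp)
  refine ⟨?_, fun g hg => ?_⟩
  · rw [Nat.card_congr (Equiv.ofBijective dat ⟨hinj, fun T0 => ?_⟩)]
    · have h2 : Nat.card {a : F // a ^ 2 = a} = 2 := by
        rw [← Set.coe_ofPred, Nat.card_coe_set_eq]
        rw [show {a : F | a ^ 2 = a} = {0, 1} from Set.ext fun a => ⟨fun h => by
          rcases eq_or_ne a 0 with rfl | h0
          · exact Or.inl rfl
          · exact Or.inr (fixed_eq_one hF h h0), by rintro (rfl | rfl) <;> simp⟩,
          Set.ncard_pair zero_ne_one]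
      show Nat.card ((Fin 3 → {a : F // a ^ 2 = a}) × (F × F × F)) = 512
      rw [Nat.card_prod, Nat.card_fun, Nat.card_prod, Nat.card_prod, h2, Nat.card_fin,
        Nat.card_eq_fintype_card (α := F), hF]
      norm_num
    · obtain ⟨g, -, e⟩ := hsurj T0; exact ⟨g, e⟩
  · obtain ⟨h, hh, e⟩ := hsurj (dat ⟨g, hg⟩)
    rw [← show (h : Cfsg.SU 6 F 2) = g from congrArg Subtype.val (hinj e)]
    exact hh

theorem card_fixW (hF : Fintype.card F = 4) (P : IsPlane W) : Nat.card ↥(fixW W) = 512 := (fixW_data hF P).1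

/-- The image of the pointwise stabiliser. -/
def spanW (W : Submodule F (Fin 6 → F)) : Subgroup (Cfsg.PSU 6 F 2) := (fixW W).map (toPSU 6 F)

theorem spanW_card (hF : Fintype.card F = 4) (P : IsPlane W) : Nat.card ↥(spanW W) = 512 := by
  rw [← card_fixW hF P]
  refine (Nat.card_congr (Equiv.ofBijective (fun g : ↥(fixW W) => (⟨toPSU 6 F g, _, g.2, rfl⟩ : ↥(spanW W)))
    ⟨fun g h e => ?_, ?_⟩)).symm
  · exact Subtype.ext (eq_of_toPSU hF (fixW_sq hF P g.2) (fixW_sq hF P h.2) (congrArg Subtype.val e))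
  · rintro ⟨_, g, hg, rfl⟩; exact ⟨⟨g, hg⟩, rfl⟩

theorem spanW_eq_closure (hF : Fintype.card F = 4) (P : IsPlane W) :
    spanW W = Subgroup.closure (planeSet hF W) := by
  refine le_antisymm ?_ ((Subgroup.closure_le _).2 ?_)
  · have hle : fixW W ≤ (Subgroup.closure (planeSet hF W)).comap (toPSU 6 F) := fun g hg =>
      (show Subgroup.closure {t | ∃ v ∈ W, v ≠ 0 ∧ t = tv hF v}
          ≤ (Subgroup.closure (planeSet hF W)).comap (toPSU 6 F) from
        (Subgroup.closure_le _).2 fun t ht => by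
          obtain ⟨v, hv, hv0, rfl⟩ := ht
          exact Subgroup.subset_closure (show toPSU 6 F (tv hF v) ∈ planeSet hF W from ⟨v, hv, hv0, rfl⟩))
        ((fixW_data hF P).2 g hg)
    exact Subgroup.map_le_iff_le_comap.2 hle
  · rintro _ ⟨v, hv, -, rfl⟩
    exact ⟨_, tv_mem_fixW hF P hv, rfl⟩

theorem spanW_sq (hF : Fintype.card F = 4) (P : IsPlane W) {x : Cfsg.PSU 6 F 2} (hx : x ∈ spanW W) :
    x * x = 1 := by
  obtain ⟨g, hg, rfl⟩ := hx
  rw [← map_mul, fixW_sq hF P hg, map_one]

theorem spanW_comm (hF : Fintype.card F = 4) (P : IsPlane W) {x y : Cfsg.PSU 6 F 2} (hx : x ∈ spanW W)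
    (hy : y ∈ spanW W) : Commute x y := by
  obtain ⟨g, hg, rfl⟩ := hx
  obtain ⟨h, hh, rfl⟩ := hy
  exact (fixW_comm hF P hg hh).map _

theorem mem_spanW_of_commute (hF : Fintype.card F = 4) (P : IsPlane W) {x : Cfsg.PSU 6 F 2} (hx : x * x = 1)
    (hc : ∀ b ∈ planeSet hF W, Commute b x) : x ∈ spanW W := by
  obtain ⟨y, hy, rfl⟩ := exists_lift_involution hF (by norm_num) hx
  refine ⟨y, fun v hv => ?_, rfl⟩
  rcases eq_or_ne v 0 with rfl | hv0
  · exact act_zero y
  have hI := P.iso_of_mem hv hv0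
  have h1 := tau_conj hF y hI
  rw [← (hc _ ⟨v, hv, hv0, rfl⟩).eq, mul_inv_cancel_right] at h1
  obtain ⟨c, hc0, e⟩ := tau_inj hF hI (hI.act y) h1
  have h2 : c * c = 1 := by
    have := congrArg (act y) e
    rw [← act_mul, hy, act_one, act_smul, e, smul_smul] at this
    exact (smul_left_injective F hv0 (show (1 : F) • v = (c * c) • v by rw [one_smul]; exact this)).symm
  have h3 := pow_three hF hc0
  rw [e, show c = 1 by linear_combination h3 - c * h2, one_smul]

/-- The elements of the span. -/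
theorem spanW_cases (hF : Fintype.card F = 4) (P : IsPlane W) {x : Cfsg.PSU 6 F 2} (hx : x ∈ spanW W) :
    x = 1 ∨ x ∈ planeSet hF W ∨ (∃ u w, u ∈ W ∧ w ∈ W ∧ OrthPair u w ∧ x = tau hF u * tau hF w) ∨
      ∃ u : Fin 3 → (Fin 6 → F), Frame3 u ∧ (∀ i, u i ∈ W) ∧
        x = tau hF (u 0) * tau hF (u 1) * tau hF (u 2) := by
  obtain ⟨g, hg, rfl⟩ := hx
  obtain ⟨m, u, hli, horth, rfl⟩ := exists_indep hF g (fixW_sq hF P hg)
  have hm := two_mul_le hF hli horth
  have hI : ∀ i, Iso (u i) := fun i => ⟨hli.ne_zero i, horth i i⟩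
  -- the centres lie in `W`
  have hmemW : ∀ i, u i ∈ W := by
    intro i
    obtain ⟨x, hx⟩ := exists_dual hF hli (Pi.single i 1)
    have := disp_mem hF P hg x
    match m, u, hli, horth, hm, hI, i, hx, this with
    | 0, _, _, _, _, _, i, _, _ => exact i.elim0
    | 1, u, _, horth, _, _, i, hx, this =>
      obtain rfl : i = 0 := Subsingleton.elim _ _
      simp only [List.ofFn_succ, List.ofFn_zero, List.prod_cons, List.prod_nil, mul_one] at this
      rw [act_tv hF (horth 0 0), add_comm x, vadd_cancel hF, hx 0] at this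
      simpa using this
    | 2, u, _, horth, _, _, i, hx, this =>
      simp only [List.ofFn_succ, List.ofFn_zero, List.prod_cons, List.prod_nil, mul_one, act_mul] at this
      rw [act_tv hF (horth (Fin.succ 0) (Fin.succ 0)), act_tv hF (horth 0 0), hf_add_left hF,
        hf_smul_left hF, horth, hx, hx] at this
      fin_cases i <;> simpa [add_comm x, add_left_comm x, add_assoc, vadd_self hF] using this
    | 3, u, _, horth, _, _, i, hx, this =>
      simp only [List.ofFn_succ, List.ofFn_zero, List.prod_cons, List.prod_nil, mul_one, act_mul] at this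
      simp only [act_tv hF (horth _ _), hf_add_left hF, hf_smul_left hF, horth, hx] at this
      fin_cases i <;> simpa [add_comm x, add_left_comm x, add_assoc, vadd_self hF] using this
    | m + 4, _, _, _, hm, _, _, _, _ => omega
  match m, u, hli, horth, hm, hI, hmemW with
  | 0, u, _, _, _, _, _ => left; simp
  | 1, u, _, _, _, hI, hW =>
    right; left
    exact ⟨u 0, hW 0, (hI 0).1, by simp [tau]⟩
  | 2, u, hli, horth, _, hI, hW =>
    right; right; left
    refine ⟨u 0, u 1, hW 0, hW 1, ⟨hI 0, hI 1, horth 0 1, fun c e => ?_⟩, by simp [tau]⟩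
    have := hli.notMem_span_image (s := {0}) (x := 1) (by simp)
    rw [Set.image_singleton, Submodule.mem_span_singleton] at this
    exact this ⟨c, e.symm⟩
  | 3, u, hli, horth, _, _, hW =>
    right; right; right
    exact ⟨u, ⟨hli, horth⟩, hW, by simp [tau, mul_assoc]⟩
  | m + 4, _, _, _, hm, _, _ => omega

/-- A product of two commuting members determines them. -/
theorem pair_unique (hF : Fintype.card F = 4) {u w u' w' : Fin 6 → F} (h : OrthPair u w)
    (h' : OrthPair u' w') (e : tau hF u' * tau hF w' = tau hF u * tau hF w) :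
    tau hF u' = tau hF u ∨ tau hF u' = tau hF w := by
  have inv : ∀ {u w : Fin 6 → F}, OrthPair u w → tv hF u * tv hF w * (tv hF u * tv hF w) = 1 := by
    intro u w h
    have hc : Commute (tv hF w) (tv hF u) := tv_comm hF h.2.1.2 h.1.2 h.2.2.1
    rw [hc.mul_mul_mul_comm, tv_sq hF h.1.2, tv_sq hF h.2.1.2, one_mul]
  have e' : tv hF u' * tv hF w' = tv hF u * tv hF w := eq_of_toPSU hF (inv h') (inv h) (by
    rw [map_mul, map_mul]; exact e)
  have disp : ∀ {u w : Fin 6 → F}, OrthPair u w → ∀ x,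
      act (tv hF u * tv hF w) x + x = hf x u • u + hf x w • w := by
    intro u w h x
    rw [act_mul, act_tv hF h.2.1.2, act_tv hF h.1.2, hf_add_left hF, hf_smul_left hF,
      (hf_eq_zero_symm hF).1 h.2.2.1, mul_zero, add_zero]
    rw [show x + hf x w • w + hf x u • u + x = hf x u • u + hf x w • w + (x + x) by abel, vadd_self hF, add_zero]
  have key : ∀ x, hf x u • u + hf x w • w = hf x u' • u' + hf x w' • w' := fun x => by
    rw [← disp h, ← disp h', e']
  -- `u'` and `w'` are combinations of `u` and `w`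
  obtain ⟨x0, hx0⟩ := exists_dual hF h'.li ![1, 0]
  obtain ⟨x1, hx1⟩ := exists_dual hF h'.li ![0, 1]
  obtain ⟨y0, hy0⟩ := exists_dual hF h.li ![1, 0]
  obtain ⟨y1, hy1⟩ := exists_dual hF h.li ![0, 1]
  have k0 := key x0
  have k1 := key x1
  rw [show hf x0 u' = 1 from hx0 0, show hf x0 w' = 0 from hx0 1, one_smul, zero_smul, add_zero] at k0
  rw [show hf x1 u' = 0 from hx1 0, show hf x1 w' = 1 from hx1 1, one_smul, zero_smul, zero_add] at k1
  set α := hf x0 u
  set β := hf x0 w
  set γ := hf x1 u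
  set ε := hf x1 w
  have c1 := key y0
  have c2 := key y1
  rw [show hf y0 u = 1 from hy0 0, show hf y0 w = 0 from hy0 1, one_smul, zero_smul, add_zero] at c1
  rw [show hf y1 u = 0 from hy1 0, show hf y1 w = 1 from hy1 1, one_smul, zero_smul, zero_add] at c2
  have a1 : hf y0 u' = α ^ 2 := by
    rw [← k0, hf_add_right hF, hf_smul_right hF, hf_smul_right hF, show hf y0 u = 1 from hy0 0,
      show hf y0 w = 0 from hy0 1, mul_one, mul_zero, add_zero]
  have a2 : hf y0 w' = γ ^ 2 := by
    rw [← k1, hf_add_right hF, hf_smul_right hF, hf_smul_right hF, show hf y0 u = 1 from hy0 0,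
      show hf y0 w = 0 from hy0 1, mul_one, mul_zero, add_zero]
  have a3 : hf y1 u' = β ^ 2 := by
    rw [← k0, hf_add_right hF, hf_smul_right hF, hf_smul_right hF, show hf y1 u = 0 from hy1 0,
      show hf y1 w = 1 from hy1 1, mul_one, mul_zero, zero_add]
  have a4 : hf y1 w' = ε ^ 2 := by
    rw [← k1, hf_add_right hF, hf_smul_right hF, hf_smul_right hF, show hf y1 u = 0 from hy1 0,
      show hf y1 w = 1 from hy1 1, mul_one, mul_zero, zero_add]
  rw [a1, a2, ← k0, ← k1] at c1
  rw [a3, a4, ← k0, ← k1] at c2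
  have p1 := congrArg (fun z => hf z y0) c1
  have p2 := congrArg (fun z => hf z y1) c2
  have hu0 : hf u y0 = 1 := hf_eq_one_symm hF (hy0 0)
  have hw0 : hf w y0 = 0 := (hf_eq_zero_symm hF).1 (hy0 1)
  have hu1 : hf u y1 = 0 := (hf_eq_zero_symm hF).1 (hy1 0)
  have hw1 : hf w y1 = 1 := hf_eq_one_symm hF (hy1 1)
  simp only [hf_add_left hF, hf_smul_left hF, hu0, hw0, hu1, hw1, mul_one, mul_zero, add_zero, zero_add] at p1 p2
  have norm : ∀ {s : F}, s ≠ 0 → s ^ 2 * s = 1 := fun {s} hs => by rw [mul_comm, mul_sq_self hF hs]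
  rcases eq_or_ne γ 0 with hγ | hγ
  · refine Or.inl ?_
    have hε : ε ≠ 0 := fun h0 => h'.2.1.1 (by rw [← k1, hγ, h0, zero_smul, zero_smul, add_zero])
    have hβ : β = 0 := by
      by_contra hb
      rw [norm hb, norm hε, add_self hF] at p2
      exact one_ne_zero p2
    have hα : α ≠ 0 := fun h0 => h'.1.1 (by rw [← k0, hβ, h0, zero_smul, zero_smul, add_zero])
    rw [← k0, hβ, zero_smul, add_zero, tau_smul hF h.1 hα]
  · refine Or.inr ?_
    have hα : α = 0 := by
      by_contra ha
      rw [norm ha, norm hγ, add_self hF] at p1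
      exact one_ne_zero p1
    have hβ : β ≠ 0 := fun h0 => h'.1.1 (by rw [← k0, hα, h0, zero_smul, zero_smul, add_zero])
    rw [← k0, hα, zero_smul, zero_add, tau_smul hF h.2.1 hβ]

end Cfsg.Agent.U62Base
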