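/-
The planes as bases of PSU(6,2): conjugacy, Sylow subgroups, abelian subgroups normalising one.

* `plane_conj_exists`, `sylow_plane`, `involution_plane` : planes are conjugate; a Sylow two-subgroup determines one;
* `fixed_five` : an outside involution normalising a plane fixes five of its points;
* `abelian_eq` : an elementary abelian group of order at least 2 ^ 9 normalising a plane is its span.
-/
import Cfsg.Agent.Lib.U62Base.Plane
import Cfsg.Agent.Lib.U62Cover.Lift

set_option autoImplicit false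

namespace Cfsg.Agent.U62Base

open Cfsg.Agent.Unitary Cfsg.Agent.U62Cover Cfsg.Agent.ThreeTransSU

variable {F : Type*} [Field F] [Fintype F] {W W' : Submodule F (Fin 6 → F)}

/-- The displacement of a product of two orthogonal transvections. -/
theorem disp_two (hF : Fintype.card F = 4) {u w : Fin 6 → F} (hu : hf u u = 0) (hw : hf w w = 0)
    (h : hf u w = 0) (x : Fin 6 → F) :
    act (tv hF u * tv hF w) x + x = hf x u • u + hf x w • w := by
  rw [act_mul, act_tv hF hw, act_tv hF hu, hf_add_left hF, hf_smul_left hF,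
    (hf_eq_zero_symm hF).1 h, mul_zero, add_zero]
  rw [show x + hf x w • w + hf x u • u + x = hf x u • u + hf x w • w + (x + x) by abel, vadd_self hF, add_zero]

/-- The displacement of a product of three orthogonal transvections. -/
theorem disp_three (hF : Fintype.card F = 4) {u : Fin 3 → (Fin 6 → F)} (h : Frame3 u) (x : Fin 6 → F) :
    act (tv hF (u 0) * tv hF (u 1) * tv hF (u 2)) x + x
      = hf x (u 0) • u 0 + hf x (u 1) • u 1 + hf x (u 2) • u 2 := by
  rw [act_mul, act_tv hF (h.orth 2 2), act_add, act_smul]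
  have e1 : act (tv hF (u 0) * tv hF (u 1)) (u 2) = u 2 := by
    rw [act_mul, act_tv_of_orth hF (h.orth 1 1) (h.orth 2 1), act_tv_of_orth hF (h.orth 0 0) (h.orth 2 0)]
  rw [e1, show act (tv hF (u 0) * tv hF (u 1)) x + hf x (u 2) • u 2 + x
      = act (tv hF (u 0) * tv hF (u 1)) x + x + hf x (u 2) • u 2 by abel,
    disp_two hF (h.orth 0 0) (h.orth 1 1) (h.orth 0 1)]

theorem three_sq (hF : Fintype.card F = 4) {u : Fin 3 → (Fin 6 → F)} (h : Frame3 u) :
    tv hF (u 0) * tv hF (u 1) * tv hF (u 2) * (tv hF (u 0) * tv hF (u 1) * tv hF (u 2)) = 1 := by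
  have P := isPlane_span hF h
  have m : ∀ i, tv hF (u i) ∈ fixW (Submodule.span F (Set.range u)) := fun i =>
    tv_mem_fixW hF P (Submodule.subset_span ⟨i, rfl⟩)
  exact fixW_sq hF P (mul_mem (mul_mem (m 0) (m 1)) (m 2))

/-- The centres of a product of three lie in every plane it fixes. -/
theorem frame_mem (hF : Fintype.card F = 4) (P : IsPlane W) {u : Fin 3 → (Fin 6 → F)} (h : Frame3 u)
    (hx : tau hF (u 0) * tau hF (u 1) * tau hF (u 2) ∈ spanW W) (i : Fin 3) : u i ∈ W := by
  obtain ⟨g, hg, e⟩ := hx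
  have e' : g = tv hF (u 0) * tv hF (u 1) * tv hF (u 2) :=
    eq_of_toPSU hF (fixW_sq hF P hg) (three_sq hF h) (by rw [map_mul, map_mul]; exact e)
  subst e'
  obtain ⟨x, hx⟩ := exists_dual hF h.li (Pi.single i 1)
  have := disp_mem hF P hg x
  rw [disp_three hF h, hx, hx, hx] at this
  fin_cases i <;> simpa using this

/-- A product of three is not a product of two. -/
theorem three_ne_two (hF : Fintype.card F = 4) {u : Fin 3 → (Fin 6 → F)} (h : Frame3 u) {p q : Fin 6 → F}
    (hp : hf p p = 0) (hq : hf q q = 0) (hpq : hf p q = 0) :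
    tau hF (u 0) * tau hF (u 1) * tau hF (u 2) ≠ tau hF p * tau hF q := by
  intro e
  have hc : Commute (tv hF q) (tv hF p) := tv_comm hF hq hp hpq
  have e' : tv hF (u 0) * tv hF (u 1) * tv hF (u 2) = tv hF p * tv hF q :=
    eq_of_toPSU hF (three_sq hF h) (by rw [hc.mul_mul_mul_comm, tv_sq hF hp, tv_sq hF hq, one_mul])
      (by simp only [map_mul]; exact e)
  have hmem : ∀ i, u i ∈ Submodule.span F ({p, q} : Set (Fin 6 → F)) := fun i => by
    obtain ⟨x, hx⟩ := exists_dual hF h.li (Pi.single i 1)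
    have := disp_three hF h x
    rw [e', disp_two hF hp hq hpq, hx, hx, hx] at this
    refine Submodule.mem_span_pair.2 ⟨hf x p, hf x q, ?_⟩
    fin_cases i <;> simpa using this
  have hle : Submodule.span F (Set.range u) ≤ Submodule.span F ({p, q} : Set (Fin 6 → F)) :=
    Submodule.span_le.2 (by rintro _ ⟨i, rfl⟩; exact hmem i)
  have h1 := Submodule.finrank_mono hle
  rw [finrank_span_eq_card h.li, Fintype.card_fin] at h1
  classical
  have h2 := finrank_span_finset_le_card (R := F) ({p, q} : Finset (Fin 6 → F))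
  have h3 : ({p, q} : Finset (Fin 6 → F)).card ≤ 2 := Finset.card_le_two
  rw [Set.finrank, Finset.coe_insert, Finset.coe_singleton] at h2
  omega

/-- Planes are conjugate. -/
theorem plane_conj_exists (hF : Fintype.card F = 4) (P : IsPlane W) (P' : IsPlane W') :
    ∃ g : Cfsg.SU 6 F 2, ∀ v, v ∈ W ↔ act g v ∈ W' := by
  obtain ⟨u, hu, rfl⟩ := P.exists_frame
  obtain ⟨w, hw, rfl⟩ := P'.exists_frame
  obtain ⟨g, c, hc, g0, g1, g2⟩ := exists_act_three hF hu hw
  let L : (Fin 6 → F) →ₗ[F] (Fin 6 → F) :=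
    { toFun := fun x => act g x, map_add' := act_add g, map_smul' := act_smul g }
  have hmap : (Submodule.span F (Set.range u)).map L = Submodule.span F (Set.range w) := by
    rw [Submodule.map_span]
    refine le_antisymm (Submodule.span_le.2 ?_) (Submodule.span_le.2 ?_)
    · rintro _ ⟨_, ⟨i, rfl⟩, rfl⟩
      show act g (u i) ∈ _
      fin_cases i
      · exact g0 ▸ Submodule.subset_span ⟨0, rfl⟩
      · exact g1 ▸ Submodule.subset_span ⟨1, rfl⟩
      · exact g2 ▸ Submodule.smul_mem _ c (Submodule.subset_span ⟨2, rfl⟩)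
    · rintro _ ⟨i, rfl⟩
      have key : ∀ j, act g (u j) ∈ Submodule.span F (L '' Set.range u) := fun j =>
        Submodule.subset_span ⟨_, ⟨j, rfl⟩, rfl⟩
      fin_cases i
      · exact g0 ▸ key 0
      · exact g1 ▸ key 1
      · have := Submodule.smul_mem _ c⁻¹ (key 2)
        rwa [g2, smul_smul, inv_mul_cancel₀ hc, one_smul] at this
  refine ⟨g, fun v => ⟨fun hv => hmap ▸ ⟨v, hv, rfl⟩, fun hv => ?_⟩⟩
  rw [← hmap] at hv
  obtain ⟨v', hv', e⟩ := hv
  exact (act_eq_iff g).1 e ▸ hv'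

theorem planeSet_conj (hF : Fintype.card F = 4) (P : IsPlane W) {g : Cfsg.SU 6 F 2}
    (hg : ∀ v ∈ W, act g v ∈ W') {b : Cfsg.PSU 6 F 2} (hb : b ∈ planeSet hF W) :
    toPSU 6 F g * b * (toPSU 6 F g)⁻¹ ∈ planeSet hF W' := by
  obtain ⟨v, hv, hv0, rfl⟩ := hb
  have hI := P.iso_of_mem hv hv0
  exact ⟨act g v, hg v hv, (hI.act g).1, tau_conj hF g hI⟩

theorem planeSet_conj_exists (hF : Fintype.card F = 4) (P : IsPlane W) (P' : IsPlane W') :
    ∃ g : Cfsg.PSU 6 F 2, ∀ b ∈ planeSet hF W, g * b * g⁻¹ ∈ planeSet hF W' := by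
  obtain ⟨g, hg⟩ := plane_conj_exists hF P P'
  exact ⟨_, fun b hb => planeSet_conj hF P (fun v hv => (hg v).1 hv) hb⟩

theorem spanW_conj (hF : Fintype.card F = 4) (P : IsPlane W) (P' : IsPlane W') {g x : Cfsg.PSU 6 F 2}
    (hg : ∀ b ∈ planeSet hF W, g * b * g⁻¹ ∈ planeSet hF W') (hx : x ∈ spanW W) :
    g * x * g⁻¹ ∈ spanW W' := by
  rw [spanW_eq_closure hF P] at hx
  rw [spanW_eq_closure hF P']
  exact (show Subgroup.closure (planeSet hF W) ≤
      (Subgroup.closure (planeSet hF W')).comap (MulAut.conj g).toMonoidHom from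
    (Subgroup.closure_le _).2 fun b hb => Subgroup.subset_closure (hg b hb)) hx

theorem exists_plane (hF : Fintype.card F = 4) : ∃ W : Submodule F (Fin 6 → F), IsPlane W := by
  obtain ⟨h11, h22, h33, -, h12, h21, h13, h31, h23, h32, -, -⟩ := herm_std (F := F) hF
  refine ⟨_, isPlane_span hF (u := ![p1, p2, p3]) ⟨?_, fun i j => ?_⟩⟩
  · refine Fintype.linearIndependent_iff.2 fun c hc i => ?_
    rw [Fin.sum_univ_three] at hc
    have a0 := congrFun hc 0
    have a1 := congrFun hc 2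
    have a2 := congrFun hc 4
    simp [p1, p2, p3] at a0 a1 a2
    fin_cases i <;> assumption
  · fin_cases i <;> fin_cases j <;> assumption

/-- The members in a Sylow two-subgroup are those of a plane. -/
theorem sylow_plane (hF : Fintype.card F = 4) (T : Sylow 2 (Cfsg.PSU 6 F 2)) :
    ∃ W : Submodule F (Fin 6 → F), IsPlane W ∧
      {x | x ∈ members hF ∧ x ∈ (T : Subgroup (Cfsg.PSU 6 F 2))} = planeSet hF W := by
  have : Fact (Nat.Prime 2) := ⟨Nat.prime_two⟩
  obtain ⟨W₀, P₀⟩ := exists_plane hF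
  obtain ⟨Q, hQ⟩ := (show IsPGroup 2 ↥(spanW W₀) from fun x =>
    ⟨1, by rw [pow_one, pow_two]; exact Subtype.ext (spanW_sq hF P₀ x.2)⟩).exists_le_sylow
  obtain ⟨g, hg⟩ := MulAction.exists_smul_eq (Cfsg.PSU 6 F 2) Q T
  obtain ⟨h, rfl⟩ := QuotientGroup.mk'_surjective _ g
  let L : (Fin 6 → F) →ₗ[F] (Fin 6 → F) :=
    { toFun := fun x => act h x, map_add' := act_add h, map_smul' := act_smul h }
  have hL : Function.Injective L := fun x y e => (act_eq_iff h).1 e
  have P : IsPlane (W₀.map L) := by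
    refine ⟨?_, ?_⟩
    · rw [← (Submodule.equivMapOfInjective L hL W₀).finrank_eq]; exact P₀.dim
    · rintro _ ⟨x, hx, rfl⟩ _ ⟨y, hy, rfl⟩
      show hf (act h x) (act h y) = 0
      rw [act_hf]; exact P₀.iso x hx y hy
  refine ⟨_, P, Set.ext fun x => ⟨?_, ?_⟩⟩
  · rintro ⟨⟨v, hv, rfl⟩, hT⟩
    refine ⟨v, P.mem_of_perp hF fun y hy => ?_, hv.1, rfl⟩
    rcases eq_or_ne y 0 with rfl | hy0
    · exact hf_zero_right hF v
    refine members_commute_of_two_group hF T.isPGroup' hv (P.iso_of_mem hy hy0) hT ?_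
    obtain ⟨y', hy', rfl⟩ := hy
    have hy'0 : y' ≠ 0 := fun e => hy0 (by rw [e, map_zero])
    rw [show L y' = act h y' from rfl, ← tau_conj hF h (P₀.iso_of_mem hy' hy'0), ← hg, Sylow.coe_subgroup_smul]
    exact Subgroup.smul_mem_pointwise_smul _ (MulAut.conj (toPSU 6 F h)) _
      (hQ ⟨_, tv_mem_fixW hF P₀ hy', rfl⟩)
  · rintro ⟨v, ⟨v', hv', rfl⟩, hv0, rfl⟩
    have hv'0 : v' ≠ 0 := fun e => hv0 (by rw [e, map_zero])
    refine ⟨⟨_, P.iso_of_mem ⟨v', hv', rfl⟩ hv0, rfl⟩, ?_⟩
    rw [show L v' = act h v' from rfl, ← tau_conj hF h (P₀.iso_of_mem hv' hv'0), ← hg, Sylow.coe_subgroup_smul]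
    exact Subgroup.smul_mem_pointwise_smul _ (MulAut.conj (toPSU 6 F h)) _
      (hQ ⟨_, tv_mem_fixW hF P₀ hv', rfl⟩)

/-- Every element of order two lies in the span of a plane. -/
theorem involution_plane (hF : Fintype.card F = 4) {x : Cfsg.PSU 6 F 2} (hx : x * x = 1) :
    ∃ W : Submodule F (Fin 6 → F), IsPlane W ∧ x ∈ spanW W := by
  obtain ⟨g, hg, rfl⟩ := exists_lift_involution hF (by norm_num) hx
  obtain ⟨m, u, hli, horth, rfl⟩ := exists_indep hF g hg
  have hm := two_mul_le hF hli horth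
  have hI : ∀ i, Iso (u i) := fun i => ⟨hli.ne_zero i, horth i i⟩
  obtain ⟨W₀, P₀⟩ := exists_plane hF
  obtain ⟨w, hw, -⟩ := P₀.exists_frame
  -- move the centres into one plane
  obtain ⟨W, P, hW⟩ : ∃ W : Submodule F (Fin 6 → F), IsPlane W ∧ ∀ i, u i ∈ W := by
    match m, u, hli, horth, hm, hI with
    | 0, _, _, _, _, _ => exact ⟨W₀, P₀, fun i => i.elim0⟩
    | 1, u, _, _, _, hI =>
      obtain ⟨g, hg⟩ := exists_act hF (by norm_num) (hw.iso 0) (hI 0)
      exact ⟨_, isPlane_span hF (hw.act g), fun i => Submodule.subset_span ⟨0, hg.trans (by rw [Subsingleton.elim i 0])⟩⟩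
    | 2, u, hli, horth, _, hI =>
      have hp : OrthPair (u 0) (u 1) := ⟨hI 0, hI 1, horth 0 1, fun c e => by
        have := hli.notMem_span_image (s := {0}) (x := 1) (by simp)
        rw [Set.image_singleton, Submodule.mem_span_singleton] at this
        exact this ⟨c, e.symm⟩⟩
      obtain ⟨g, g0, g1⟩ := exists_act_two hF (by norm_num) (hw.pair (show (0 : Fin 3) ≠ 1 by decide)) hp
      refine ⟨_, isPlane_span hF (hw.act g), fun i => ?_⟩
      fin_cases i
      · exact Submodule.subset_span ⟨0, g0⟩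
      · exact Submodule.subset_span ⟨1, g1⟩
    | 3, u, hli, horth, _, _ =>
      exact ⟨_, isPlane_span hF (u := u) ⟨hli, horth⟩, fun i => Submodule.subset_span ⟨i, rfl⟩⟩
    | m + 4, _, _, _, hm, _ => omega
  exact ⟨W, P, _, list_prod_mem fun t ht => by
    obtain ⟨i, rfl⟩ := (List.mem_ofFn' (fun i => tv hF (u i)) t).1 ht
    exact tv_mem_fixW hF P (hW i), rfl⟩

/-- An outside involution normalising a plane fixes exactly five of its points. -/
theorem fixed_five (hF : Fintype.card F = 4) (P : IsPlane W) {t : Cfsg.PSU 6 F 2} (ht : t * t = 1)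
    (htB : ∀ b ∈ planeSet hF W, t * b * t⁻¹ ∈ planeSet hF W) (hout : t ∉ spanW W) :
    {b | b ∈ planeSet hF W ∧ Commute b t}.ncard = 5 := by
  obtain ⟨y, hy, rfl⟩ := exists_lift_involution hF (by norm_num) ht
  have hinv : ∀ v ∈ W, act y v ∈ W := by
    intro v hv
    rcases eq_or_ne v 0 with rfl | h0
    · rw [act_zero]; exact zero_mem _
    have hI := P.iso_of_mem hv h0
    obtain ⟨v', hv', hv'0, e⟩ := htB _ ⟨v, hv, h0, rfl⟩
    rw [tau_conj hF y hI] at e
    obtain ⟨c, hc, e'⟩ := tau_inj hF (P.iso_of_mem hv' hv'0) (hI.act y) e.symm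
    rw [e']; exact W.smul_mem c hv'
  let N : W →ₗ[F] W :=
    { toFun := fun w => ⟨act y w + w, W.add_mem (hinv w w.2) w.2⟩
      map_add' := fun u v => Subtype.ext (by simp [act_add, add_add_add_comm])
      map_smul' := fun c u => Subtype.ext (by simp [act_smul]) }
  have hle : LinearMap.range N ≤ LinearMap.ker N := by
    rintro _ ⟨w, rfl⟩
    refine LinearMap.mem_ker.2 (Subtype.ext ?_)
    show act y (act y w + (w : Fin 6 → F)) + (act y w + (w : Fin 6 → F)) = 0
    rw [act_add, ← act_mul, hy, act_one, add_comm (w : Fin 6 → F) (act y w)]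
    exact vadd_self hF _
  have hne : LinearMap.ker N ≠ ⊤ := by
    intro h
    refine hout ⟨y, fun v hv => ?_, rfl⟩
    have h1 : act y v + v = 0 := congrArg Subtype.val (LinearMap.mem_ker.1
      (show (⟨v, hv⟩ : W) ∈ LinearMap.ker N by rw [h]; exact Submodule.mem_top))
    calc act y v = act y v + v + v := (vadd_cancel hF _ _).symm
      _ = v := by rw [h1, zero_add]
  have hk : Module.finrank F (LinearMap.ker N) = 2 := by
    have h1 := N.finrank_range_add_finrank_ker
    have h2 := Submodule.finrank_mono hle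
    have h3 := Submodule.finrank_lt hne
    rw [P.dim] at h1 h3
    omega
  set K := (LinearMap.ker N).map W.subtype with hK
  have hK2 : Module.finrank F K = 2 := by
    rw [hK, (Submodule.equivMapOfInjective W.subtype W.injective_subtype _).finrank_eq.symm]; exact hk
  have hKW : K ≤ W := Submodule.map_subtype_le _ _
  have memK : ∀ v ∈ W, (v ∈ K ↔ act y v + v = 0) := fun v hv => by
    rw [hK]
    constructor
    · rintro ⟨w, hw, rfl⟩; exact congrArg Subtype.val (LinearMap.mem_ker.1 hw)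
    · exact fun h => ⟨⟨v, hv⟩, LinearMap.mem_ker.2 (Subtype.ext h), rfl⟩
  have iff : ∀ v ∈ W, v ≠ 0 → (Commute (tau hF v) (toPSU 6 F y) ↔ v ∈ K) := by
    intro v hv h0
    have hI := P.iso_of_mem hv h0
    have e1 := tau_conj hF y hI
    rw [memK v hv]
    constructor
    · intro hc
      rw [← hc.eq, mul_inv_cancel_right] at e1
      obtain ⟨c, hc0, e⟩ := tau_inj hF hI (hI.act y) e1
      have h2 : c * c = 1 := by
        have := congrArg (act y) e
        rw [← act_mul, hy, act_one, act_smul, e, smul_smul] at this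
        exact (smul_left_injective F h0 (show (1 : F) • v = (c * c) • v by rw [one_smul]; exact this)).symm
      rw [e, show c = 1 by linear_combination U62Cover.pow_three hF hc0 - c * h2, one_smul, vadd_self hF]
    · intro h
      have e : act y v = v := by
        calc act y v = act y v + v + v := (vadd_cancel hF _ _).symm
          _ = v := by rw [h, zero_add]
      rw [e] at e1
      exact (mul_inv_eq_iff_eq_mul.1 e1).symm
  have h := M22Cover.ncard_fibres (tau hF) (fun v => v ∈ K ∧ v ≠ 0)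
    {b | b ∈ planeSet hF W ∧ Commute b (toPSU 6 F y)} 3 ?_
  · have e : {v | tau hF v ∈ {b | b ∈ planeSet hF W ∧ Commute b (toPSU 6 F y)} ∧ v ∈ K ∧ v ≠ 0}
        = (K : Set (Fin 6 → F)) \ {0} := by
      ext v
      exact ⟨fun hv => hv.2, fun hv => ⟨⟨⟨v, hKW hv.1, hv.2, rfl⟩, (iff v (hKW hv.1) hv.2).2 hv.1⟩, hv⟩⟩
    rw [e, FischerM22.submodule_nonzero_card hF, hK2] at h
    omega
  · rintro _ ⟨⟨v, hv, hv0, rfl⟩, hc⟩
    have hI := P.iso_of_mem hv hv0
    have hvK := (iff v hv hv0).1 hc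
    classical
    have e : {a | tau hF a = tau hF v ∧ a ∈ K ∧ a ≠ 0}
        = ↑(((Finset.univ : Finset F).erase 0).image fun c => c • v) := by
      ext a
      simp only [Set.mem_ofPred_eq, Finset.coe_image, Set.mem_image, Finset.mem_coe, Finset.mem_erase,
        Finset.mem_univ, and_true]
      constructor
      · rintro ⟨h, ha, ha0⟩
        obtain ⟨c, hc, rfl⟩ := tau_inj hF hI (P.iso_of_mem (hKW ha) ha0) h.symm
        exact ⟨c, hc, rfl⟩
      · rintro ⟨c, hc, rfl⟩
        exact ⟨tau_smul hF hI hc, K.smul_mem c hvK, smul_ne_zero hc hv0⟩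
    rw [e, Set.ncard_coe_finset, Finset.card_image_of_injective _ (smul_left_injective F hv0),
      Finset.card_erase_of_mem (Finset.mem_univ _), Finset.card_univ, hF]

/-- Distinct members of a plane as an orthogonal pair. -/
theorem plane_pair (hF : Fintype.card F = 4) (P : IsPlane W) {a b : Cfsg.PSU 6 F 2} (ha : a ∈ planeSet hF W)
    (hb : b ∈ planeSet hF W) (hab : a ≠ b) :
    ∃ u w, u ∈ W ∧ w ∈ W ∧ OrthPair u w ∧ a = tau hF u ∧ b = tau hF w := by
  obtain ⟨u, hu, hu0, rfl⟩ := ha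
  obtain ⟨w, hw, hw0, rfl⟩ := hb
  refine ⟨u, w, hu, hw, ⟨P.iso_of_mem hu hu0, P.iso_of_mem hw hw0, P.iso u hu w hw, fun c e => hab ?_⟩, rfl, rfl⟩
  rcases eq_or_ne c 0 with rfl | hc
  · exact absurd (by rw [e, zero_smul]) hw0
  · rw [e, tau_smul hF (P.iso_of_mem hu hu0) hc]

/-- A product of two members of a plane determines them. -/
theorem plane_pair_unique (hF : Fintype.card F = 4) (P : IsPlane W) (P' : IsPlane W')
    {a b a' b' : Cfsg.PSU 6 F 2} (ha : a ∈ planeSet hF W) (hb : b ∈ planeSet hF W) (hab : a ≠ b)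
    (ha' : a' ∈ planeSet hF W') (hb' : b' ∈ planeSet hF W') (hab' : a' ≠ b') (e : a' * b' = a * b) :
    a' = a ∨ a' = b := by
  obtain ⟨u, w, -, -, h, rfl, rfl⟩ := plane_pair hF P ha hb hab
  obtain ⟨u', w', -, -, h', rfl, rfl⟩ := plane_pair hF P' ha' hb' hab'
  exact pair_unique hF h h' e

/-- The fixed points of an outside involution in the span have order at most 32. -/
theorem span_fixed_le (hF : Fintype.card F = 4) (P : IsPlane W) {t : Cfsg.PSU 6 F 2} (ht : t * t = 1)
    (htB : ∀ b ∈ planeSet hF W, t * b * t⁻¹ ∈ planeSet hF W) (hout : t ∉ spanW W) :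
    Nat.card ↥(spanW W ⊓ Subgroup.centralizer {t}) ≤ 32 := by
  classical
  have := Fintype.ofFinite (Cfsg.PSU 6 F 2)
  set B := planeSet hF W with hB
  set E := spanW W with hE
  have hmap : ∀ x ∈ E, t * x * t⁻¹ ∈ E := fun x hx => spanW_conj hF P P htB hx
  have hBE : ∀ b ∈ B, b ∈ E := fun b hb => by
    rw [hE, spanW_eq_closure hF P]; exact Subgroup.subset_closure hb
  let φ : ↥E →* Cfsg.PSU 6 F 2 :=
    { toFun := fun x => (x : Cfsg.PSU 6 F 2) * (t * x * t⁻¹)
      map_one' := by simp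
      map_mul' := fun x y => by
        show (x : Cfsg.PSU 6 F 2) * y * (t * ((x : Cfsg.PSU 6 F 2) * y) * t⁻¹)
          = x * (t * x * t⁻¹) * (y * (t * y * t⁻¹))
        rw [show t * ((x : Cfsg.PSU 6 F 2) * y) * t⁻¹ = t * x * t⁻¹ * (t * y * t⁻¹) by group]
        exact (spanW_comm hF P y.2 (hmap _ x.2)).mul_mul_mul_comm _ _ }
  have hprod : Nat.card φ.range * Nat.card φ.ker = 512 := by
    rw [← spanW_card hF P, ← hE, Subgroup.card_eq_card_quotient_mul_card_subgroup φ.ker,
      Nat.card_congr (QuotientGroup.quotientKerEquivRange φ).toEquiv]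
  have hker : Nat.card ↥(E ⊓ Subgroup.centralizer {t}) ≤ Nat.card φ.ker :=
    Nat.card_le_card_of_injective (fun x => ⟨⟨x.1, x.2.1⟩, by
        have hc : (x.1 : Cfsg.PSU 6 F 2) * t = t * x.1 := Subgroup.mem_centralizer_singleton_iff.1 x.2.2
        show x.1 * (t * x.1 * t⁻¹) = 1
        rw [← hc, mul_inv_cancel_right, spanW_sq hF P x.2.1]⟩)
      fun x y h => Subtype.ext (congrArg (fun z : ↥φ.ker => ((z : ↥E) : Cfsg.PSU 6 F 2)) h)
  set Mv := (B \ {b | b ∈ B ∧ Commute b t}).toFinset with hMv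
  have hM16 : Mv.card = 16 := by
    rw [hMv, ← Set.ncard_eq_toFinset_card', Set.ncard_sdiff (fun b hb => hb.1), planeSet_card hF P,
      fixed_five hF P ht htB hout]
  have memM : ∀ b ∈ Mv, b ∈ B ∧ b ≠ t * b * t⁻¹ := fun b hb => by
    rw [hMv, Set.mem_toFinset] at hb
    exact ⟨hb.1, fun e => hb.2 ⟨hb.1, by
      show b * t = t * b
      conv_lhs => rw [e]
      group⟩⟩
  have hcard8 : Mv.card ≤ 2 * (Mv.image fun b => b * (t * b * t⁻¹)).card := by
    refine Finset.card_le_mul_card_image _ 2 fun x hx => ?_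
    obtain ⟨b, hb, rfl⟩ := Finset.mem_image.1 hx
    refine (Finset.card_le_card (t := {b, t * b * t⁻¹}) fun c hc => ?_).trans Finset.card_le_two
    rw [Finset.mem_filter] at hc
    simpa using plane_pair_unique hF P P (memM b hb).1 (htB b (memM b hb).1) (memM b hb).2
      (memM c hc.1).1 (htB c (memM c hc.1).1) (memM c hc.1).2 hc.2
  have hsub : insert 1 (Mv.image fun b => b * (t * b * t⁻¹)) ⊆ (φ.range : Set (Cfsg.PSU 6 F 2)).toFinset := by
    intro x hx
    rw [Set.mem_toFinset]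
    rcases Finset.mem_insert.1 hx with rfl | hx
    · exact one_mem _
    · obtain ⟨b, hb, rfl⟩ := Finset.mem_image.1 hx
      exact ⟨⟨b, hBE b (memM b hb).1⟩, rfl⟩
  have hnot : (1 : Cfsg.PSU 6 F 2) ∉ Mv.image fun b => b * (t * b * t⁻¹) := fun h => by
    obtain ⟨b, hb, e⟩ := Finset.mem_image.1 h
    refine (memM b hb).2 ?_
    rw [← inv_eq_of_mul_eq_one_left (spanW_sq hF P (hBE b (memM b hb).1))]
    exact inv_eq_of_mul_eq_one_right (by
      rw [inv_eq_of_mul_eq_one_left (spanW_sq hF P (hBE b (memM b hb).1))]; exact e)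
  have h9 := Finset.card_le_card hsub
  rw [Finset.card_insert_of_notMem hnot, ← Set.ncard_eq_toFinset_card'] at h9
  change _ ≤ Nat.card φ.range at h9
  obtain ⟨j, -, hj⟩ := (Nat.dvd_prime_pow Nat.prime_two).1 (show Nat.card φ.range ∣ 2 ^ 9 from ⟨_, hprod.symm⟩)
  have hj4 : 4 ≤ j := by
    by_contra h
    have := Nat.pow_le_pow_right (show 0 < 2 by norm_num) (show j ≤ 3 by omega)
    omega
  have h16 : 2 ^ 4 ≤ Nat.card φ.range := hj ▸ Nat.pow_le_pow_right (by norm_num) hj4
  have := Nat.mul_le_mul_right (Nat.card φ.ker) h16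
  omega

/-- An elementary abelian two-group normalising a plane meets its span in index at most 16. -/
theorem image_le (hF : Fintype.card F = 4) (P : IsPlane W) {A : Subgroup (Cfsg.PSU 6 F 2)}
    (hsq : ∀ x ∈ A, x * x = 1) (hnorm : ∀ t ∈ A, ∀ b ∈ planeSet hF W, t * b * t⁻¹ ∈ planeSet hF W) :
    Nat.card A ≤ 16 * Nat.card ↥(A ⊓ spanW W) := by
  classical
  letI : MulAction ↥A ↥(planeSet hF W) :=
    { smul := fun g b => ⟨g * b * (g : Cfsg.PSU 6 F 2)⁻¹, hnorm g g.2 b b.2⟩
      one_smul := fun b => Subtype.ext (show (1 : Cfsg.PSU 6 F 2) * b * (1 : Cfsg.PSU 6 F 2)⁻¹ = b by simp)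
      mul_smul := fun g h b => Subtype.ext (show (g : Cfsg.PSU 6 F 2) * h * b * ((g : Cfsg.PSU 6 F 2) * h)⁻¹
        = g * (h * b * (h : Cfsg.PSU 6 F 2)⁻¹) * (g : Cfsg.PSU 6 F 2)⁻¹ by group) }
  have := Fintype.ofFinite (Cfsg.PSU 6 F 2)
  have hfix : ∀ g : ↥A, Fintype.card (MulAction.fixedBy ↥(planeSet hF W) g)
      = 5 + if (g : Cfsg.PSU 6 F 2) ∈ spanW W then 16 else 0 := by
    intro g
    rw [← Nat.card_eq_fintype_card]
    have e : Nat.card (MulAction.fixedBy ↥(planeSet hF W) g)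
        = {b | b ∈ planeSet hF W ∧ Commute b (g : Cfsg.PSU 6 F 2)}.ncard := by
      rw [← Nat.card_coe_set_eq]
      refine Nat.card_congr
        { toFun := fun b => ⟨b.1.1, b.1.2, by
            have h : (g : Cfsg.PSU 6 F 2) * b.1.1 * (g : Cfsg.PSU 6 F 2)⁻¹ = b.1.1 := congrArg Subtype.val b.2
            exact ((mul_inv_eq_iff_eq_mul.1 h) : Commute (g : Cfsg.PSU 6 F 2) b.1.1).symm⟩
          invFun := fun b => ⟨⟨b.1, b.2.1⟩, Subtype.ext (by
            show (g : Cfsg.PSU 6 F 2) * b.1 * (g : Cfsg.PSU 6 F 2)⁻¹ = b.1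
            rw [← b.2.2.eq, mul_inv_cancel_right])⟩
          left_inv := fun _ => rfl
          right_inv := fun _ => rfl }
    rw [e]
    split
    next h =>
      rw [show {b | b ∈ planeSet hF W ∧ Commute b (g : Cfsg.PSU 6 F 2)} = planeSet hF W from Set.ext fun b =>
        ⟨fun hb => hb.1, fun hb => ⟨hb, spanW_comm hF P
          (by rw [spanW_eq_closure hF P]; exact Subgroup.subset_closure hb) h⟩⟩, planeSet_card hF P]
    next h => exact fixed_five hF P (hsq g g.2) (hnorm g g.2) h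
  have hsum := MulAction.sum_card_fixedBy_eq_card_orbits_mul_card_group ↥A ↥(planeSet hF W)
  rw [Finset.sum_congr rfl (fun g _ => hfix g), Finset.sum_add_distrib, Finset.sum_const, ← Finset.sum_filter,
    Finset.sum_const, smul_eq_mul, smul_eq_mul, Finset.card_univ, ← Fintype.card_subtype] at hsum
  simp only [← Nat.card_eq_fintype_card] at hsum
  have hI : Nat.card {g : ↥A // (g : Cfsg.PSU 6 F 2) ∈ spanW W} = Nat.card ↥(A ⊓ spanW W) :=
    Nat.card_congr
      { toFun := fun g => ⟨g.1.1, g.1.2, g.2⟩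
        invFun := fun g => ⟨⟨g.1, g.2.1⟩, g.2.2⟩
        left_inv := fun _ => rfl
        right_inv := fun _ => rfl }
  rw [hI] at hsum
  refine Nat.le_of_dvd (Nat.mul_pos (by norm_num) Nat.card_pos) ?_
  rw [mul_comm 16]
  exact (Nat.dvd_add_right (dvd_mul_right _ _)).1 (Dvd.intro_left _ hsum.symm)

/-- An elementary abelian two-group of order at least `2 ^ 9` normalising a plane is its span. -/
theorem abelian_eq (hF : Fintype.card F = 4) (P : IsPlane W) {A : Subgroup (Cfsg.PSU 6 F 2)}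
    (hsq : ∀ x ∈ A, x * x = 1) (hcomm : ∀ x ∈ A, ∀ y ∈ A, Commute x y)
    (hnorm : ∀ t ∈ A, ∀ b ∈ planeSet hF W, t * b * t⁻¹ ∈ planeSet hF W) (hbig : 512 ≤ Nat.card A) :
    A = spanW W := by
  set E := spanW W with hE
  refine Subgroup.eq_of_le_of_card_ge (fun t ht => ?_) (by rw [spanW_card hF P]; exact hbig)
  by_contra hout
  have hle := image_le hF P hsq hnorm
  have hfix : ∀ s ∈ A, s ∉ E → A ⊓ E = E ⊓ Subgroup.centralizer {s} := by
    intro s hs hsE
    refine Subgroup.eq_of_le_of_card_ge (fun x hx => ⟨hx.2,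
      Subgroup.mem_centralizer_singleton_iff.2 (hcomm x hx.1 s hs)⟩) ?_
    have := span_fixed_le hF P (hsq s hs) (hnorm s hs) hsE
    rw [← hE] at this hle
    omega
  obtain ⟨b, hb, hbt⟩ : ∃ b ∈ planeSet hF W, ¬ Commute b t := by
    by_contra h
    refine hout (mem_spanW_of_commute hF P (hsq t ht) fun b hb => ?_)
    by_contra h'
    exact h ⟨b, hb, h'⟩
  have inE : ∀ {c}, c ∈ planeSet hF W → c ∈ E := fun {c} hc => by
    rw [hE, spanW_eq_closure hF P]; exact Subgroup.subset_closure hc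
  have hbE := inE hb
  have htbE := inE (hnorm t ht b hb)
  have htne : t * b * t⁻¹ ≠ b := fun e => hbt (mul_inv_eq_iff_eq_mul.1 e : Commute t b).symm
  have hti : t⁻¹ = t := inv_eq_of_mul_eq_one_left (hsq t ht)
  have hmem : b * (t * b * t⁻¹) ∈ A ⊓ E := by
    rw [hfix t ht hout]
    refine ⟨mul_mem hbE htbE, Subgroup.mem_centralizer_singleton_iff.2 ?_⟩
    have hbc := spanW_comm hF P hbE htbE
    calc b * (t * b * t⁻¹) * t = b * t * b := by group
      _ = t * (t * b * t⁻¹) * b := by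
        rw [hti, show t * (t * b * t) = t * t * (b * t) by simp only [mul_assoc], hsq t ht, one_mul]
      _ = t * (b * (t * b * t⁻¹)) := by rw [mul_assoc t, ← hbc.eq]
  -- every outside element of A sends b to its partner
  have hsame : ∀ s ∈ A, s ∉ E → s * b * s⁻¹ = t * b * t⁻¹ := by
    intro s hs hsE
    have hbs : s * b * s⁻¹ ≠ b := by
      intro e
      have hbA : b ∈ A ⊓ E := by
        rw [hfix s hs hsE]
        exact ⟨hbE, Subgroup.mem_centralizer_singleton_iff.2 (mul_inv_eq_iff_eq_mul.1 e : Commute s b).symm⟩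
      exact hbt (hcomm b hbA.1 t ht)
    have e : s * b * s⁻¹ * (s * (t * b * t⁻¹) * s⁻¹) = b * (t * b * t⁻¹) := by
      rw [show s * b * s⁻¹ * (s * (t * b * t⁻¹) * s⁻¹) = s * (b * (t * b * t⁻¹)) * s⁻¹ by group,
        (hcomm s hs _ hmem.1).eq, mul_inv_cancel_right]
    exact (plane_pair_unique hF P P hb (hnorm t ht b hb) htne.symm (hnorm s hs b hb)
      (hnorm s hs _ (hnorm t ht b hb)) (fun k => htne.symm ((MulAut.conj s).injective k)) e).resolve_left hbs
  have hcos : ∀ s ∈ A, s ∉ E → t * s ∈ E := by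
    intro s hs hsE
    by_contra h
    have e1 := hsame _ (mul_mem ht hs) h
    rw [show t * s * b * (t * s)⁻¹ = t * (s * b * s⁻¹) * t⁻¹ by group, hsame s hs hsE] at e1
    exact htne ((MulAut.conj t).injective e1)
  have h2 : Nat.card A ≤ 2 * Nat.card ↥(A ⊓ E) := by
    classical
    let f : ↥A → Bool × ↥(A ⊓ E) := fun s =>
      if h : (s : Cfsg.PSU 6 F 2) ∈ E then (true, ⟨s, s.2, h⟩)
      else (false, ⟨t * s, mul_mem ht s.2, hcos s s.2 h⟩)
    have hinj : Function.Injective f := by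
      intro s u h
      simp only [f] at h
      split_ifs at h
      · exact Subtype.ext (congrArg (fun z : Bool × ↥(A ⊓ E) => (z.2 : Cfsg.PSU 6 F 2)) h)
      · exact absurd (congrArg Prod.fst h) (by simp)
      · exact absurd (congrArg Prod.fst h) (by simp)
      · exact Subtype.ext (mul_left_cancel (congrArg (fun z : Bool × ↥(A ⊓ E) => (z.2 : Cfsg.PSU 6 F 2)) h))
    have := Nat.card_le_card_of_injective f hinj
    rwa [Nat.card_prod, show Nat.card Bool = 2 by simp] at this
  have := span_fixed_le hF P (hsq t ht) (hnorm t ht) hout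
  rw [← hE, ← hfix t ht hout] at this
  omega

end Cfsg.Agent.U62Base
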