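/-
The classes of elements of order two in PSU(6,2) and the orders of their centralisers.

* `pairs_card`, `frames_card` : the products of two and of three members in a plane (210 and 280);
* `member_centralizer`, `pair_centralizer`, `triple_centralizer` : orders 13271040, 147456, 36864.
-/
import Cfsg.Agent.Lib.U62Base.Base

set_option autoImplicit false

namespace Cfsg.Agent.U62Base

open Cfsg.Agent.Unitary Cfsg.Agent.U62Cover Cfsg.Agent.ThreeTransSU

variable {F : Type*} [Field F] [Fintype F] {W : Submodule F (Fin 6 → F)}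

/-- The products of two members of `W`. -/
def pairsW (hF : Fintype.card F = 4) (W : Submodule F (Fin 6 → F)) : Set (Cfsg.PSU 6 F 2) :=
  {x | ∃ u w, u ∈ W ∧ w ∈ W ∧ OrthPair u w ∧ x = tau hF u * tau hF w}

/-- The products of three independent members of `W`. -/
def framesW (hF : Fintype.card F = 4) (W : Submodule F (Fin 6 → F)) : Set (Cfsg.PSU 6 F 2) :=
  {x | ∃ u : Fin 3 → (Fin 6 → F), Frame3 u ∧ (∀ i, u i ∈ W) ∧ x = tau hF (u 0) * tau hF (u 1) * tau hF (u 2)}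

theorem psu_card (hF : Fintype.card F = 4) : Nat.card (Cfsg.PSU 6 F 2) = 9196830720 := by
  have h := card_PSU (q := 2) (card_sq hF) (n := 6) (by norm_num)
  simp [Finset.prod_range_succ, Nat.even_iff] at h
  omega

theorem class_mul {G : Type*} [Group G] [Finite G] (x : G) :
    {y | ∃ g : G, g * x * g⁻¹ = y}.ncard * Nat.card ↥(Subgroup.centralizer ({x} : Set G)) = Nat.card G := by
  have h := FischerM22.card_orbit_mul (⊤ : Subgroup G) x x
  rw [top_inf_eq, inf_idem, Subgroup.card_top] at h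
  rw [h]
  congr 1
  rw [← Set.ncard_image_of_injective _ (fun a b (e : (a, a) = (b, b)) => congrArg Prod.fst e)]
  congr 1
  ext ⟨p, q⟩
  constructor
  · rintro ⟨y, ⟨g, hg⟩, e⟩
    obtain ⟨rfl, rfl⟩ := Prod.ext_iff.1 e
    exact ⟨g, Subgroup.mem_top g, hg, hg⟩
  · rintro ⟨g, -, h1, h2⟩
    exact ⟨p, ⟨g, h1⟩, Prod.ext rfl (h1.symm.trans h2)⟩

theorem scalars_card (hF : Fintype.card F = 4) {v : Fin 6 → F} (hv : Iso v) :
    {a | tau hF a = tau hF v ∧ Iso a}.ncard = 3 := by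
  classical
  have e : {a | tau hF a = tau hF v ∧ Iso a} = ↑(((Finset.univ : Finset F).erase 0).image fun c => c • v) := by
    ext a
    simp only [Set.mem_ofPred_eq, Finset.coe_image, Set.mem_image, Finset.mem_coe, Finset.mem_erase,
      Finset.mem_univ, and_true]
    constructor
    · rintro ⟨h, ha⟩
      obtain ⟨c, hc, rfl⟩ := tau_inj hF hv ha h.symm
      exact ⟨c, hc, rfl⟩
    · rintro ⟨c, hc, rfl⟩
      exact ⟨tau_smul hF hv hc, hv.smul hF hc⟩
  rw [e, Set.ncard_coe_finset, Finset.card_image_of_injective _ (smul_left_injective F hv.1),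
    Finset.card_erase_of_mem (Finset.mem_univ _), Finset.card_univ, hF]

theorem members_card (hF : Fintype.card F = 4) : (members hF).ncard = 693 := by
  have h := M22Cover.ncard_fibres (tau hF) (fun v => Iso v) (members hF) 3 (by
    rintro _ ⟨v, hv, rfl⟩; exact scalars_card hF hv)
  have e : {v : Fin 6 → F | tau hF v ∈ members hF ∧ Iso v} = {v | Iso v} :=
    Set.ext fun v => ⟨fun h => h.2, fun h => ⟨tau_mem hF h, h⟩⟩
  have h2 := FischerM22.count_iso hF
  rw [← Set.coe_ofPred, Nat.card_coe_set_eq] at h2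
  rw [e, h2] at h
  omega

theorem member_centralizer (hF : Fintype.card F = 4) {v : Fin 6 → F} (hv : Iso v) :
    Nat.card ↥(Subgroup.centralizer ({tau hF v} : Set (Cfsg.PSU 6 F 2))) = 13271040 := by
  have h := class_mul (tau hF v)
  have e : {y | ∃ g, g * tau hF v * g⁻¹ = y} = members hF := Set.ext fun y =>
    ⟨fun ⟨g, hg⟩ => hg ▸ members_conj hF g (tau_mem hF hv),
      fun hy => members_conj_transitive hF (tau_mem hF hv) hy⟩
  rw [e, members_card hF, psu_card hF] at h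
  omega

theorem orth_perp_card (hF : Fintype.card F = 4) {u : Fin 6 → F} (hu : Iso u) :
    {w : Fin 6 → F | OrthPair u w}.ncard = 540 := by
  classical
  have h := FischerM22.count_perp hF hu
  rw [← Set.coe_ofPred, Nat.card_coe_set_eq] at h
  have e : {w : Fin 6 → F | OrthPair u w} = {x | Iso x ∧ hf x u = 0} \ ↑(((Finset.univ : Finset F).erase 0).image fun c => c • u) := by
    ext w
    simp only [Set.mem_ofPred_eq, Set.mem_sdiff, Finset.coe_image, Set.mem_image, Finset.mem_coe, Finset.mem_erase,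
      Finset.mem_univ, and_true, not_exists, not_and]
    constructor
    · rintro ⟨-, hw, h0, h1⟩
      exact ⟨⟨hw, (hf_eq_zero_symm hF).1 h0⟩, fun c _ e => h1 c e.symm⟩
    · rintro ⟨⟨hw, h0⟩, h1⟩
      refine ⟨hu, hw, (hf_eq_zero_symm hF).1 h0, fun c e => h1 c (fun hc => hw.1 ?_) e.symm⟩
      rw [e, hc, zero_smul]
  rw [e, Set.ncard_sdiff ?_ (Set.toFinite _), h, Set.ncard_coe_finset,
    Finset.card_image_of_injective _ (smul_left_injective F hu.1), Finset.card_erase_of_mem (Finset.mem_univ _),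
    Finset.card_univ, hF]
  intro x hx
  simp only [Finset.coe_image, Set.mem_image, Finset.mem_coe, Finset.mem_erase, Finset.mem_univ, and_true] at hx
  obtain ⟨c, hc, rfl⟩ := hx
  exact ⟨hu.smul hF hc, by rw [hf_smul_left hF, hu.2, mul_zero]⟩

theorem pairVecs_card (hF : Fintype.card F = 4) :
    {p : (Fin 6 → F) × (Fin 6 → F) | OrthPair p.1 p.2}.ncard = 1122660 := by
  have h := M22Cover.ncard_fibres (Prod.fst : (Fin 6 → F) × (Fin 6 → F) → _) (fun p => OrthPair p.1 p.2)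
    {u | Iso u} 540 (fun u hu => by
      rw [← orth_perp_card hF hu, ← Set.ncard_image_of_injective {w | OrthPair u w}
        (f := fun w => (u, w)) (fun a b e => congrArg Prod.snd e)]
      congr 1
      ext ⟨a, b⟩
      constructor
      · rintro ⟨h1, h2⟩
        obtain rfl : a = u := h1
        exact ⟨b, h2, rfl⟩
      · rintro ⟨b', h, e⟩
        obtain ⟨rfl, rfl⟩ := Prod.ext_iff.1 e
        exact ⟨rfl, h⟩)
  have e : {p : (Fin 6 → F) × (Fin 6 → F) | p.1 ∈ {u : Fin 6 → F | Iso u} ∧ OrthPair p.1 p.2}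
      = {p | OrthPair p.1 p.2} := Set.ext fun p => ⟨fun h => h.2, fun h => ⟨h.1, h⟩⟩
  have h2 := FischerM22.count_iso hF
  rw [← Set.coe_ofPred, Nat.card_coe_set_eq] at h2
  rw [e, h2] at h
  omega

theorem pair_fibre (hF : Fintype.card F = 4) {u w : Fin 6 → F} (h : OrthPair u w) :
    {p : (Fin 6 → F) × (Fin 6 → F) | tau hF p.1 * tau hF p.2 = tau hF u * tau hF w ∧ OrthPair p.1 p.2}.ncard
      = 18 := by
  set S := fun v => {a : Fin 6 → F | tau hF a = tau hF v ∧ Iso a} with hS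
  have hne : tau hF u ≠ tau hF w := fun e => by
    obtain ⟨c, -, e'⟩ := tau_inj hF h.1 h.2.1 e
    exact h.2.2.2 c e'
  have hc : Commute (tau hF u) (tau hF w) := (tau_comm_iff hF h.1 h.2.1).2 h.2.2.1
  have e : {p : (Fin 6 → F) × (Fin 6 → F) | tau hF p.1 * tau hF p.2 = tau hF u * tau hF w ∧ OrthPair p.1 p.2}
      = S u ×ˢ S w ∪ S w ×ˢ S u := by
    ext ⟨a, b⟩
    constructor
    · rintro ⟨e, hab⟩
      dsimp only at e hab
      rcases pair_unique hF h hab e with k | k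
      · rw [k] at e
        exact Or.inl ⟨⟨k, hab.1⟩, mul_left_cancel e, hab.2.1⟩
      · rw [k] at e
        exact Or.inr ⟨⟨k, hab.1⟩, mul_left_cancel (e.trans hc.eq), hab.2.1⟩
    · have op : ∀ {a b}, Iso a → Iso b → Commute (tau hF a) (tau hF b) → tau hF a ≠ tau hF b → OrthPair a b :=
        fun {a b} ha hb hcab hne' => ⟨ha, hb, (tau_comm_iff hF ha hb).1 hcab, fun c e => hne' (by
          rw [e, tau_smul hF ha (fun h0 => hb.1 (by rw [e, h0, zero_smul]))])⟩
      rintro (⟨⟨e1, ha⟩, e2, hb⟩ | ⟨⟨e1, ha⟩, e2, hb⟩) <;> dsimp only at e1 e2 ha hb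
      · exact ⟨by dsimp only; rw [e1, e2], op ha hb (by rw [e1, e2]; exact hc) (by rw [e1, e2]; exact hne)⟩
      · exact ⟨by dsimp only; rw [e1, e2, hc.eq],
          op ha hb (by rw [e1, e2]; exact hc.symm) (by rw [e1, e2]; exact hne.symm)⟩
  rw [e, Set.ncard_union_eq ?_ (Set.toFinite _) (Set.toFinite _), Set.ncard_prod, Set.ncard_prod, hS,
    scalars_card hF h.1, scalars_card hF h.2.1]
  refine Set.disjoint_left.2 ?_
  rintro p ⟨⟨e1, -⟩, -⟩ ⟨⟨e2, -⟩, -⟩
  exact hne (e1.symm.trans e2)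

theorem pair_centralizer (hF : Fintype.card F = 4) {u w : Fin 6 → F} (h : OrthPair u w) :
    Nat.card ↥(Subgroup.centralizer ({tau hF u * tau hF w} : Set (Cfsg.PSU 6 F 2))) = 147456 := by
  set K := {y | ∃ g, g * (tau hF u * tau hF w) * g⁻¹ = y} with hK
  have hmul := class_mul (tau hF u * tau hF w)
  rw [psu_card hF, ← hK] at hmul
  have hclass : ∀ y, y ∈ K ↔ ∃ p q, OrthPair p q ∧ y = tau hF p * tau hF q := by
    intro y
    constructor
    · rintro ⟨g, rfl⟩
      obtain ⟨g, rfl⟩ := QuotientGroup.mk'_surjective _ g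
      refine ⟨_, _, h.act g, ?_⟩
      rw [← tau_conj hF g h.1, ← tau_conj hF g h.2.1]
      group
    · rintro ⟨p, q, hpq, rfl⟩
      obtain ⟨g, g1, g2⟩ := exists_act_two hF (by norm_num) h hpq
      refine ⟨toPSU 6 F g, ?_⟩
      rw [← g1, ← g2, ← tau_conj hF g h.1, ← tau_conj hF g h.2.1]
      group
  have hcount := M22Cover.ncard_fibres (fun p : (Fin 6 → F) × (Fin 6 → F) => tau hF p.1 * tau hF p.2)
    (fun p => OrthPair p.1 p.2) K 18 (fun y hy => by
      obtain ⟨p, q, hpq, rfl⟩ := (hclass y).1 hy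
      exact pair_fibre hF hpq)
  have e : {p : (Fin 6 → F) × (Fin 6 → F) | tau hF p.1 * tau hF p.2 ∈ K ∧ OrthPair p.1 p.2}
      = {p | OrthPair p.1 p.2} :=
    Set.ext fun p => ⟨fun hp => hp.2, fun hp => ⟨(hclass _).2 ⟨_, _, hp, rfl⟩, hp⟩⟩
  rw [e, pairVecs_card hF] at hcount
  rw [show K.ncard = 62370 by omega] at hmul
  omega

theorem pairsW_card (hF : Fintype.card F = 4) (P : IsPlane W) : (pairsW hF W).ncard = 210 := by
  have hcount := M22Cover.ncard_fibres (fun p : (Fin 6 → F) × (Fin 6 → F) => tau hF p.1 * tau hF p.2)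
    (fun p => OrthPair p.1 p.2) (pairsW hF W) 18 (by
      rintro _ ⟨u, w, -, -, h, rfl⟩; exact pair_fibre hF h)
  have hset : {p : (Fin 6 → F) × (Fin 6 → F) | tau hF p.1 * tau hF p.2 ∈ pairsW hF W ∧ OrthPair p.1 p.2}
      = {p | p.1 ∈ W ∧ p.2 ∈ W ∧ OrthPair p.1 p.2} := by
    ext ⟨a, b⟩
    constructor
    · rintro ⟨⟨u, w, hu, hw, h, e⟩, hab⟩
      dsimp only at e hab
      have hP : ∀ {v a}, v ∈ W → Iso v → Iso a → tau hF a = tau hF v → a ∈ W := fun {v a} hv hvI ha e => by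
        obtain ⟨c, -, rfl⟩ := tau_inj hF hvI ha e.symm
        exact W.smul_mem c hv
      have hc : Commute (tau hF u) (tau hF w) := (tau_comm_iff hF h.1 h.2.1).2 h.2.2.1
      rcases pair_unique hF h hab e with k | k
      · rw [k] at e
        exact ⟨hP hu h.1 hab.1 k, hP hw h.2.1 hab.2.1 (mul_left_cancel e), hab⟩
      · rw [k] at e
        exact ⟨hP hw h.2.1 hab.1 k, hP hu h.1 hab.2.1 (mul_left_cancel (e.trans hc.eq)), hab⟩
    · rintro ⟨ha, hb, hab⟩
      exact ⟨⟨a, b, ha, hb, hab, rfl⟩, hab⟩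
  have hvec := M22Cover.ncard_fibres (Prod.fst : (Fin 6 → F) × (Fin 6 → F) → _)
    (fun p => p.2 ∈ W ∧ OrthPair p.1 p.2) ((W : Set (Fin 6 → F)) \ {0}) 60 (fun u hu => by
      classical
      have hI := P.iso_of_mem hu.1 hu.2
      have e : {p : (Fin 6 → F) × (Fin 6 → F) | p.1 = u ∧ p.2 ∈ W ∧ OrthPair p.1 p.2}
          = (fun w => (u, w)) '' ((W : Set (Fin 6 → F)) \ ↑((Finset.univ : Finset F).image fun c => c • u)) := by
        ext ⟨a, b⟩
        simp only [Set.mem_ofPred_eq, Set.mem_image, Set.mem_sdiff, Finset.coe_image, Finset.coe_univ,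
          Set.image_univ, Set.mem_range, not_exists, Prod.mk.injEq, SetLike.mem_coe]
        constructor
        · rintro ⟨rfl, hb, h⟩
          exact ⟨b, ⟨hb, fun c e => h.2.2.2 c e.symm⟩, rfl, rfl⟩
        · rintro ⟨b, ⟨hb, hn⟩, rfl, rfl⟩
          have hb0 : b ≠ 0 := fun e => hn 0 (by rw [e, zero_smul])
          exact ⟨rfl, hb, hI, P.iso_of_mem hb hb0, P.iso u hu.1 b hb, fun c e => hn c e.symm⟩
      rw [e, Set.ncard_image_of_injective _ (fun a b e => congrArg Prod.snd e), Set.ncard_sdiff ?_ (Set.toFinite _),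
        Set.ncard_coe_finset, Finset.card_image_of_injective _ (smul_left_injective F hI.1), Finset.card_univ,
        hF]
      · have : (W : Set (Fin 6 → F)).ncard = 4 ^ 3 := by
          show Nat.card ↥W = _
          rw [Module.natCard_eq_pow_finrank (K := F) (V := ↥W), Nat.card_eq_fintype_card, hF, P.dim]
        rw [this]; norm_num
      · intro x hx
        simp only [Finset.coe_image, Finset.coe_univ, Set.image_univ, Set.mem_range] at hx
        obtain ⟨c, rfl⟩ := hx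
        exact W.smul_mem c hu.1)
  have e2 : {p : (Fin 6 → F) × (Fin 6 → F) | p.1 ∈ (W : Set (Fin 6 → F)) \ {0} ∧ p.2 ∈ W ∧ OrthPair p.1 p.2}
      = {p | p.1 ∈ W ∧ p.2 ∈ W ∧ OrthPair p.1 p.2} := Set.ext fun p =>
    ⟨fun h => ⟨h.1.1, h.2⟩, fun h => ⟨⟨h.1, h.2.2.1.1⟩, h.2⟩⟩
  rw [e2, FischerM22.submodule_nonzero_card hF, P.dim] at hvec
  rw [hset, hvec] at hcount
  omega

theorem planeSet_not_pairsW (hF : Fintype.card F = 4) (P : IsPlane W) {x : Cfsg.PSU 6 F 2}
    (hx : x ∈ planeSet hF W) : x ∉ pairsW hF W := by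
  obtain ⟨v, hv, hv0, rfl⟩ := hx
  rintro ⟨u, w, -, -, h, e⟩
  have hI := P.iso_of_mem hv hv0
  have e' : tv hF v = tv hF u * tv hF w := eq_of_toPSU hF (tv_sq hF hI.2) (by
    have hc : Commute (tv hF w) (tv hF u) := tv_comm hF h.2.1.2 h.1.2 h.2.2.1
    rw [hc.mul_mul_mul_comm, tv_sq hF h.1.2, tv_sq hF h.2.1.2, one_mul])
    (by rw [map_mul]; exact e)
  have key : ∀ x, hf x v • v = hf x u • u + hf x w • w := fun x => by
    rw [← disp_two hF h.1.2 h.2.1.2 h.2.2.1, ← e', act_tv hF hI.2, add_comm x, vadd_cancel hF]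
  obtain ⟨x0, hx0⟩ := exists_dual hF h.li ![1, 0]
  obtain ⟨x1, hx1⟩ := exists_dual hF h.li ![0, 1]
  have k0 := key x0
  have k1 := key x1
  rw [show hf x0 u = 1 from hx0 0, show hf x0 w = 0 from hx0 1, one_smul, zero_smul, add_zero] at k0
  rw [show hf x1 u = 0 from hx1 0, show hf x1 w = 1 from hx1 1, one_smul, zero_smul, zero_add] at k1
  have h0 : hf x0 v ≠ 0 := fun e0 => h.1.1 (by rw [← k0, e0, zero_smul])
  exact h.2.2.2 (hf x1 v * (hf x0 v)⁻¹) (by rw [← k0, ← k1, smul_smul, mul_assoc, inv_mul_cancel₀ h0, mul_one])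

theorem planeSet_not_framesW (hF : Fintype.card F = 4) (P : IsPlane W) {x : Cfsg.PSU 6 F 2}
    (hx : x ∈ planeSet hF W) : x ∉ framesW hF W := by
  obtain ⟨v, hv, hv0, rfl⟩ := hx
  rintro ⟨u, hu, hW, e⟩
  have hI := P.iso_of_mem hv hv0
  obtain ⟨x, hx⟩ := exists_dual hF hu.li ![0, 1, 0]
  obtain ⟨y, hy⟩ := exists_dual hF hu.li ![1, 0, 0]
  have e' : tv hF v = tv hF (u 0) * tv hF (u 1) * tv hF (u 2) :=
    eq_of_toPSU hF (tv_sq hF hI.2) (three_sq hF hu) (by simp only [map_mul]; exact e)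
  have key : ∀ z, hf z v • v = hf z (u 0) • u 0 + hf z (u 1) • u 1 + hf z (u 2) • u 2 := fun z => by
    rw [← disp_three hF hu, ← e', act_tv hF hI.2, add_comm z, vadd_cancel hF]
  have k0 := key x
  have k1 := key y
  rw [show hf x (u 0) = 0 from hx 0, show hf x (u 1) = 1 from hx 1, show hf x (u 2) = 0 from hx 2, one_smul,
    zero_smul, zero_smul, zero_add, add_zero] at k0
  rw [show hf y (u 0) = 1 from hy 0, show hf y (u 1) = 0 from hy 1, show hf y (u 2) = 0 from hy 2, one_smul,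
    zero_smul, zero_smul, add_zero, add_zero] at k1
  have h0 : hf y v ≠ 0 := fun e0 => (hu.iso 0).1 (by rw [← k1, e0, zero_smul])
  exact (hu.pair (show (0 : Fin 3) ≠ 1 by decide)).2.2.2 (hf x v * (hf y v)⁻¹)
    (by rw [← k0, ← k1, smul_smul, mul_assoc, inv_mul_cancel₀ h0, mul_one])

theorem pairsW_not_framesW (hF : Fintype.card F = 4) {x : Cfsg.PSU 6 F 2}
    (hx : x ∈ pairsW hF W) : x ∉ framesW hF W := by
  obtain ⟨p, q, -, -, h, rfl⟩ := hx
  rintro ⟨u, hu, -, e⟩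
  exact three_ne_two hF hu h.1.2 h.2.1.2 h.2.2.1 e.symm

theorem pairsW_ne_one (hF : Fintype.card F = 4) : (1 : Cfsg.PSU 6 F 2) ∉ pairsW hF W := by
  rintro ⟨u, w, -, -, h, e⟩
  have e' : tau hF u = tau hF w := by
    rw [← tau_inv hF h.2.1]; exact eq_inv_of_mul_eq_one_left e.symm
  obtain ⟨c, -, e''⟩ := tau_inj hF h.1 h.2.1 e'
  exact h.2.2.2 c e''

theorem framesW_ne_one (hF : Fintype.card F = 4) : (1 : Cfsg.PSU 6 F 2) ∉ framesW hF W := by
  rintro ⟨u, hu, -, e⟩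
  exact three_ne_two hF hu (p := u 0) (q := u 0) (hu.orth 0 0) (hu.orth 0 0) (hu.orth 0 0)
    (by rw [tau_sq hF (hu.iso 0)]; exact e.symm)

theorem framesW_card (hF : Fintype.card F = 4) (P : IsPlane W) : (framesW hF W).ncard = 280 := by
  have e : (spanW W : Set (Cfsg.PSU 6 F 2)) = {1} ∪ (planeSet hF W ∪ (pairsW hF W ∪ framesW hF W)) := by
    refine Set.Subset.antisymm (fun x hx => ?_) ?_
    · simpa [pairsW, framesW] using spanW_cases hF P hx
    · rintro x (rfl | hx | hx | hx)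
      · exact one_mem _
      · rw [SetLike.mem_coe, spanW_eq_closure hF P]; exact Subgroup.subset_closure hx
      · obtain ⟨u, w, hu, hw, -, rfl⟩ := hx
        exact mul_mem ⟨_, tv_mem_fixW hF P hu, rfl⟩ ⟨_, tv_mem_fixW hF P hw, rfl⟩
      · obtain ⟨u, -, hu, rfl⟩ := hx
        exact mul_mem (mul_mem ⟨_, tv_mem_fixW hF P (hu 0), rfl⟩ ⟨_, tv_mem_fixW hF P (hu 1), rfl⟩)
          ⟨_, tv_mem_fixW hF P (hu 2), rfl⟩
  have hc := congrArg Set.ncard e
  rw [← Nat.card_coe_set_eq] at hc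
  have hspan : Nat.card ↥((spanW W : Subgroup (Cfsg.PSU 6 F 2)) : Set (Cfsg.PSU 6 F 2)) = 512 := spanW_card hF P
  rw [hspan, Set.ncard_union_eq ?_ (Set.toFinite _) (Set.toFinite _),
    Set.ncard_union_eq ?_ (Set.toFinite _) (Set.toFinite _),
    Set.ncard_union_eq ?_ (Set.toFinite _) (Set.toFinite _), Set.ncard_singleton, planeSet_card hF P,
    pairsW_card hF P] at hc
  · omega
  · exact Set.disjoint_left.2 fun x hx => pairsW_not_framesW hF hx
  · exact Set.disjoint_left.2 fun x hx h => h.elim (planeSet_not_pairsW hF P hx) (planeSet_not_framesW hF P hx)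
  · refine Set.disjoint_singleton_left.2 ?_
    rintro (⟨v, hv, hv0, e⟩ | h | h)
    · exact tau_ne_one hF (P.iso_of_mem hv hv0) e.symm
    · exact pairsW_ne_one hF h
    · exact framesW_ne_one hF h

/-- A third centre for a pair. -/
theorem third_card (hF : Fintype.card F = 4) {u w : Fin 6 → F} (h : OrthPair u w) :
    {x : Fin 6 → F | Frame3 ![x, u, w]}.ncard = 144 ∧
      ∀ W : Submodule F (Fin 6 → F), IsPlane W → u ∈ W → w ∈ W →
        {x : Fin 6 → F | Frame3 ![x, u, w] ∧ x ∈ W}.ncard = 48 := by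
  classical
  set L := Submodule.span F (Set.range ![u, w]) with hL
  have hL2 : Module.finrank F L = 2 := by rw [hL, finrank_span_eq_card h.li, Fintype.card_fin]
  have hiff : ∀ x, Frame3 ![x, u, w] ↔ (Iso x ∧ hf x u = 0 ∧ hf x w = 0) ∧ x ∉ L := by
    intro x
    constructor
    · intro hfr
      refine ⟨⟨hfr.iso 0, hfr.orth 0 1, hfr.orth 0 2⟩, ?_⟩
      exact (linearIndependent_finCons.1 (show LinearIndependent F (Fin.cons x ![u, w]) from hfr.li)).2
    · rintro ⟨⟨hx, h1, h2⟩, hn⟩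
      refine ⟨linearIndependent_finCons.2 ⟨h.li, hn⟩, fun i j => ?_⟩
      fin_cases i <;> fin_cases j <;>
        first
          | exact hx.2
          | exact h1
          | exact h2
          | exact h.1.2
          | exact h.2.1.2
          | exact h.2.2.1
          | exact (hf_eq_zero_symm hF).1 h1
          | exact (hf_eq_zero_symm hF).1 h2
          | exact (hf_eq_zero_symm hF).1 h.2.2.1
  have hLiso : ∀ x ∈ L, ∀ y ∈ L, hf x y = 0 := by
    refine FischerM22.hf_span_zero hF ?_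
    rintro _ ⟨i, rfl⟩ _ ⟨j, rfl⟩
    fin_cases i <;> fin_cases j <;>
      first | exact h.1.2 | exact h.2.1.2 | exact h.2.2.1 | exact (hf_eq_zero_symm hF).1 h.2.2.1
  have hu : u ∈ L := Submodule.subset_span ⟨0, rfl⟩
  have hw : w ∈ L := Submodule.subset_span ⟨1, rfl⟩
  have hL0 : ((L : Set (Fin 6 → F)) \ {0}).ncard = 15 := by
    rw [FischerM22.submodule_nonzero_card hF, hL2]; norm_num
  refine ⟨?_, fun W P huW hwW => ?_⟩
  · have hc := FischerM22.count_orth hF h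
    rw [← Set.coe_ofPred, Nat.card_coe_set_eq] at hc
    have e : {x : Fin 6 → F | Frame3 ![x, u, w]}
        = {x | Iso x ∧ hf x u = 0 ∧ hf x w = 0} \ ((L : Set (Fin 6 → F)) \ {0}) := by
      ext x
      rw [Set.mem_ofPred_eq, hiff]
      exact ⟨fun hx => ⟨hx.1, fun h' => hx.2 h'.1⟩, fun hx => ⟨hx.1, fun h' => hx.2 ⟨h', hx.1.1.1⟩⟩⟩
    rw [e, Set.ncard_sdiff ?_ (Set.toFinite _), hc, hL0]
    exact fun x hx => ⟨⟨hx.2, hLiso x hx.1 x hx.1⟩, hLiso x hx.1 u hu, hLiso x hx.1 w hw⟩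
  · have e : {x : Fin 6 → F | Frame3 ![x, u, w] ∧ x ∈ W} = (W : Set (Fin 6 → F)) \ (L : Set (Fin 6 → F)) := by
      ext x
      rw [Set.mem_ofPred_eq, hiff]
      refine ⟨fun hx => ⟨hx.2, hx.1.2⟩, fun hx => ⟨⟨⟨P.iso_of_mem hx.1 fun e => hx.2 ?_, P.iso x hx.1 u huW,
        P.iso x hx.1 w hwW⟩, hx.2⟩, hx.1⟩⟩
      rw [e]; exact L.zero_mem
    have hle : L ≤ W := Submodule.span_le.2 (by rintro _ ⟨i, rfl⟩; fin_cases i <;> assumption)
    have c1 : (W : Set (Fin 6 → F)).ncard = 64 := by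
      show Nat.card ↥W = _
      rw [Module.natCard_eq_pow_finrank (K := F) (V := ↥W), Nat.card_eq_fintype_card, hF, P.dim]
      norm_num
    have c2 : (L : Set (Fin 6 → F)).ncard = 16 := by
      show Nat.card ↥L = _
      rw [Module.natCard_eq_pow_finrank (K := F) (V := ↥L), Nat.card_eq_fintype_card, hF, hL2]
      norm_num
    rw [e, Set.ncard_sdiff (fun x hx => hle hx) (Set.toFinite _), c1, c2]

/-- Three centres as a pair and a third one. -/
def triOf (q : ((Fin 6 → F) × (Fin 6 → F)) × (Fin 6 → F)) : Fin 3 → (Fin 6 → F) := ![q.2, q.1.1, q.1.2]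

/-- The product of three transvections. -/
noncomputable def prod3 (hF : Fintype.card F = 4) (q : ((Fin 6 → F) × (Fin 6 → F)) × (Fin 6 → F)) :
    Cfsg.PSU 6 F 2 := tau hF q.2 * tau hF q.1.1 * tau hF q.1.2

/-- The number of frames with a given product. -/
theorem triple_fibre_conj (hF : Fintype.card F = 4) (z : Cfsg.PSU 6 F 2) (g : Cfsg.SU 6 F 2) :
    {q | prod3 hF q = toPSU 6 F g * z * (toPSU 6 F g)⁻¹ ∧ Frame3 (triOf q)}.ncard
      = {q | prod3 hF q = z ∧ Frame3 (triOf q)}.ncard := by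
  have hle : ∀ (z : Cfsg.PSU 6 F 2) (g : Cfsg.SU 6 F 2), {q | prod3 hF q = z ∧ Frame3 (triOf q)}.ncard
      ≤ {q | prod3 hF q = toPSU 6 F g * z * (toPSU 6 F g)⁻¹ ∧ Frame3 (triOf q)}.ncard := by
    intro z g
    refine Set.ncard_le_ncard_of_injOn (fun q => ((act g q.1.1, act g q.1.2), act g q.2)) ?_ ?_ (Set.toFinite _)
    · rintro ⟨⟨a, b⟩, c⟩ ⟨h1, h2⟩
      refine ⟨?_, ?_⟩
      · rw [← h1]
        simp only [prod3]
        have i0 : Iso c := h2.iso 0
        have i1 : Iso a := h2.iso 1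
        have i2 : Iso b := h2.iso 2
        rw [← tau_conj hF g i0, ← tau_conj hF g i1, ← tau_conj hF g i2]
        simp [mul_assoc]
      · have e : triOf ((act g a, act g b), act g c) = fun i => act g (triOf ((a, b), c) i) := by
          funext i; fin_cases i <;> rfl
        rw [e]; exact h2.act g
    · rintro ⟨⟨a, b⟩, c⟩ - ⟨⟨a', b'⟩, c'⟩ - e
      simp only [Prod.mk.injEq, act_eq_iff] at e
      obtain ⟨⟨rfl, rfl⟩, rfl⟩ := e
      rfl
  refine le_antisymm ?_ (hle z g)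
  have := hle (toPSU 6 F g * z * (toPSU 6 F g)⁻¹) g⁻¹
  rwa [map_inv, show (toPSU 6 F g)⁻¹ * (toPSU 6 F g * z * (toPSU 6 F g)⁻¹) * (toPSU 6 F g)⁻¹⁻¹ = z by group] at this

theorem triples_conj (hF : Fintype.card F = 4) {u w : Fin 3 → (Fin 6 → F)} (hu : Frame3 u) (hw : Frame3 w) :
    ∃ g : Cfsg.SU 6 F 2, toPSU 6 F g * (tau hF (u 0) * tau hF (u 1) * tau hF (u 2)) * (toPSU 6 F g)⁻¹
      = tau hF (w 0) * tau hF (w 1) * tau hF (w 2) := by
  obtain ⟨g, c, hc, g0, g1, g2⟩ := exists_act_three hF hu hw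
  refine ⟨g, ?_⟩
  rw [← tau_smul hF (hw.iso 2) hc, ← g0, ← g1, ← g2, ← tau_conj hF g (hu.iso 0), ← tau_conj hF g (hu.iso 1),
    ← tau_conj hF g (hu.iso 2)]
  group

theorem frameVecs_card (hF : Fintype.card F = 4) :
    {q : ((Fin 6 → F) × (Fin 6 → F)) × (Fin 6 → F) | Frame3 (triOf q)}.ncard = 161663040 ∧
      ∀ W : Submodule F (Fin 6 → F), IsPlane W →
        {q : ((Fin 6 → F) × (Fin 6 → F)) × (Fin 6 → F) | Frame3 (triOf q) ∧ q.1.1 ∈ W ∧ q.1.2 ∈ W ∧ q.2 ∈ W}.ncard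
          = 181440 := by
  have hop : ∀ q : ((Fin 6 → F) × (Fin 6 → F)) × (Fin 6 → F), Frame3 (triOf q) → OrthPair q.1.1 q.1.2 :=
    fun q h => h.pair (show (1 : Fin 3) ≠ 2 by decide)
  constructor
  · have h := M22Cover.ncard_fibres (Prod.fst : ((Fin 6 → F) × (Fin 6 → F)) × (Fin 6 → F) → _)
      (fun q => Frame3 (triOf q)) {p | OrthPair p.1 p.2} 144 (fun p hp => by
        rw [← (third_card hF hp).1, ← Set.ncard_image_of_injective {x | Frame3 ![x, p.1, p.2]}
          (f := fun x => (p, x)) (fun a b e => congrArg Prod.snd e)]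
        congr 1
        ext ⟨a, b⟩
        constructor
        · rintro ⟨h1, h2⟩
          obtain rfl : a = p := h1
          exact ⟨b, h2, rfl⟩
        · rintro ⟨b', h, e⟩
          obtain ⟨rfl, rfl⟩ := Prod.ext_iff.1 e
          exact ⟨rfl, h⟩)
    have e : {q : ((Fin 6 → F) × (Fin 6 → F)) × (Fin 6 → F) | q.1 ∈ {p : (Fin 6 → F) × (Fin 6 → F) | OrthPair p.1 p.2} ∧
        Frame3 (triOf q)} = {q | Frame3 (triOf q)} := Set.ext fun q => ⟨fun h => h.2, fun h => ⟨hop q h, h⟩⟩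
    rw [e, pairVecs_card hF] at h
    omega
  · intro W P
    have h := M22Cover.ncard_fibres (Prod.fst : ((Fin 6 → F) × (Fin 6 → F)) × (Fin 6 → F) → _)
      (fun q => Frame3 (triOf q) ∧ q.2 ∈ W) {p | p.1 ∈ W ∧ p.2 ∈ W ∧ OrthPair p.1 p.2} 48 (fun p hp => by
        rw [← (third_card hF hp.2.2).2 W P hp.1 hp.2.1, ← Set.ncard_image_of_injective
          {x | Frame3 ![x, p.1, p.2] ∧ x ∈ W} (f := fun x => (p, x)) (fun a b e => congrArg Prod.snd e)]
        congr 1
        ext ⟨a, b⟩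
        constructor
        · rintro ⟨h1, h2⟩
          obtain rfl : a = p := h1
          exact ⟨b, h2, rfl⟩
        · rintro ⟨b', h, e⟩
          obtain ⟨rfl, rfl⟩ := Prod.ext_iff.1 e
          exact ⟨rfl, h⟩)
    have e : {q : ((Fin 6 → F) × (Fin 6 → F)) × (Fin 6 → F) |
        q.1 ∈ {p : (Fin 6 → F) × (Fin 6 → F) | p.1 ∈ W ∧ p.2 ∈ W ∧ OrthPair p.1 p.2} ∧ Frame3 (triOf q) ∧ q.2 ∈ W}
        = {q | Frame3 (triOf q) ∧ q.1.1 ∈ W ∧ q.1.2 ∈ W ∧ q.2 ∈ W} := Set.ext fun q =>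
      ⟨fun h => ⟨h.2.1, h.1.1, h.1.2.1, h.2.2⟩, fun h => ⟨⟨h.2.1, h.2.2.1, hop q h.1⟩, h.1, h.2.2.2⟩⟩
    have hp : {p : (Fin 6 → F) × (Fin 6 → F) | p.1 ∈ W ∧ p.2 ∈ W ∧ OrthPair p.1 p.2}.ncard = 3780 := by
      have hcount := M22Cover.ncard_fibres (fun p : (Fin 6 → F) × (Fin 6 → F) => tau hF p.1 * tau hF p.2)
        (fun p => OrthPair p.1 p.2 ∧ p.1 ∈ W ∧ p.2 ∈ W) (pairsW hF W) 18 (by
          rintro _ ⟨u, w, hu, hw, h, rfl⟩
          rw [← pair_fibre hF h]
          congr 1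
          ext ⟨a, b⟩
          refine ⟨fun h' => ⟨h'.1, h'.2.1⟩, fun ⟨e, hab⟩ => ⟨e, hab, ?_⟩⟩
          have hP : ∀ {v a}, v ∈ W → Iso v → Iso a → tau hF a = tau hF v → a ∈ W := fun {v a} hv hvI ha e => by
            obtain ⟨c, -, rfl⟩ := tau_inj hF hvI ha e.symm
            exact W.smul_mem c hv
          have hc : Commute (tau hF u) (tau hF w) := (tau_comm_iff hF h.1 h.2.1).2 h.2.2.1
          dsimp only at e hab ⊢
          rcases pair_unique hF h hab e with k | k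
          · rw [k] at e
            exact ⟨hP hu h.1 hab.1 k, hP hw h.2.1 hab.2.1 (mul_left_cancel e)⟩
          · rw [k] at e
            exact ⟨hP hw h.2.1 hab.1 k, hP hu h.1 hab.2.1 (mul_left_cancel (e.trans hc.eq))⟩)
      have e' : {p : (Fin 6 → F) × (Fin 6 → F) | tau hF p.1 * tau hF p.2 ∈ pairsW hF W ∧ OrthPair p.1 p.2 ∧ p.1 ∈ W ∧ p.2 ∈ W}
          = {p | p.1 ∈ W ∧ p.2 ∈ W ∧ OrthPair p.1 p.2} := Set.ext fun p =>
        ⟨fun h => ⟨h.2.2.1, h.2.2.2, h.2.1⟩, fun h => ⟨⟨_, _, h.1, h.2.1, h.2.2, rfl⟩, h.2.2, h.1, h.2.1⟩⟩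
      rw [e', pairsW_card hF P] at hcount
      exact hcount
    rw [e, hp] at h
    omega

theorem triple_centralizer (hF : Fintype.card F = 4) {u : Fin 3 → (Fin 6 → F)} (hu : Frame3 u) :
    Nat.card ↥(Subgroup.centralizer ({tau hF (u 0) * tau hF (u 1) * tau hF (u 2)} : Set (Cfsg.PSU 6 F 2)))
      = 36864 := by
  set z₀ := tau hF (u 0) * tau hF (u 1) * tau hF (u 2) with hz
  set k := {q | prod3 hF q = z₀ ∧ Frame3 (triOf q)}.ncard with hk
  have hconst : ∀ w : Fin 3 → (Fin 6 → F), Frame3 w →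
      {q | prod3 hF q = tau hF (w 0) * tau hF (w 1) * tau hF (w 2) ∧ Frame3 (triOf q)}.ncard = k := by
    intro w hw
    obtain ⟨g, hg⟩ := triples_conj hF hu hw
    rw [← hg, hk, triple_fibre_conj hF]
  set K := {y | ∃ g, g * z₀ * g⁻¹ = y} with hK
  have hclass : ∀ y, y ∈ K ↔ ∃ w : Fin 3 → (Fin 6 → F), Frame3 w ∧ y = tau hF (w 0) * tau hF (w 1) * tau hF (w 2) := by
    intro y
    constructor
    · rintro ⟨g, rfl⟩
      obtain ⟨g, rfl⟩ := QuotientGroup.mk'_surjective _ g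
      refine ⟨_, hu.act g, ?_⟩
      rw [← tau_conj hF g (hu.iso 0), ← tau_conj hF g (hu.iso 1), ← tau_conj hF g (hu.iso 2), hz]
      group
    · rintro ⟨w, hw, rfl⟩
      obtain ⟨g, hg⟩ := triples_conj hF hu hw
      exact ⟨_, hg⟩
  have hprod : ∀ q, prod3 hF q = tau hF (triOf q 0) * tau hF (triOf q 1) * tau hF (triOf q 2) := fun q => rfl
  have hall := M22Cover.ncard_fibres (prod3 hF) (fun q => Frame3 (triOf q)) K k (fun y hy => by
    obtain ⟨w, hw, rfl⟩ := (hclass y).1 hy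
    exact hconst w hw)
  have e : {q | prod3 hF q ∈ K ∧ Frame3 (triOf q)} = {q | Frame3 (triOf q)} :=
    Set.ext fun q => ⟨fun h => h.2, fun h => ⟨(hclass _).2 ⟨_, h, hprod q⟩, h⟩⟩
  rw [e, (frameVecs_card hF).1] at hall
  obtain ⟨W, P⟩ := exists_plane hF
  have hin := M22Cover.ncard_fibres (prod3 hF) (fun q => Frame3 (triOf q)) (framesW hF W) k (by
    rintro _ ⟨w, hw, -, rfl⟩; exact hconst w hw)
  have e' : {q | prod3 hF q ∈ framesW hF W ∧ Frame3 (triOf q)}
      = {q | Frame3 (triOf q) ∧ q.1.1 ∈ W ∧ q.1.2 ∈ W ∧ q.2 ∈ W} := by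
    ext q
    constructor
    · rintro ⟨⟨w, -, hwW, e⟩, hq⟩
      have hmem : prod3 hF q ∈ spanW W := by
        rw [e]
        exact mul_mem (mul_mem ⟨_, tv_mem_fixW hF P (hwW 0), rfl⟩ ⟨_, tv_mem_fixW hF P (hwW 1), rfl⟩)
          ⟨_, tv_mem_fixW hF P (hwW 2), rfl⟩
      exact ⟨hq, frame_mem hF P hq hmem 1, frame_mem hF P hq hmem 2, frame_mem hF P hq hmem 0⟩
    · rintro ⟨hq, h1, h2, h3⟩
      exact ⟨⟨_, hq, fun i => by fin_cases i <;> assumption, hprod q⟩, hq⟩
  rw [e', (frameVecs_card hF).2 W P, framesW_card hF P] at hin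
  have hk648 : k = 648 := by omega
  rw [hk648] at hall
  have hmul := class_mul z₀
  rw [psu_card hF, ← hK, show K.ncard = 249480 by omega] at hmul
  omega

end Cfsg.Agent.U62Base
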