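/-
Double covers of PSU(6,2).

* `commute_lift` : lifts of a member and of an element commuting with it commute;
* `exists_section` : an equivariant choice of lifts of the members;
* `not_mem_commutator` : if such a choice respects the relations within one plane, `δ` is outside the derived group.
-/
import Cfsg.Agent.Lib.U62Base.Base
import Cfsg.Agent.Lib.U62Cover.Lift
import Cfsg.Agent.Lib.FischerM22.Stab
import Cfsg.Agent.Lib.M22Cover.Lift
import Cfsg.Agent.Lib.U62Mult.TwoBound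

set_option autoImplicit false

namespace Cfsg.Agent.U62Base

open Cfsg.Agent.Unitary Cfsg.Agent.U62Cover Cfsg.Agent.ThreeTransSU

variable {F : Type*} [Field F] [Fintype F] {H : Type*} [Group H] {ψ : H →* Cfsg.PSU 6 F 2} {δ : H}

theorem ext_central (X : M22Cover.Ext ψ δ) : ψ.ker ≤ Subgroup.center H := fun k hk => by
  refine Subgroup.mem_center_iff.2 fun g => ?_
  rcases (X.ker k).1 hk with rfl | rfl
  · simp
  · exact (X.central g).eq.symm

theorem ext_sq (X : M22Cover.Ext ψ δ) : ∀ k ∈ ψ.ker, k * k = 1 := fun k hk => by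
  rcases (X.ker k).1 hk with rfl | rfl
  exacts [mul_one 1, X.sq]

/-- Lifts of a member and of an element commuting with it commute. -/
theorem commute_lift (hF : Fintype.card F = 4) (X : M22Cover.Ext ψ δ) {x h : H} (hx : ψ x ∈ members hF)
    (hc : Commute (ψ h) (ψ x)) : Commute x h := by
  obtain ⟨v, hv, ev⟩ := hx
  obtain ⟨g, hg⟩ := QuotientGroup.mk'_surjective _ (ψ h)
  have hgv : tau hF (act g v) = tau hF v := by
    rw [← tau_conj hF g hv, show toPSU 6 F g = ψ h from hg, ← ev, hc.eq, mul_inv_cancel_right]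
  obtain ⟨c, -, e⟩ := tau_inj hF hv (hv.act g) hgv.symm
  obtain ⟨z, hz, t, ht, rfl⟩ := FischerM22.stab_point hF hv e
  have key : FischerM22.tvPerp F hF v ≤ ((Subgroup.centralizer ({x} : Set H)).map ψ).comap (toPSU 6 F) := by
    refine (Subgroup.closure_le _).2 ?_
    rintro _ ⟨w, hw, hwv, rfl⟩
    obtain ⟨y, hy⟩ := X.surj (tau hF w)
    refine ⟨y, Subgroup.mem_centralizer_singleton_iff.2 (Commute.symm ?_).eq, hy⟩
    have hl := (lift_props ψ X.surj (ext_central X) (ext_sq X) hF).1 v w hv.2 hw.2 ((hf_eq_zero_symm hF).1 hwv)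
    exact X.comm_fibre (u := lift ψ X.surj hF v) (w := lift ψ X.surj hF w)
      (by rw [lift_spec, ev]; rfl) (by rw [lift_spec, hy]; rfl) hl
  obtain ⟨y, hy, ey⟩ := key ht
  refine X.comm_fibre (u := x) (w := y) rfl ?_ (Subgroup.mem_centralizer_singleton_iff.1 hy : Commute y x).symm
  rw [← hg, ey]
  show toPSU 6 F t = toPSU 6 F (z * t)
  rw [map_mul, toPSU_eq_one.2 hz, one_mul]

/-- An equivariant choice of lifts through a given one. -/
theorem exists_section (hF : Fintype.card F = 4) (X : M22Cover.Ext ψ δ) {u₀ : H} (hu : ψ u₀ ∈ members hF) :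
    ∃ w : Cfsg.PSU 6 F 2 → H, w (ψ u₀) = u₀ ∧ (∀ a ∈ members hF, ψ (w a) = a) ∧
      ∀ h : H, ∀ a ∈ members hF, h * w a * h⁻¹ = w (ψ h * a * (ψ h)⁻¹) := by
  classical
  have key : ∀ a, ∃ x : H, a ∈ members hF → ∃ g : H, ψ g * ψ u₀ * (ψ g)⁻¹ = a ∧ g * u₀ * g⁻¹ = x := fun a => by
    by_cases ha : a ∈ members hF
    · obtain ⟨g, hg⟩ := members_conj_transitive hF hu ha
      obtain ⟨g', rfl⟩ := X.surj g
      exact ⟨_, fun _ => ⟨g', hg, rfl⟩⟩
    · exact ⟨1, fun h => absurd h ha⟩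
  choose w hw using key
  have val : ∀ g : H, w (ψ g * ψ u₀ * (ψ g)⁻¹) = g * u₀ * g⁻¹ := fun g => by
    obtain ⟨g₀, h1, h2⟩ := hw _ (members_conj hF (ψ g) hu)
    rw [← h2]
    have hc : Commute u₀ (g⁻¹ * g₀) := commute_lift hF X hu (by
      rw [map_mul, map_inv]
      refine mul_inv_eq_iff_eq_mul.1 ?_
      calc (ψ g)⁻¹ * ψ g₀ * ψ u₀ * ((ψ g)⁻¹ * ψ g₀)⁻¹
          = (ψ g)⁻¹ * (ψ g₀ * ψ u₀ * (ψ g₀)⁻¹) * ψ g := by group
        _ = ψ u₀ := by rw [h1]; group)
    calc g₀ * u₀ * g₀⁻¹ = g * ((g⁻¹ * g₀) * u₀) * g₀⁻¹ := by group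
      _ = g * u₀ * g⁻¹ := by rw [← hc.eq]; group
  refine ⟨w, ?_, fun a ha => ?_, fun h a ha => ?_⟩
  · have := val 1
    simpa using this
  · obtain ⟨g, h1, h2⟩ := hw a ha
    rw [← h2, map_mul, map_mul, map_inv, h1]
  · obtain ⟨g, h1, h2⟩ := hw a ha
    rw [← h2, show ψ h * a * (ψ h)⁻¹ = ψ (h * g) * ψ u₀ * (ψ (h * g))⁻¹ by rw [← h1, map_mul]; group,
      val (h * g)]
    group

/-! ### Splitting -/

theorem comm_congr_psu (hc : ψ.ker ≤ Subgroup.center H) {a a' b b' : H} (ha : ψ a = ψ a') (hb : ψ b = ψ b') :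
    a * b * a⁻¹ * b⁻¹ = a' * b' * a'⁻¹ * b'⁻¹ := by
  have key : ∀ {x x' y : H}, ψ x = ψ x' → x * y * x⁻¹ * y⁻¹ = x' * y * x'⁻¹ * y⁻¹ := by
    intro x x' y h
    have hk : x'⁻¹ * x ∈ ψ.ker := by rw [MonoidHom.mem_ker, map_mul, map_inv, h, inv_mul_cancel]
    have hz := Subgroup.mem_center_iff.1 (hc hk) y
    rw [show x * y * x⁻¹ * y⁻¹ = x' * (x'⁻¹ * x * y) * (x⁻¹) * y⁻¹ by group, ← hz]
    group
  calc a * b * a⁻¹ * b⁻¹ = a' * b * a'⁻¹ * b⁻¹ := key ha
    _ = (b * a' * b⁻¹ * a'⁻¹)⁻¹ := by group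
    _ = (b' * a' * b'⁻¹ * a'⁻¹)⁻¹ := by rw [key hb]
    _ = a' * b' * a'⁻¹ * b'⁻¹ := by group

theorem linePair (hF : Fintype.card F = 4) {v x y : Fin 6 → F} (h : OrthPair v x) (hy : hf y y = 0)
    (hyv : hf y v = 0) (hyx : hf y x = 0) :
    ∃ W : Submodule F (Fin 6 → F), IsPlane W ∧ v ∈ W ∧ x ∈ W ∧ y ∈ W := by
  by_cases hn : y ∈ Submodule.span F (Set.range ![v, x])
  · obtain ⟨W₀, P₀⟩ := exists_plane hF
    obtain ⟨u, hu, -⟩ := P₀.exists_frame
    obtain ⟨g, g0, g1⟩ := exists_act_two hF (by norm_num) (hu.pair (show (0 : Fin 3) ≠ 1 by decide)) h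
    have hle : Submodule.span F (Set.range ![v, x]) ≤ Submodule.span F (Set.range fun i => act g (u i)) := by
      refine Submodule.span_le.2 ?_
      rintro _ ⟨i, rfl⟩
      fin_cases i
      · exact Submodule.subset_span ⟨0, g0⟩
      · exact Submodule.subset_span ⟨1, g1⟩
    exact ⟨_, isPlane_span hF (hu.act g), hle (Submodule.subset_span ⟨0, rfl⟩),
      hle (Submodule.subset_span ⟨1, rfl⟩), hle hn⟩
  · have hfr : Frame3 ![y, v, x] := by
      refine ⟨linearIndependent_finCons.2 ⟨h.li, hn⟩, fun i j => ?_⟩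
      fin_cases i <;> fin_cases j <;>
        first
          | exact hy
          | exact hyv
          | exact hyx
          | exact h.1.2
          | exact h.2.1.2
          | exact h.2.2.1
          | exact (hf_eq_zero_symm hF).1 hyv
          | exact (hf_eq_zero_symm hF).1 hyx
          | exact (hf_eq_zero_symm hF).1 h.2.2.1
    exact ⟨_, isPlane_span hF hfr, Submodule.subset_span ⟨1, rfl⟩, Submodule.subset_span ⟨2, rfl⟩,
      Submodule.subset_span ⟨0, rfl⟩⟩

variable {B : Type*} [Group B] {φ : B →* Cfsg.SU 6 F 2} {s : (Fin 6 → F) → B}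

/-- The lifted transvections of a plane. -/
def lifted (s : (Fin 6 → F) → B) (W : Submodule F (Fin 6 → F)) : Subgroup B :=
  Subgroup.closure {x | ∃ v ∈ W, v ≠ 0 ∧ x = s v}

/-- If the lifted transvections of every plane meet the kernel trivially, so does a radical. -/
theorem kPart_trivial (hF : Fintype.card F = 4) (E : ThreeTransSU.Ext φ s)
    (hrel : ∀ W : Submodule F (Fin 6 → F), IsPlane W → ∀ x ∈ lifted s W, φ x = 1 → x = 1) :
    ∀ x ∈ U62Mult.kPart E (p1 : Fin 6 → F), x = 1 := by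
  obtain ⟨ω, hω0, hω⟩ := exists_omega hF
  obtain ⟨h11, h22, h33, -, h12, h21, h13, h31, h23, h32, -, -⟩ := herm_std (F := F) hF
  set v : Fin 6 → F := p1 with hv
  set f2 : Fin 6 → F := ![0, 0, ω, ω ^ 2, 0, 0] with hf2
  set f3 : Fin 6 → F := ![0, 0, 0, 0, ω, ω ^ 2] with hf3
  have hω3 := U62Cover.pow_three hF hω0
  have two := two_eq_zero hF
  have ff : hf f2 f2 = 0 ∧ hf f3 f3 = 0 ∧ hf v f2 = 0 ∧ hf v f3 = 0 ∧ hf f2 f3 = 0 ∧
      hf (p2 : Fin 6 → F) f2 = 1 ∧ hf (p2 : Fin 6 → F) f3 = 0 ∧ hf (p3 : Fin 6 → F) f2 = 0 ∧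
      hf (p3 : Fin 6 → F) f3 = 1 := by
    simp only [hv, hf2, hf3, Cfsg.hermForm, p1, p2, p3, Fin.sum_univ_six]
    simp
    refine ⟨?_, ?_⟩ <;> grind
  obtain ⟨g22, g33, gv2, gv3, g23, d22, d23, d32, d33⟩ := ff
  have g32 := (hf_eq_zero_symm hF).1 g23
  have hfr1 : Frame3 ![v, p2, p3] := by
    refine ⟨Fintype.linearIndependent_iff.2 fun c hc i => ?_, fun i j => ?_⟩
    · rw [Fin.sum_univ_three] at hc
      have a0 := congrFun hc 0
      have a1 := congrFun hc 2
      have a2 := congrFun hc 4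
      simp [hv, p1, p2, p3] at a0 a1 a2
      fin_cases i <;> assumption
    · fin_cases i <;> fin_cases j <;> assumption
  have hfr2 : Frame3 ![v, f2, f3] := by
    refine ⟨Fintype.linearIndependent_iff.2 fun c hc i => ?_, fun i j => ?_⟩
    · rw [Fin.sum_univ_three] at hc
      have a0 := congrFun hc 0
      have a1 := congrFun hc 2
      have a2 := congrFun hc 4
      simp [hv, hf2, hf3, p1, hω0] at a0 a1 a2
      fin_cases i <;> assumption
    · fin_cases i <;> fin_cases j <;>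
        first
          | assumption
          | exact (hf_eq_zero_symm hF).1 gv2
          | exact (hf_eq_zero_symm hF).1 gv3
  set W1 := Submodule.span F (Set.range ![v, p2, p3]) with hW1
  set W2 := Submodule.span F (Set.range ![v, f2, f3]) with hW2
  have P1 : IsPlane W1 := isPlane_span hF hfr1
  have P2 : IsPlane W2 := isPlane_span hF hfr2
  have vW1 : v ∈ W1 := Submodule.subset_span ⟨0, rfl⟩
  have vW2 : v ∈ W2 := Submodule.subset_span ⟨0, rfl⟩
  have p2W : (p2 : Fin 6 → F) ∈ W1 := Submodule.subset_span ⟨1, rfl⟩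
  have p3W : (p3 : Fin 6 → F) ∈ W1 := Submodule.subset_span ⟨2, rfl⟩
  have f2W : f2 ∈ W2 := Submodule.subset_span ⟨1, rfl⟩
  have f3W : f3 ∈ W2 := Submodule.subset_span ⟨2, rfl⟩
  have hvI : Iso v := hfr1.iso 0
  -- the lifted spans
  have mapL : ∀ {W}, IsPlane W → ∀ x ∈ lifted s W, φ x ∈ fixW W := by
    intro W P x hx
    induction hx using Subgroup.closure_induction with
    | mem x hx =>
      obtain ⟨u, hu, hu0, rfl⟩ := hx
      rw [E.map_s u (P.iso_of_mem hu hu0)]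
      exact tv_mem_fixW hF P hu
    | one => rw [map_one]; exact one_mem _
    | mul a b _ _ ha hb => rw [map_mul]; exact mul_mem ha hb
    | inv a _ ha => rw [map_inv]; exact inv_mem ha
  have eqL : ∀ {W}, IsPlane W → ∀ x ∈ lifted s W, ∀ y ∈ lifted s W, φ x = φ y → x = y := fun {W} P x hx y hy e =>
    inv_mul_eq_one.1 (hrel W P _ (mul_mem (inv_mem hx) hy) (by rw [map_mul, map_inv, e, inv_mul_cancel]))
  have sqL : ∀ {W}, IsPlane W → ∀ x ∈ lifted s W, x * x = 1 := fun {W} P x hx =>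
    hrel W P _ (mul_mem hx hx) (by rw [map_mul, fixW_sq hF P (mapL P x hx)])
  set R := E.radical v with hR
  set Q1 := R ⊓ lifted s W1 with hQ1
  set Q2 := R ⊓ lifted s W2 with hQ2
  have svR : s v ∈ R := Subgroup.subset_closure (Or.inr rfl)
  have svQ : s v ∈ Q1 := ⟨svR, Subgroup.subset_closure ⟨v, vW1, hvI.1, rfl⟩⟩
  -- the product is a subgroup
  have conjQ : ∀ q ∈ Q2, ∀ p ∈ Q1, q * p * q⁻¹ ∈ Q1 := by
    intro q hq p hp
    have hq2 := sqL P2 q hq.2
    have hp2 := sqL P1 p hp.2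
    rw [inv_eq_of_mul_eq_one_left hq2]
    rcases U62Mult.radical_sq E hvI (q * p) (mul_mem hq.1 hp.1) with e | e
    · rw [show q * p * q = q * p * q * (p * p) by rw [hp2, mul_one],
        show q * p * q * (p * p) = q * p * (q * p) * p by group, e, one_mul]
      exact hp
    · rw [show q * p * q = q * p * q * (p * p) by rw [hp2, mul_one],
        show q * p * q * (p * p) = q * p * (q * p) * p by group, e]
      exact mul_mem svQ hp
  let X : Subgroup B :=
    { carrier := {x | ∃ p ∈ Q1, ∃ q ∈ Q2, x = p * q}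
      one_mem' := ⟨1, one_mem _, 1, one_mem _, (mul_one 1).symm⟩
      mul_mem' := by
        rintro _ _ ⟨p, hp, q, hq, rfl⟩ ⟨p', hp', q', hq', rfl⟩
        exact ⟨p * (q * p' * q⁻¹), mul_mem hp (conjQ q hq p' hp'), q * q', mul_mem hq hq', by group⟩
      inv_mem' := by
        rintro _ ⟨p, hp, q, hq, rfl⟩
        exact ⟨q⁻¹ * p⁻¹ * q⁻¹⁻¹, conjQ _ (inv_mem hq) _ (inv_mem hp), q⁻¹, inv_mem hq, by group⟩ }
  have Q1X : ∀ p ∈ Q1, p ∈ X := fun p hp => ⟨p, hp, 1, one_mem _, (mul_one p).symm⟩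
  have Q2X : ∀ q ∈ Q2, q ∈ X := fun q hq => ⟨1, one_mem _, q, hq, (one_mul q).symm⟩
  -- the generators lie in it
  have rhoW : ∀ {W}, IsPlane W → v ∈ W → ∀ {u}, u ∈ W → OrthPair v u → ∀ b, E.rho v u b ∈ lifted s W := by
    intro W P hvW u hu h b
    exact mul_mem (Subgroup.subset_closure ⟨u, hu, h.2.1.1, rfl⟩)
      (Subgroup.subset_closure ⟨u + b • v, W.add_mem hu (W.smul_mem b hvW), (h.shift hF b).2.1.1, rfl⟩)
  have combine : ∀ x y, OrthPair v x → OrthPair v y → OrthPair v (x + y) → hf y x = 0 →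
      (∀ b, E.rho v x b ∈ X) → (∀ b, E.rho v y b ∈ X) → ∀ b, E.rho v (x + y) b ∈ X := by
    intro x y hx hy hxy hyx gx gy b
    obtain ⟨W, P, hvW, hxW, hyW⟩ := linePair hF hx hy.2.1.2 ((hf_eq_zero_symm hF).1 hy.2.2.1) hyx
    have hd : ∀ {u}, OrthPair v u → ∀ z, act (φ (E.rho v u b)) z + z
        = hf z u • u + (hf z u + hf z v * b ^ 2) • (u + b • v) := by
      intro u h z
      have h' := h.shift hF b
      rw [ThreeTransSU.Ext.rho, map_mul, E.map_s u h.2.1, E.map_s _ h'.2.1, disp_two hF h.2.1.2 h'.2.1.2 ?_]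
      · rw [hf_add_right hF, hf_smul_right hF, mul_comm (b ^ 2)]
      · rw [hf_add_right hF, hf_smul_right hF, h.2.1.2, (hf_eq_zero_symm hF).1 h.2.2.1, mul_zero, add_zero]
    rcases eq_or_ne b 0 with rfl | hb
    · rw [E.rho_zero hxy]; exact one_mem X
    have mW := fun {u} (hu : u ∈ W) (h : OrthPair v u) => rhoW P hvW hu h b
    have e : E.rho v (x + y) b = E.rho v x b * E.rho v y b * s v := by
      refine eqL P _ (mW (W.add_mem hxW hyW) hxy) _ (mul_mem (mul_mem (mW hxW hx) (mW hyW hy))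
        (Subgroup.subset_closure ⟨v, hvW, hvI.1, rfl⟩)) (act_ext fun z => add_right_cancel (b := z) ?_)
      rw [hd hxy, map_mul, map_mul, E.map_s v hvI]
      have m := fun {u} (hu : u ∈ W) (h : OrthPair v u) => mapL P _ (mW hu h)
      rw [disp_mul hF P (mul_mem (m hxW hx) (m hyW hy)) (tv_mem_fixW hF P hvW), disp_mul hF P (m hxW hx) (m hyW hy),
        hd hx, hd hy, act_tv hF hvI.2, add_comm z, vadd_cancel hF, hf_add_right hF]
      have hb3 := U62Cover.pow_three hF hb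
      funext i
      simp only [Pi.add_apply, Pi.smul_apply, smul_eq_mul]
      linear_combination (-(hf z v * v i)) * hb3 + (hf z x * y i + hf z y * x i - hf z v * v i) * two
    rw [e]
    exact mul_mem (mul_mem (gx b) (gy b)) (Q1X _ svQ)
  have inW1 : ∀ u ∈ W1, OrthPair v u → ∀ b, E.rho v u b ∈ X := fun u hu h b => Q1X _
    ⟨Subgroup.subset_closure (Or.inl ⟨u, b, h, rfl⟩), rhoW P1 vW1 hu h b⟩
  have inW2 : ∀ u ∈ W2, OrthPair v u → ∀ b, E.rho v u b ∈ X := fun u hu h b => Q2X _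
    ⟨Subgroup.subset_closure (Or.inl ⟨u, b, h, rfl⟩), rhoW P2 vW2 hu h b⟩
  -- sums of a vector of each plane
  have sum : ∀ x ∈ W1, ∀ y ∈ W2, OrthPair v (x + y) → hf x y = 0 → ∀ b, E.rho v (x + y) b ∈ X := by
    intro x hx y hy h hxy
    by_cases hxv : ∃ c : F, x = c • v
    · obtain ⟨c, rfl⟩ := hxv
      exact inW2 _ (W2.add_mem (W2.smul_mem c vW2) hy) h
    by_cases hyv : ∃ c : F, y = c • v
    · obtain ⟨c, rfl⟩ := hyv
      exact inW1 _ (W1.add_mem hx (W1.smul_mem c vW1)) h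
    have op : ∀ {W}, IsPlane W → v ∈ W → ∀ {u}, u ∈ W → (¬ ∃ c : F, u = c • v) → OrthPair v u :=
      fun {W} P hvW {u} hu hn => ⟨hvI, P.iso_of_mem hu (fun e => hn ⟨0, by rw [e, zero_smul]⟩), P.iso v hvW u hu,
        fun c e => hn ⟨c, e⟩⟩
    exact combine x y (op P1 vW1 hx hxv) (op P2 vW2 hy hyv) h ((hf_eq_zero_symm hF).1 hxy)
      (inW1 x hx (op P1 vW1 hx hxv)) (inW2 y hy (op P2 vW2 hy hyv))
  have main : ∀ u, OrthPair v u → ∀ b, E.rho v u b ∈ X := by
    intro u h b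
    obtain ⟨y, hy⟩ : ∃ y, y = hf u p2 • f2 + hf u p3 • f3 := ⟨_, rfl⟩
    obtain ⟨x, hx⟩ : ∃ x, x = u + y := ⟨_, rfl⟩
    have hyW : y ∈ W2 := by rw [hy]; exact W2.add_mem (W2.smul_mem _ f2W) (W2.smul_mem _ f3W)
    have hxW : x ∈ W1 := by
      refine (mem_iff_perp hF hfr1).2 fun i => ?_
      rw [hx, hy, hf_add_left hF, hf_add_left hF, hf_smul_left hF, hf_smul_left hF]
      have e1 : hf f2 (p2 : Fin 6 → F) = 1 := hf_eq_one_symm hF d22
      have e2 : hf f3 (p2 : Fin 6 → F) = 0 := (hf_eq_zero_symm hF).1 d23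
      have e3 : hf f2 (p3 : Fin 6 → F) = 0 := (hf_eq_zero_symm hF).1 d32
      have e4 : hf f3 (p3 : Fin 6 → F) = 1 := hf_eq_one_symm hF d33
      fin_cases i
      · show hf u v + (hf u p2 * hf f2 v + hf u p3 * hf f3 v) = 0
        rw [(hf_eq_zero_symm hF).1 h.2.2.1, (hf_eq_zero_symm hF).1 gv2, (hf_eq_zero_symm hF).1 gv3]
        simp
      · show hf u p2 + (hf u p2 * hf f2 p2 + hf u p3 * hf f3 p2) = 0
        rw [e1, e2, mul_one, mul_zero, add_zero, add_self hF]
      · show hf u p3 + (hf u p2 * hf f2 p3 + hf u p3 * hf f3 p3) = 0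
        rw [e3, e4, mul_one, mul_zero, zero_add, add_self hF]
    have hu : u = x + y := by rw [hx, vadd_cancel hF]
    by_cases h0 : hf x y = 0
    · rw [hu] at h ⊢; exact sum x hxW y hyW h h0 b
    -- a decomposition into two orthogonal pieces
    have k := h.2.1.2
    rw [hu, hf_add_left hF, hf_add_right hF, hf_add_right hF, P1.iso x hxW x hxW, P2.iso y hyW y hyW,
      hf_symm hF x y] at k
    have h1 : hf x y = 1 := fixed_eq_one hF (by linear_combination k - hf x y * two) h0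
    obtain ⟨ξ, hξW, η, hηW, hξy, hxη, hξη⟩ : ∃ ξ ∈ W1, ∃ η ∈ W2, hf ξ y = 0 ∧ hf x η = 0 ∧ hf ξ η = 1 := by
      obtain ⟨c, hc⟩ := (Submodule.mem_span_range_iff_exists_fun F).1 hxW
      obtain ⟨e, he⟩ := (Submodule.mem_span_range_iff_exists_fun F).1 hyW
      have ex : x = c 0 • v + c 1 • p2 + c 2 • p3 := by rw [← hc, Fin.sum_univ_three]; rfl
      have ey : y = e 0 • v + e 1 • f2 + e 2 • f3 := by rw [← he, Fin.sum_univ_three]; rfl
      refine ⟨e 2 ^ 2 • p2 + e 1 ^ 2 • p3, W1.add_mem (W1.smul_mem _ p2W) (W1.smul_mem _ p3W),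
        c 2 ^ 2 • f2 + c 1 ^ 2 • f3, W2.add_mem (W2.smul_mem _ f2W) (W2.smul_mem _ f3W), ?_, ?_, ?_⟩
      · simp only [ey, hf_add_left hF, hf_add_right hF, hf_smul_left hF, hf_smul_right hF, d22, d23, d32, d33,
          hfr1.orth 1 0, hfr1.orth 2 0, (show hf (p2 : Fin 6 → F) v = 0 from h21),
          (show hf (p3 : Fin 6 → F) v = 0 from h31)]
        linear_combination (e 1 ^ 2 * e 2 ^ 2) * two
      · simp only [ex, hf_add_left hF, hf_add_right hF, hf_smul_left hF, hf_smul_right hF, d22, d23, d32, d33,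
          gv2, gv3]
        have q1 : (c 1 ^ 2) ^ 2 = c 1 := pow_q_pow_q (card_sq hF) _
        have q2 : (c 2 ^ 2) ^ 2 = c 2 := pow_q_pow_q (card_sq hF) _
        linear_combination (c 1) * q2 + (c 2) * q1 + (c 1 * c 2) * two
      · have h1' := h1
        simp only [ex, ey, hf_add_left hF, hf_add_right hF, hf_smul_left hF, hf_smul_right hF, d22, d23, d32, d33,
          gv2, gv3, hfr1.orth 0 0, (show hf (p2 : Fin 6 → F) v = 0 from h21),
          (show hf (p3 : Fin 6 → F) v = 0 from h31), (show hf v v = 0 from hvI.2)] at h1'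
        simp only [hf_add_left hF, hf_add_right hF, hf_smul_left hF, hf_smul_right hF, d22, d23, d32, d33]
        have q1 : (c 1 ^ 2) ^ 2 = c 1 := pow_q_pow_q (card_sq hF) _
        have q2 : (c 2 ^ 2) ^ 2 = c 2 := pow_q_pow_q (card_sq hF) _
        linear_combination h1' + (e 2 ^ 2) * q2 + (e 1 ^ 2) * q1
    have hω2 : (ω ^ 2) ^ 2 = ω := pow_q_pow_q (card_sq hF) _
    have hyx : hf y x = 1 := hf_eq_one_symm hF h1
    have vall : ∀ {z}, z ∈ W1 ∨ z ∈ W2 → hf v z = 0 := fun {z} hz =>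
      hz.elim (fun hz => P1.iso v vW1 z hz) (fun hz => P2.iso v vW2 z hz)
    obtain ⟨p, hp⟩ : ∃ p, p = (ω ^ 2 • x + ξ) + (ω ^ 2 • y + η) := ⟨_, rfl⟩
    obtain ⟨q, hq⟩ : ∃ q, q = (ω • x + ξ) + (ω • y + η) := ⟨_, rfl⟩
    have hpq : u = p + q := by
      rw [hu, hp, hq]
      funext i
      simp only [Pi.add_apply, Pi.smul_apply, smul_eq_mul]
      linear_combination (-(x i + y i)) * hω - (ξ i + η i + ω * (x i + y i) + (x i + y i) * 0) * two
    have mp1 : ω ^ 2 • x + ξ ∈ W1 := W1.add_mem (W1.smul_mem _ hxW) hξW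
    have mp2 : ω ^ 2 • y + η ∈ W2 := W2.add_mem (W2.smul_mem _ hyW) hηW
    have mq1 : ω • x + ξ ∈ W1 := W1.add_mem (W1.smul_mem _ hxW) hξW
    have mq2 : ω • y + η ∈ W2 := W2.add_mem (W2.smul_mem _ hyW) hηW
    have four : ∀ A A' C C' : Fin 6 → F, hf (A + A') (C + C') = hf A C + hf A C' + (hf A' C + hf A' C') :=
      fun A A' C C' => by rw [hf_add_left hF, hf_add_right hF A C C', hf_add_right hF A' C C']
    have cross : ∀ α β : F, hf (α • x + ξ) (β • y + η) = α * β ^ 2 + 1 := fun α β => by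
      rw [hf_add_left hF, hf_add_right hF, hf_add_right hF, hf_smul_left hF, hf_smul_left hF, hf_smul_right hF,
        hf_smul_right hF, h1, hxη, hξy, hξη]
      ring
    have cross' : ∀ α β : F, hf (β • y + η) (α • x + ξ) = (α * β ^ 2 + 1) ^ 2 := fun α β => by
      rw [hf_symm hF (α • x + ξ), cross]
    have op : ∀ α : F, α ≠ 0 → α * α ^ 2 + 1 = 0 → OrthPair v ((α • x + ξ) + (α • y + η)) := by
      intro α hα hc
      have m1 : α • x + ξ ∈ W1 := W1.add_mem (W1.smul_mem _ hxW) hξW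
      have m2 : α • y + η ∈ W2 := W2.add_mem (W2.smul_mem _ hyW) hηW
      have hy' : hf ((α • x + ξ) + (α • y + η)) y = α := by
        rw [hf_add_left hF, P2.iso _ m2 y hyW, add_zero, hf_add_left hF, hf_smul_left hF, h1, hξy, mul_one, add_zero]
      refine ⟨hvI, ⟨fun e => hα ?_, ?_⟩, ?_, fun c e => hα ?_⟩
      · rw [← hy', e, hf_zero_left hF]
      · rw [four, P1.iso _ m1 _ m1, P2.iso _ m2 _ m2, cross, cross', hc]
        ring
      · rw [hf_add_right hF, vall (Or.inl m1), vall (Or.inr m2), add_zero]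
      · rw [← hy', e, hf_smul_left hF, vall (Or.inr hyW), mul_zero]
    have hc2 : ω ^ 2 * (ω ^ 2) ^ 2 + 1 = 0 := by rw [hω2]; linear_combination hω3 + two
    have hc1 : ω * ω ^ 2 + 1 = 0 := by linear_combination hω3 + two
    have hp1 : OrthPair v p := hp ▸ op _ (pow_ne_zero 2 hω0) hc2
    have hq1 : OrthPair v q := hq ▸ op _ hω0 hc1
    have gp : ∀ b, E.rho v p b ∈ X := hp ▸ sum _ mp1 _ mp2 (hp ▸ hp1) (by rw [cross]; exact hc2)
    have gq : ∀ b, E.rho v q b ∈ X := hq ▸ sum _ mq1 _ mq2 (hq ▸ hq1) (by rw [cross]; exact hc1)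
    have hqp : hf q p = 0 := by
      have cross2 : ∀ α β : F, hf (α • x + ξ) (β • y + η) = α * β ^ 2 + 1 := cross
      rw [hp, hq, four, P1.iso _ mq1 _ mp1, P2.iso _ mq2 _ mp2, cross, cross', hω2]
      linear_combination (ω ^ 2 * (ω ^ 3 + 1)) * hω3 + (ω ^ 2 + ω ^ 4 + 1) * two
    rw [hpq] at h ⊢
    exact combine p q hp1 hq1 h hqp gp gq b
  have hle : R ≤ X := (Subgroup.closure_le _).2 (by
    rintro r (⟨u, b, h, rfl⟩ | hr)
    · exact main u h b
    · rw [Set.mem_singleton_iff] at hr; rw [hr]; exact Q1X _ svQ)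
  -- the kernel meets it trivially
  rintro k ⟨hkR, hkk⟩
  obtain ⟨p, hp, q, hq, rfl⟩ := hle hkR
  replace hkk : φ p * φ q = 1 := (map_mul φ p q).symm.trans hkk
  have hg1 := mapL P1 p hp.2
  have hg2 : φ p ∈ fixW W2 := by
    rw [eq_inv_of_mul_eq_one_left hkk]; exact inv_mem (mapL P2 q hq.2)
  have hline : ∀ z, act (φ p) z + z = hf (act (φ p) z + z) (![ω, ω ^ 2, 0, 0, 0, 0] : Fin 6 → F) • v := by
    intro z
    obtain ⟨c, hc⟩ := (Submodule.mem_span_range_iff_exists_fun F).1 (disp_mem hF P1 hg1 z)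
    have ez : act (φ p) z + z = c 0 • v + c 1 • p2 + c 2 • p3 := by rw [← hc, Fin.sum_univ_three]; rfl
    have a1 := P2.iso _ (disp_mem hF P2 hg2 z) f2 f2W
    have a2 := P2.iso _ (disp_mem hF P2 hg2 z) f3 f3W
    rw [ez] at a1 a2
    simp only [hf_add_left hF, hf_smul_left hF, gv2, gv3, d22, d23, d32, d33, mul_one, mul_zero, add_zero,
      zero_add] at a1 a2
    rw [ez, a1, a2, zero_smul, zero_smul, add_zero, add_zero, hf_smul_left hF]
    have hvf : hf v (![ω, ω ^ 2, 0, 0, 0, 0] : Fin 6 → F) = 1 := by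
      simp [hv, Cfsg.hermForm, p1, Fin.sum_univ_six]
      grind
    rw [hvf, mul_one]
  set f1 : Fin 6 → F := ![ω, ω ^ 2, 0, 0, 0, 0] with hf1
  have hvf : hf v f1 = 1 := by
    simp [hv, hf1, Cfsg.hermForm, p1, Fin.sum_univ_six]
    grind
  have hform : ∀ z, hf (act (φ p) z + z) f1 = form (φ p) f1 f1 * hf z v := by
    intro z
    have e1 : form (φ p) f1 z = form (φ p) f1 f1 * hf v z := by
      unfold form
      conv_lhs => rw [hline f1, hf_smul_left hF]
    show form (φ p) z f1 = _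
    rw [form_symm hF P1 hg1 f1 z, e1, mul_pow, ← hf_symm hF v z, (form_symm hF P1 hg1 f1 f1).symm]
  have hp0 : p = 1 ∨ p = s v := by
    rcases eq_or_ne (form (φ p) f1 f1) 0 with e0 | e0
    · left
      refine eqL P1 p hp.2 1 (one_mem _) ?_
      rw [map_one]
      refine act_ext fun z => add_right_cancel (b := z) ?_
      rw [hline z, hform, e0, zero_mul, zero_smul, act_one, vadd_self hF]
    · right
      refine eqL P1 p hp.2 (s v) (Subgroup.subset_closure ⟨v, vW1, hvI.1, rfl⟩) ?_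
      rw [E.map_s v hvI]
      refine act_ext fun z => add_right_cancel (b := z) ?_
      rw [hline z, hform, fixed_eq_one hF (form_symm hF P1 hg1 f1 f1).symm e0, one_mul, act_tv hF hvI.2,
        add_comm z, vadd_cancel hF]
  have hq2 : q = p := by
    have hmem : p ∈ lifted s W2 := by
      rcases hp0 with rfl | rfl
      exacts [one_mem _, Subgroup.subset_closure ⟨v, vW2, hvI.1, rfl⟩]
    refine eqL P2 q hq.2 p hmem ?_
    rw [eq_inv_of_mul_eq_one_right hkk, inv_eq_of_mul_eq_one_left (fixW_sq hF P1 hg1)]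
  rw [hq2]
  exact sqL P1 p hp.2

/-- A choice of lifts respecting the relations within a plane makes the cover imperfect. -/
theorem not_mem_commutator [Finite H] (hF : Fintype.card F = 4) (X : M22Cover.Ext ψ δ)
    {w : Cfsg.PSU 6 F 2 → H} (hmap : ∀ a ∈ members hF, ψ (w a) = a)
    (hequiv : ∀ h : H, ∀ a ∈ members hF, h * w a * h⁻¹ = w (ψ h * a * (ψ h)⁻¹))
    {W₀ : Submodule F (Fin 6 → F)} (P₀ : IsPlane W₀)
    (hrel₀ : ∀ x ∈ Subgroup.closure (w '' planeSet hF W₀), ψ x = 1 → x = 1) :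
    commutator H ≠ ⊤ := by
  intro hperf
  have hmem : ∀ {W : Submodule F (Fin 6 → F)}, IsPlane W → ∀ b ∈ planeSet hF W, b ∈ members hF := by
    rintro W P _ ⟨v, hv, hv0, rfl⟩
    exact tau_mem hF (P.iso_of_mem hv hv0)
  have hrel : ∀ W : Submodule F (Fin 6 → F), IsPlane W → ∀ x ∈ Subgroup.closure (w '' planeSet hF W),
      ψ x = 1 → x = 1 := by
    intro W P x hx hx1
    obtain ⟨g, hg⟩ := planeSet_conj_exists hF P P₀
    obtain ⟨h, rfl⟩ := X.surj g
    have hc : h * x * h⁻¹ ∈ Subgroup.closure (w '' planeSet hF W₀) :=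
      (show Subgroup.closure (w '' planeSet hF W) ≤
          (Subgroup.closure (w '' planeSet hF W₀)).comap (MulAut.conj h).toMonoidHom from
        (Subgroup.closure_le _).2 (by
          rintro _ ⟨b, hb, rfl⟩
          refine Subgroup.mem_comap.2 ?_
          simp only [MulEquiv.coe_toMonoidHom, MulAut.conj_apply]
          rw [hequiv h b (hmem P b hb)]
          exact Subgroup.subset_closure ⟨_, hg b hb, rfl⟩)) hx
    exact conj_eq_one_iff.1 (hrel₀ _ hc (by rw [map_mul, map_mul, map_inv, hx1, mul_one, mul_inv_cancel]))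
  -- the extension of SU(6,2)
  let gens : Set (H × Cfsg.SU 6 F 2) := {b | ∃ v, Iso v ∧ b = (w (tau hF v), tv hF v)}
  let L : Subgroup (H × Cfsg.SU 6 F 2) := Subgroup.closure gens
  have hL : ∀ b ∈ L, ψ b.1 = toPSU 6 F b.2 := by
    intro b hb
    refine (show L ≤ (ψ.comp (MonoidHom.fst H _)).eqLocus ((toPSU 6 F).comp (MonoidHom.snd H _)) from
      (Subgroup.closure_le _).2 ?_) hb
    rintro _ ⟨v, hv, rfl⟩
    exact hmap _ (tau_mem hF hv)
  let φ : ↥L →* Cfsg.SU 6 F 2 := (MonoidHom.snd H _).comp L.subtype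
  classical
  let s : (Fin 6 → F) → ↥L := fun v =>
    if hv : Iso v then ⟨(w (tau hF v), tv hF v), Subgroup.subset_closure ⟨v, hv, rfl⟩⟩ else 1
  have sval : ∀ v, Iso v → ((s v : ↥L) : H × Cfsg.SU 6 F 2) = (w (tau hF v), tv hF v) := fun v hv => by
    simp only [s, dif_pos hv]
  have inPlane : ∀ v, Iso v → ∃ W : Submodule F (Fin 6 → F), IsPlane W ∧ v ∈ W := fun v hv => by
    obtain ⟨u, hu, -⟩ := P₀.exists_frame
    obtain ⟨g, hg⟩ := exists_act hF (by norm_num) (hu.iso 0) hv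
    exact ⟨_, isPlane_span hF (hu.act g), Submodule.subset_span ⟨0, hg⟩⟩
  have relL : ∀ W : Submodule F (Fin 6 → F), IsPlane W → ∀ x ∈ lifted s W, φ x = 1 → x = 1 := by
    intro W P x hx hx1
    have hfst : (x : H × Cfsg.SU 6 F 2).1 ∈ Subgroup.closure (w '' planeSet hF W) :=
      (show lifted s W ≤ (Subgroup.closure (w '' planeSet hF W)).comap ((MonoidHom.fst H _).comp L.subtype) from
        (Subgroup.closure_le _).2 (by
          rintro _ ⟨v, hv, hv0, rfl⟩
          refine Subgroup.mem_comap.2 ?_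
          simp only [MonoidHom.coe_comp, Function.comp_apply, Subgroup.coe_subtype, MonoidHom.coe_fst]
          rw [sval v (P.iso_of_mem hv hv0)]
          exact Subgroup.subset_closure ⟨_, ⟨v, hv, hv0, rfl⟩, rfl⟩)) hx
    have hsnd : (x : H × Cfsg.SU 6 F 2).2 = 1 := hx1
    refine Subtype.ext (Prod.ext (hrel W P _ hfst ?_) hsnd)
    rw [hL _ x.2, hsnd, map_one]
  have hgen : Subgroup.closure {b : ↥L | ∃ v, Iso v ∧ b = s v} = ⊤ := by
    rw [eq_top_iff, ← Subgroup.closure_closure_coe_preimage (k := gens)]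
    refine (Subgroup.closure_le _).2 ?_
    rintro ⟨b, hb⟩ ⟨v, hv, e⟩
    exact Subgroup.subset_closure ⟨v, hv, Subtype.ext (e.trans (sval v hv).symm)⟩
  have hsurj : Function.Surjective φ := by
    intro g
    have : (⊤ : Subgroup (Cfsg.SU 6 F 2)) ≤ φ.range := by
      rw [← closure_tv hF (by norm_num : 4 ≤ 6), Subgroup.closure_le]
      rintro _ ⟨v, hv, rfl⟩
      exact ⟨s v, congrArg Prod.snd (sval v hv)⟩
    exact this (Subgroup.mem_top g)
  have hkerL : ∀ x : ↥L, φ x = 1 → x * x = 1 := by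
    intro x hx
    have hx' : (x : H × Cfsg.SU 6 F 2).2 = 1 := hx
    have h1 : ψ (x : H × Cfsg.SU 6 F 2).1 = 1 := by rw [hL _ x.2, hx', map_one]
    refine Subtype.ext (Prod.ext ?_ ?_)
    · show (x : H × Cfsg.SU 6 F 2).1 * (x : H × Cfsg.SU 6 F 2).1 = 1
      exact ext_sq X _ h1
    · show (x : H × Cfsg.SU 6 F 2).2 * (x : H × Cfsg.SU 6 F 2).2 = 1
      rw [hx', mul_one]
  have hmapS : ∀ v, Iso v → φ (s v) = tv hF v := fun v hv => congrArg Prod.snd (sval v hv)
  have E : ThreeTransSU.Ext φ s := by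
    refine ⟨hF, by norm_num, hsurj, fun x => ⟨1, by rw [pow_one, pow_two]; exact Subtype.ext (hkerL x x.2)⟩,
      hmapS, fun v hv => ?_, fun v c hv hc => ?_, fun b v hv => ?_, hgen, ⟨p1, p2, U62Mult.orthPair_std hF, fun ω hω => ?_⟩⟩
    · obtain ⟨W, P, hvW⟩ := inPlane v hv
      have hm : s v ∈ lifted s W := Subgroup.subset_closure ⟨v, hvW, hv.1, rfl⟩
      exact relL W P _ (mul_mem hm hm) (by rw [map_mul, hmapS v hv, tv_sq hF hv.2])
    · refine Subtype.ext ?_
      rw [sval v hv, sval _ (hv.smul hF hc), tau_smul hF hv hc, tv_smul hF hv hc]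
    · have hg := hL _ b.2
      refine Subtype.ext ?_
      show (b : H × Cfsg.SU 6 F 2) * ((s v : ↥L) : H × Cfsg.SU 6 F 2) * (b : H × Cfsg.SU 6 F 2)⁻¹ = _
      rw [sval v hv, sval _ (hv.act _)]
      refine Prod.ext ?_ ?_
      · show (b : H × Cfsg.SU 6 F 2).1 * w (tau hF v) * ((b : H × Cfsg.SU 6 F 2).1)⁻¹ = w (tau hF (act (φ b) v))
        rw [hequiv _ _ (tau_mem hF hv), hg, tau_conj hF _ hv]
        rfl
      · exact tv_conj_inv hF _ hv.2
    · obtain ⟨h11, h22, h33, -, h12, h21, h13, h31, h23, h32, -, -⟩ := herm_std (F := F) hF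
      obtain ⟨W, P, m1, m2, -⟩ := linePair hF (U62Mult.orthPair_std (F := F) hF) (y := (p2 : Fin 6 → F)) h22 h21 h22
      have h0 := U62Mult.orthPair_std (F := F) hF
      have hI : ∀ d : F, Iso ((p1 : Fin 6 → F) + d • p2) := fun d => ((h0.symm hF).shift hF d).2.1
      have hI1 : Iso ((p1 : Fin 6 → F) + p2) := by simpa using hI 1
      have m : ∀ {z}, z ∈ W → Iso z → s z ∈ lifted s W := fun {z} hz hzI =>
        Subgroup.subset_closure ⟨z, hz, hzI.1, rfl⟩
      refine relL W P _ ?_ ?_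
      · exact mul_mem (mul_mem (mul_mem (mul_mem (m m1 h0.1) (m m2 h0.2.1)) (m (W.add_mem m1 m2) hI1))
          (m (W.add_mem m1 (W.smul_mem _ m2)) (hI ω))) (m (W.add_mem m1 (W.smul_mem _ m2)) (hI (ω ^ 2)))
      · have e := U62Mult.lineProd_tv (F := F) hF hω
        simp only [lineProd] at e ⊢
        rw [map_mul, map_mul, map_mul, map_mul, hmapS _ h0.1, hmapS _ h0.2.1, hmapS _ hI1, hmapS _ (hI ω),
          hmapS _ (hI (ω ^ 2)), e]
  have htriv := kPart_trivial hF E relL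
  -- the first projection is onto
  let π : ↥L →* H := (MonoidHom.fst H _).comp L.subtype
  have hπ : Function.Surjective π := by
    have hall : ∀ h : H, ∃ x : ↥L, ψ (π x) = ψ h := fun h => by
      obtain ⟨g, hg⟩ := QuotientGroup.mk'_surjective _ (ψ h)
      obtain ⟨x, hx⟩ := hsurj g
      exact ⟨x, (hL _ x.2).trans ((congrArg (toPSU 6 F) hx).trans hg)⟩
    have htop : commutator H ≤ π.range := by
      rw [commutator_def, Subgroup.commutator_le]
      intro a _ b _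
      obtain ⟨x, hx⟩ := hall a
      obtain ⟨y, hy⟩ := hall b
      rw [commutatorElement_def, comm_congr_psu (ext_central X) hx.symm hy.symm]
      exact mul_mem (mul_mem (mul_mem ⟨x, rfl⟩ ⟨y, rfl⟩) (inv_mem ⟨x, rfl⟩)) (inv_mem ⟨y, rfl⟩)
    exact fun h => htop (hperf ▸ Subgroup.mem_top h)
  have hδ : δ ∈ (commutator ↥L).map π := by
    rw [commutator_def, Subgroup.map_commutator, ← MonoidHom.range_eq_map, MonoidHom.range_eq_top.2 hπ,
      ← commutator_def, hperf]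
    exact Subgroup.mem_top δ
  obtain ⟨k, hk, hkδ⟩ := hδ
  have hδ1 : ψ δ = 1 := (X.ker δ).2 (Or.inr rfl)
  have hk3 : φ (k ^ 3) = 1 := by
    rw [map_pow]
    refine center_cube hF (by norm_num) (toPSU_eq_one.1 ?_)
    show toPSU 6 F (k : H × Cfsg.SU 6 F 2).2 = 1
    rw [← hL _ k.2, show (k : H × Cfsg.SU 6 F 2).1 = δ from hkδ, hδ1]
  have hk3δ : π (k ^ 3) = δ := by rw [map_pow, hkδ, pow_succ, pow_two, X.sq, one_mul]
  have hkne : k ^ 3 ≠ 1 := fun e => X.ne (by rw [← hk3δ, e, map_one])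
  have : Fact (Nat.Prime 2) := ⟨Nat.prime_two⟩
  set N := φ.ker ⊓ commutator ↥L with hN
  have hNc : N ≤ Subgroup.center ↥L := fun x hx => E.central (MonoidHom.mem_ker.1 hx.1)
  have hkN : k ^ 3 ∈ N := ⟨MonoidHom.mem_ker.2 hk3, pow_mem hk 3⟩
  obtain ⟨Pₛ⟩ := (inferInstance : Nonempty (Sylow 2 ↥L))
  obtain ⟨U, -, hUN, hPU⟩ := U62Mult.split E (U62Mult.orthPair_std (F := F) hF).1 3 0 rfl Fin.elim0
    ⟨fun i => i.elim0, fun i => i.elim0⟩ (Pₛ : Subgroup ↥L) Pₛ.isPGroup' (fun g _ i => i.elim0)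
  have hker : φ.ker ≤ (Pₛ : Subgroup ↥L) := by
    rw [← Pₛ.3 (IsPGroup.to_sup_of_normal_right Pₛ.isPGroup' E.ker) le_sup_left]
    exact le_sup_right
  have hkc : φ.ker ≤ Subgroup.center ↥L := fun x hx => E.central (MonoidHom.mem_ker.1 hx)
  have hmemc := mem_commutator_sylow Pₛ (hker hkN.1) (hkc hkN.1) hkN.2
  have hsub : (commutator (Pₛ : Subgroup ↥L)).map (Pₛ : Subgroup ↥L).subtype ≤ U := by
    rw [commutator_def, Subgroup.map_commutator, ← MonoidHom.range_eq_map, Subgroup.range_subtype,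
      Subgroup.commutator_le]
    intro a ha b hb
    have : (φ.ker).Normal := inferInstance
    obtain ⟨a1, ha1, a2, ha2, rfl⟩ := Subgroup.mem_sup_of_normal_left.1 (hPU ha)
    obtain ⟨b1, hb1, b2, hb2, rfl⟩ := Subgroup.mem_sup_of_normal_left.1 (hPU hb)
    rw [U62Mult.comm_congr hkc (a' := a2) (b' := b2) (by rw [map_mul, MonoidHom.mem_ker.1 ha1, one_mul])
      (by rw [map_mul, MonoidHom.mem_ker.1 hb1, one_mul]), commutatorElement_def]
    exact mul_mem (mul_mem (mul_mem ha2 hb2) (inv_mem ha2)) (inv_mem hb2)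
  exact hkne (htriv _ (hUN ⟨hsub ⟨_, hmemc, rfl⟩, hkN.1⟩))

end Cfsg.Agent.U62Base
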