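/-
An involution `d` whose centraliser is a double cover of PSU(6,2): the preimage of the span of a plane.

* `A0`, `bigA`, `Ctx.elementary` : elementary abelian of order 2 ^ 10;
* `Ctx.eq_A0`, `Ctx.transitive` : its uniqueness, and transitivity of its normaliser on the conjugates of `d` in it;
* `Ctx.cnum_member`, `Ctx.cnum_pair`, `Ctx.cnum_triple` : common centralisers with `d`;
* `Omega`, `fib`, `Ctx.count`, `Ctx.nbr_d` : the conjugates of `d` in it.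
-/
import Cfsg.Agent.Lib.U62Base.Counts
import Cfsg.Agent.Lib.U62Base.Cover
import Cfsg.Agent.Lib.M22Cover.Split

set_option autoImplicit false

namespace Cfsg.Agent.U62Base

open Cfsg.Agent.Unitary Cfsg.Agent.U62Cover Cfsg.Agent.ThreeTransSU
open Cfsg.Agent.M22Cover (cnum cnum_lift cnum_le cnum_eq ncard_fibres)

variable {F : Type*} [Field F] [Fintype F] {Γ : Type*} [Group Γ] [Finite Γ] {d : Γ}
  {W : Submodule F (Fin 6 → F)}
  {ψ : ↥(Subgroup.centralizer ({d} : Set Γ)) →* Cfsg.PSU 6 F 2}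
  {δ : ↥(Subgroup.centralizer ({d} : Set Γ))}

/-- An involution with centraliser a double cover of PSU(6,2), and a plane. -/
structure Ctx (hF : Fintype.card F = 4) (ψ : ↥(Subgroup.centralizer ({d} : Set Γ)) →* Cfsg.PSU 6 F 2)
    (δ : ↥(Subgroup.centralizer ({d} : Set Γ))) (W : Submodule F (Fin 6 → F)) : Prop where
  X : M22Cover.Ext ψ δ
  hδ : (δ : Γ) = d
  plane : IsPlane W
  key : ∀ y : ↥(Subgroup.centralizer ({d} : Set Γ)), ψ y * ψ y = 1 → ψ y ≠ 1 → y * y = 1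

/-- The preimage of the span of the plane. -/
def A0 (ψ : ↥(Subgroup.centralizer ({d} : Set Γ)) →* Cfsg.PSU 6 F 2) (W : Submodule F (Fin 6 → F)) :
    Subgroup ↥(Subgroup.centralizer ({d} : Set Γ)) :=
  (spanW W).comap ψ

/-- The same in the whole group. -/
def bigA (ψ : ↥(Subgroup.centralizer ({d} : Set Γ)) →* Cfsg.PSU 6 F 2) (W : Submodule F (Fin 6 → F)) : Subgroup Γ :=
  (A0 ψ W).map (Subgroup.centralizer ({d} : Set Γ)).subtype

/-- The conjugates of `d` in it. -/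
def Omega (ψ : ↥(Subgroup.centralizer ({d} : Set Γ)) →* Cfsg.PSU 6 F 2) (W : Submodule F (Fin 6 → F)) : Set Γ :=
  {x | x ∈ bigA ψ W ∧ IsConj d x}

/-- The conjugates of `d` over an element. -/
def fib (ψ : ↥(Subgroup.centralizer ({d} : Set Γ)) →* Cfsg.PSU 6 F 2) (g : Cfsg.PSU 6 F 2) :
    Set ↥(Subgroup.centralizer ({d} : Set Γ)) := {y | ψ y = g ∧ IsConj d (y : Γ)}

omit [Finite Γ] in
theorem mem_Omega {y : ↥(Subgroup.centralizer ({d} : Set Γ))} :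
    (y : Γ) ∈ Omega ψ W ↔ ψ y ∈ spanW W ∧ IsConj d (y : Γ) :=
  and_congr_left' ⟨fun ⟨_, hz, e⟩ => Subtype.val_injective e ▸ hz, fun h => ⟨y, h, rfl⟩⟩

omit [Finite Γ] in
theorem Omega.lift {x : Γ} (hx : x ∈ Omega ψ W) :
    ∃ y : ↥(Subgroup.centralizer ({d} : Set Γ)), (y : Γ) = x := by
  obtain ⟨⟨y, -, e⟩, -⟩ := hx
  exact ⟨y, e⟩

namespace Ctx

variable {hF : Fintype.card F = 4}

theorem sq_A0 (K : Ctx hF ψ δ W) {y : ↥(Subgroup.centralizer ({d} : Set Γ))} (hy : y ∈ A0 ψ W) : y * y = 1 := by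
  by_cases h : ψ y = 1
  · rcases (K.X.ker y).1 h with rfl | rfl
    exacts [mul_one 1, K.X.sq]
  · exact K.key y (spanW_sq hF K.plane hy) h

theorem comm_A0 (K : Ctx hF ψ δ W) {x y : ↥(Subgroup.centralizer ({d} : Set Γ))} (hx : x ∈ A0 ψ W)
    (hy : y ∈ A0 ψ W) : Commute x y := by
  have h := K.sq_A0 (mul_mem hx hy)
  have hx' : x⁻¹ = x := inv_eq_of_mul_eq_one_left (K.sq_A0 hx)
  have hy' : y⁻¹ = y := inv_eq_of_mul_eq_one_left (K.sq_A0 hy)
  calc x * y = (x * y)⁻¹ := (inv_eq_of_mul_eq_one_left h).symm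
    _ = y * x := by rw [mul_inv_rev, hx', hy']

theorem card_A0 (K : Ctx hF ψ δ W) : Nat.card ↥(A0 ψ W) = 2 ^ 10 := by
  rw [A0, K.X.card_comap, spanW_card hF K.plane]
  norm_num

theorem card_bigA (K : Ctx hF ψ δ W) : Nat.card ↥(bigA ψ W) = 2 ^ 10 := by
  rw [bigA, Subgroup.card_map_of_injective Subtype.val_injective, K.card_A0]

theorem delta_one (K : Ctx hF ψ δ W) : ψ δ = 1 := (K.X.ker δ).2 (Or.inr rfl)

theorem d_mem (K : Ctx hF ψ δ W) : d ∈ bigA ψ W :=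
  ⟨δ, by show ψ δ ∈ spanW W; rw [K.delta_one]; exact one_mem _, K.hδ⟩

theorem sq_bigA (K : Ctx hF ψ δ W) {x : Γ} (hx : x ∈ bigA ψ W) : x * x = 1 := by
  obtain ⟨y, hy, rfl⟩ := hx
  exact congrArg Subtype.val (K.sq_A0 hy)

theorem comm_bigA (K : Ctx hF ψ δ W) {x y : Γ} (hx : x ∈ bigA ψ W) (hy : y ∈ bigA ψ W) : Commute x y := by
  obtain ⟨x, hx', rfl⟩ := hx
  obtain ⟨y, hy', rfl⟩ := hy
  exact congrArg Subtype.val (K.comm_A0 hx' hy').eq

theorem elementary (K : Ctx hF ψ δ W) : Cfsg.IsElementaryAbelian 2 (bigA ψ W) :=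
  ⟨⟨⟨fun x y => Subtype.ext (K.comm_bigA x.2 y.2)⟩⟩, fun x hx => by rw [pow_two]; exact K.sq_bigA hx⟩

/-- Elementary abelian subgroups of order 2 ^ 10 inside a group normalising the plane. -/
theorem eq_A0 (K : Ctx hF ψ δ W) {E : Subgroup ↥(Subgroup.centralizer ({d} : Set Γ))}
    (hsq : ∀ x ∈ E, x * x = 1) (hc : ∀ x ∈ E, ∀ y ∈ E, Commute x y)
    (hnorm : ∀ t ∈ E, ∀ b ∈ planeSet hF W, ψ t * b * (ψ t)⁻¹ ∈ planeSet hF W) (hbig : 2 ^ 10 ≤ Nat.card E) :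
    E = A0 ψ W := by
  refine Subgroup.eq_of_le_of_card_ge ?_ (by rw [K.card_A0]; exact hbig)
  have hle : E ≤ (E.map ψ).comap ψ := Subgroup.le_comap_map ψ E
  have hcard := Nat.le_of_dvd Nat.card_pos (Subgroup.card_dvd_of_le hle)
  rw [K.X.card_comap] at hcard
  have e := abelian_eq hF K.plane (A := E.map ψ) ?_ ?_ ?_ (by omega)
  · intro x hx
    show ψ x ∈ spanW W
    rw [← e]
    exact ⟨x, hx, rfl⟩
  · rintro _ ⟨x, hx, rfl⟩; rw [← map_mul, hsq x hx, map_one]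
  · rintro _ ⟨x, hx, rfl⟩ _ ⟨y, hy, rfl⟩; exact (hc x hx y hy).map ψ
  · rintro _ ⟨x, hx, rfl⟩ b hb; exact hnorm x hx b hb

/-- Elementary abelian subgroups of order 2 ^ 10 of the centraliser are conjugate. -/
theorem conj_A0 (K : Ctx hF ψ δ W) {E : Subgroup ↥(Subgroup.centralizer ({d} : Set Γ))}
    (hsq : ∀ x ∈ E, x * x = 1) (hc : ∀ x ∈ E, ∀ y ∈ E, Commute x y) (hbig : 2 ^ 10 ≤ Nat.card E) :
    ∃ h : ↥(Subgroup.centralizer ({d} : Set Γ)), ∀ x, x ∈ E ↔ h * x * h⁻¹ ∈ A0 ψ W := by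
  have : Fact (Nat.Prime 2) := ⟨Nat.prime_two⟩
  obtain ⟨T, hT⟩ := (show IsPGroup 2 ↥E from fun x =>
    ⟨1, by rw [pow_one, pow_two]; exact Subtype.ext (hsq x x.2)⟩).exists_le_sylow
  obtain ⟨W', P', hW'⟩ := sylow_plane hF (T.mapSurjective K.X.surj)
  obtain ⟨g, hg⟩ := planeSet_conj_exists hF P' K.plane
  obtain ⟨h, rfl⟩ := K.X.surj g
  refine ⟨h, ?_⟩
  have hEsq : ∀ z ∈ E.map (MulAut.conj h).toMonoidHom, z * z = 1 := by
    rintro _ ⟨x, hx, rfl⟩; rw [← map_mul, hsq x hx, map_one]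
  have hEc : ∀ z ∈ E.map (MulAut.conj h).toMonoidHom, ∀ z' ∈ E.map (MulAut.conj h).toMonoidHom, Commute z z' := by
    rintro _ ⟨x, hx, rfl⟩ _ ⟨y, hy, rfl⟩; exact (hc x hx y hy).map _
  have hEn : ∀ t ∈ E.map (MulAut.conj h).toMonoidHom, ∀ b ∈ planeSet hF W,
      ψ t * b * (ψ t)⁻¹ ∈ planeSet hF W := by
    rintro _ ⟨x, hx, rfl⟩ b hb
    have hxT : ψ x ∈ (T.mapSurjective K.X.surj : Subgroup (Cfsg.PSU 6 F 2)) := ⟨x, hT hx, rfl⟩
    have heq : (MulAut.conj (ψ h)) '' planeSet hF W' = planeSet hF W := by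
      refine Set.eq_of_subset_of_ncard_le (by rintro _ ⟨z, hz, rfl⟩; exact hg z hz) ?_ (Set.toFinite _)
      rw [Set.ncard_image_of_injective _ (MulAut.conj (ψ h)).injective, planeSet_card hF K.plane,
        planeSet_card hF P']
    rw [← heq] at hb
    obtain ⟨b', hb', rfl⟩ := hb
    have hb2 : b' ∈ members hF ∧ b' ∈ (T.mapSurjective K.X.surj : Subgroup (Cfsg.PSU 6 F 2)) := by
      rw [← hW'] at hb'; exact hb'
    have hxb : ψ x * b' * (ψ x)⁻¹ ∈ planeSet hF W' := by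
      rw [← hW']
      exact ⟨members_conj hF _ hb2.1, mul_mem (mul_mem hxT hb2.2) (inv_mem hxT)⟩
    have := hg _ hxb
    simp only [MulEquiv.coe_toMonoidHom, MulAut.conj_apply, map_mul, map_inv]
    convert this using 1
    group
  have hEcard : 2 ^ 10 ≤ Nat.card ↥(E.map (MulAut.conj h).toMonoidHom) := by
    rwa [Subgroup.card_map_of_injective (MulAut.conj h).injective]
  rw [← K.eq_A0 hEsq hEc hEn hEcard]
  exact fun x => ⟨fun hx => ⟨x, hx, rfl⟩, fun ⟨y, hy, e⟩ => (MulAut.conj h).injective e ▸ hy⟩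

/-- The normaliser is transitive on the conjugates of `d`. -/
theorem transitive (K : Ctx hF ψ δ W) {x : Γ} (hx : x ∈ bigA ψ W) (hconj : IsConj d x) :
    ∃ n ∈ Subgroup.normalizer (bigA ψ W : Set Γ), n * d * n⁻¹ = x := by
  obtain ⟨g, rfl⟩ := isConj_iff.1 hconj
  let E : Subgroup ↥(Subgroup.centralizer ({d} : Set Γ)) :=
    ((bigA ψ W).map (MulAut.conj g⁻¹).toMonoidHom).subgroupOf (Subgroup.centralizer ({d} : Set Γ))
  have hle : (bigA ψ W).map (MulAut.conj g⁻¹).toMonoidHom ≤ Subgroup.centralizer ({d} : Set Γ) := by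
    rintro _ ⟨y, hy, rfl⟩
    refine Subgroup.mem_centralizer_singleton_iff.2 ?_
    have h := ((K.comm_bigA hy hx).map (MulAut.conj g⁻¹).toMonoidHom).eq
    simp only [MulEquiv.coe_toMonoidHom, MulAut.conj_apply, inv_inv] at h ⊢
    rwa [show g⁻¹ * (g * d * g⁻¹) * g = d by group] at h
  have hsqE : ∀ y ∈ E, y * y = 1 := by
    rintro y ⟨z, hz, e⟩
    refine Subtype.ext ?_
    show (y : Γ) * y = 1
    rw [← show (MulAut.conj g⁻¹).toMonoidHom z = y from e, ← map_mul, K.sq_bigA hz, map_one]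
  have hcE : ∀ y ∈ E, ∀ y' ∈ E, Commute y y' := by
    rintro y ⟨z, hz, e⟩ y' ⟨z', hz', e'⟩
    refine Subtype.ext ?_
    show (y : Γ) * y' = y' * y
    rw [← show (MulAut.conj g⁻¹).toMonoidHom z = y from e, ← show (MulAut.conj g⁻¹).toMonoidHom z' = y' from e',
      ((K.comm_bigA hz hz').map _).eq]
  have hcard : 2 ^ 10 ≤ Nat.card E := by
    rw [Nat.card_congr (Subgroup.subgroupOfEquivOfLe hle).toEquiv,
      Subgroup.card_map_of_injective (MulAut.conj g⁻¹).injective, K.card_bigA]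
  obtain ⟨h, hh⟩ := K.conj_A0 hsqE hcE hcard
  refine ⟨g * (h : Γ)⁻¹, ?_, ?_⟩
  swap
  · have hd : (h : Γ)⁻¹ * d * h = d := by
      rw [mul_assoc, ← Subgroup.mem_centralizer_singleton_iff.1 h.2, inv_mul_cancel_left]
    calc g * (h : Γ)⁻¹ * d * (g * (h : Γ)⁻¹)⁻¹ = g * ((h : Γ)⁻¹ * d * h) * g⁻¹ := by group
      _ = g * d * g⁻¹ := by rw [hd]
  have hmem : (h : Γ) * g⁻¹ ∈ Subgroup.normalizer (bigA ψ W : Set Γ) := by
    refine Subgroup.mem_normalizer_iff.2 fun y => ⟨fun hy => ?_, fun hy => ?_⟩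
    · have hyC : g⁻¹ * y * g⁻¹⁻¹ ∈ Subgroup.centralizer ({d} : Set Γ) := hle ⟨y, hy, rfl⟩
      have := (hh ⟨_, hyC⟩).1 ⟨y, hy, rfl⟩
      refine ⟨_, this, ?_⟩
      show (h : Γ) * (g⁻¹ * y * g⁻¹⁻¹) * (h : Γ)⁻¹ = _
      group
    · obtain ⟨z, hz, e⟩ := hy
      have hz' : h⁻¹ * z * h ∈ E := (hh _).2 (by
        rw [show h * (h⁻¹ * z * h) * h⁻¹ = z by group]; exact hz)
      obtain ⟨y', hy', e'⟩ := hz'
      have e'' : g⁻¹ * y' * g⁻¹⁻¹ = (h : Γ)⁻¹ * z * h := e'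
      have e3 : y' = y := by
        rw [show (z : Γ) = (h : Γ) * g⁻¹ * y * ((h : Γ) * g⁻¹)⁻¹ from e] at e''
        calc y' = g * (g⁻¹ * y' * g⁻¹⁻¹) * g⁻¹ := by group
          _ = y := by rw [e'']; group
      exact e3 ▸ hy'
  have := inv_mem hmem
  rwa [mul_inv_rev, inv_inv] at this

/-! ### The common centralisers -/

theorem cnum_member (K : Ctx hF ψ δ W) {y : ↥(Subgroup.centralizer ({d} : Set Γ))} (hy : ψ y ∈ members hF) :
    cnum d (y : Γ) = 26542080 := by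
  rw [cnum_eq K.X y fun k hk => (commute_lift hF K.X hy hk).symm]
  obtain ⟨v, hv, e⟩ := hy
  rw [e, member_centralizer hF hv]

/-- Elements whose image centralises a product of two members centralise its lifts. -/
theorem pair_lift (K : Ctx hF ψ δ W) {k y : ↥(Subgroup.centralizer ({d} : Set Γ))} {u v : Fin 6 → F}
    (h : OrthPair u v) (hy : ψ y = tau hF u * tau hF v) (hk : Commute (ψ k) (tau hF u * tau hF v)) :
    Commute k y := by
  obtain ⟨x, hx⟩ := K.X.surj (tau hF u)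
  obtain ⟨w, -, hmap, hequiv⟩ := exists_section hF K.X (u₀ := x) (hx ▸ tau_mem hF h.1)
  have ma := hmap _ (tau_mem hF h.1)
  have mb := hmap _ (tau_mem hF h.2.1)
  have hcuv : Commute (tau hF u) (tau hF v) := (tau_comm_iff hF h.1 h.2.1).2 h.2.2.1
  have hab : Commute (w (tau hF u)) (w (tau hF v)) :=
    commute_lift hF K.X (by rw [ma]; exact tau_mem hF h.1) (by rw [ma, mb]; exact hcuv.symm)
  refine K.X.comm_fibre (u := k) (u' := k) (w := w (tau hF u) * w (tau hF v)) rfl (by rw [map_mul, ma, mb, hy]) ?_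
  refine mul_inv_eq_iff_eq_mul.1 ?_
  obtain ⟨g, hg⟩ := QuotientGroup.mk'_surjective _ (ψ k)
  have c1 : ψ k * tau hF u * (ψ k)⁻¹ = tau hF (act g u) := by rw [← hg]; exact tau_conj hF g h.1
  have c2 : ψ k * tau hF v * (ψ k)⁻¹ = tau hF (act g v) := by rw [← hg]; exact tau_conj hF g h.2.1
  rw [show k * (w (tau hF u) * w (tau hF v)) * k⁻¹
      = k * w (tau hF u) * k⁻¹ * (k * w (tau hF v) * k⁻¹) by group,
    hequiv k _ (tau_mem hF h.1), hequiv k _ (tau_mem hF h.2.1), c1, c2]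
  have e : tau hF (act g u) * tau hF (act g v) = tau hF u * tau hF v := by
    rw [← c1, ← c2, show ψ k * tau hF u * (ψ k)⁻¹ * (ψ k * tau hF v * (ψ k)⁻¹)
      = ψ k * (tau hF u * tau hF v) * (ψ k)⁻¹ by group, hk.eq, mul_inv_cancel_right]
  rcases pair_unique hF h (h.act g) e with q | q
  · rw [q] at e ⊢; rw [mul_left_cancel e]
  · rw [q] at e ⊢; rw [mul_left_cancel (e.trans hcuv.eq), hab.eq]

theorem cnum_pair (K : Ctx hF ψ δ W) {y : ↥(Subgroup.centralizer ({d} : Set Γ))} {u v : Fin 6 → F}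
    (h : OrthPair u v) (hy : ψ y = tau hF u * tau hF v) : cnum d (y : Γ) = 294912 := by
  rw [cnum_eq K.X y fun k hk => K.pair_lift h hy (hy ▸ hk), hy, pair_centralizer hF h]

theorem cnum_triple (K : Ctx hF ψ δ W) {y : ↥(Subgroup.centralizer ({d} : Set Γ))}
    (hy : ψ y ∈ framesW hF W) : cnum d (y : Γ) ≤ 73728 := by
  obtain ⟨u, hu, -, e⟩ := hy
  refine (cnum_le K.X y).trans ?_
  rw [e, triple_centralizer hF hu]

theorem cnum_self (K : Ctx hF ψ δ W) : cnum d d = 18393661440 := by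
  conv_lhs => arg 2; rw [← K.hδ]
  rw [cnum_eq K.X δ fun k _ => (K.X.central k).symm, K.delta_one,
    show Subgroup.centralizer ({1} : Set (Cfsg.PSU 6 F 2)) = ⊤ from eq_top_iff.2 fun g _ =>
      Subgroup.mem_centralizer_singleton_iff.2 (by simp), Subgroup.card_top, psu_card hF]

theorem d_ne_one (K : Ctx hF ψ δ W) : d ≠ 1 := fun e => K.X.ne (Subtype.ext (K.hδ.trans e))

theorem d_Omega (K : Ctx hF ψ δ W) : d ∈ Omega ψ W := ⟨K.d_mem, IsConj.refl d⟩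

theorem one_not_Omega (K : Ctx hF ψ δ W) : (1 : Γ) ∉ Omega ψ W := fun h => by
  obtain ⟨g, hg⟩ := isConj_iff.1 h.2
  exact K.d_ne_one (conj_eq_one_iff.1 hg)

theorem planeSet_span (K : Ctx hF ψ δ W) : planeSet hF W ⊆ (spanW W : Set (Cfsg.PSU 6 F 2)) := fun b hb => by
  rw [SetLike.mem_coe, spanW_eq_closure hF K.plane]; exact Subgroup.subset_closure hb

theorem pairsW_span (K : Ctx hF ψ δ W) : pairsW hF W ⊆ (spanW W : Set (Cfsg.PSU 6 F 2)) := by
  rintro _ ⟨u, w, hu, hw, -, rfl⟩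
  exact mul_mem ⟨_, tv_mem_fixW hF K.plane hu, rfl⟩ ⟨_, tv_mem_fixW hF K.plane hw, rfl⟩

theorem framesW_span (K : Ctx hF ψ δ W) : framesW hF W ⊆ (spanW W : Set (Cfsg.PSU 6 F 2)) := by
  rintro _ ⟨u, -, hu, rfl⟩
  exact mul_mem (mul_mem ⟨_, tv_mem_fixW hF K.plane (hu 0), rfl⟩ ⟨_, tv_mem_fixW hF K.plane (hu 1), rfl⟩)
    ⟨_, tv_mem_fixW hF K.plane (hu 2), rfl⟩

theorem planeSet_members (K : Ctx hF ψ δ W) {b : Cfsg.PSU 6 F 2} (hb : b ∈ planeSet hF W) : b ∈ members hF := by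
  obtain ⟨v, hv, hv0, rfl⟩ := hb
  exact tau_mem hF (K.plane.iso_of_mem hv hv0)

/-- The types of the conjugates. -/
theorem cases (K : Ctx hF ψ δ W) {y : ↥(Subgroup.centralizer ({d} : Set Γ))} (hy : (y : Γ) ∈ Omega ψ W) :
    y = δ ∨ ψ y ∈ planeSet hF W ∨ ψ y ∈ pairsW hF W ∨ ψ y ∈ framesW hF W := by
  rcases spanW_cases hF K.plane (mem_Omega.1 hy).1 with h | h
  · rcases (K.X.ker y).1 h with rfl | rfl
    · exact absurd hy K.one_not_Omega
    · exact Or.inl rfl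
  · exact Or.inr h

theorem fib_le (K : Ctx hF ψ δ W) (g : Cfsg.PSU 6 F 2) : (fib ψ g).ncard ≤ 2 := by
  by_cases h : (fib ψ g).Nonempty
  · obtain ⟨y, hy⟩ := h
    refine (Set.ncard_le_ncard (t := {y, y * δ}) (fun z hz => ?_) (Set.toFinite _)).trans
      ((Set.ncard_insert_le _ _).trans (by rw [Set.ncard_singleton]))
    exact K.X.fibre (hy.1.trans hz.1.symm)
  · rw [Set.not_nonempty_iff_eq_empty.1 h, Set.ncard_empty]; norm_num

theorem fib_conj (K : Ctx hF ψ δ W) (g z : Cfsg.PSU 6 F 2) : (fib ψ (g * z * g⁻¹)).ncard = (fib ψ z).ncard := by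
  obtain ⟨h, rfl⟩ := K.X.surj g
  have e : fib ψ (ψ h * z * (ψ h)⁻¹) = MulAut.conj h '' fib ψ z := by
    ext y
    constructor
    · rintro ⟨h1, h2⟩
      refine ⟨h⁻¹ * y * h, ⟨?_, ?_⟩, show h * (h⁻¹ * y * h) * h⁻¹ = y by group⟩
      · rw [map_mul, map_mul, map_inv, h1]; group
      · exact h2.trans (isConj_iff.2 ⟨(h : Γ)⁻¹, by simp⟩)
    · rintro ⟨y, ⟨h1, h2⟩, rfl⟩
      refine ⟨?_, ?_⟩
      · show ψ (h * y * h⁻¹) = _
        rw [map_mul, map_mul, map_inv, h1]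
      · exact h2.trans (isConj_iff.2 ⟨(h : Γ), by simp⟩)
  rw [e, Set.ncard_image_of_injective _ (MulAut.conj h).injective]

theorem fib_member (K : Ctx hF ψ δ W) {a a' : Cfsg.PSU 6 F 2} (ha : a ∈ planeSet hF W)
    (ha' : a' ∈ planeSet hF W) : (fib ψ a').ncard = (fib ψ a).ncard := by
  obtain ⟨g, rfl⟩ := members_conj_transitive hF (K.planeSet_members ha) (K.planeSet_members ha')
  exact K.fib_conj g a

theorem fib_pair (K : Ctx hF ψ δ W) {x x' : Cfsg.PSU 6 F 2} (hx : x ∈ pairsW hF W) (hx' : x' ∈ pairsW hF W) :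
    (fib ψ x').ncard = (fib ψ x).ncard := by
  obtain ⟨u, w, -, -, h, rfl⟩ := hx
  obtain ⟨u', w', -, -, h', rfl⟩ := hx'
  obtain ⟨g, g1, g2⟩ := exists_act_two hF (by norm_num) h h'
  rw [← g1, ← g2, ← tau_conj hF g h.1, ← tau_conj hF g h.2.1, ← K.fib_conj (toPSU 6 F g) (tau hF u * tau hF w)]
  congr 2
  group

theorem fib_frame (K : Ctx hF ψ δ W) {x x' : Cfsg.PSU 6 F 2} (hx : x ∈ framesW hF W) (hx' : x' ∈ framesW hF W) :
    (fib ψ x').ncard = (fib ψ x).ncard := by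
  obtain ⟨u, hu, -, rfl⟩ := hx
  obtain ⟨u', hu', -, rfl⟩ := hx'
  obtain ⟨g, hg⟩ := triples_conj hF hu hu'
  rw [← hg, K.fib_conj]

/-- The conjugates over a subset of the span. -/
theorem card_over (K : Ctx hF ψ δ W) {s : Set (Cfsg.PSU 6 F 2)} (hs : s ⊆ (spanW W : Set (Cfsg.PSU 6 F 2)))
    (k : ℕ) (h : ∀ g ∈ s, (fib ψ g).ncard = k) :
    {x ∈ Omega ψ W | ∃ y : ↥(Subgroup.centralizer ({d} : Set Γ)), (y : Γ) = x ∧ ψ y ∈ s}.ncard = s.ncard * k := by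
  rw [← ncard_fibres ψ (fun y : ↥(Subgroup.centralizer ({d} : Set Γ)) => IsConj d (y : Γ)) s k h,
    ← Set.ncard_image_of_injective _ Subtype.val_injective]
  congr 1
  ext x
  constructor
  · rintro ⟨hx, y, rfl, hy⟩
    exact ⟨y, ⟨hy, hx.2⟩, rfl⟩
  · rintro ⟨y, ⟨hy, hc⟩, rfl⟩
    exact ⟨mem_Omega.2 ⟨hs hy, hc⟩, y, rfl, hy⟩

/-- Their number. -/
theorem count (K : Ctx hF ψ δ W) {k b c : ℕ} (hk : ∀ a ∈ planeSet hF W, (fib ψ a).ncard = k)
    (hb : ∀ x ∈ pairsW hF W, (fib ψ x).ncard = b) (hc : ∀ x ∈ framesW hF W, (fib ψ x).ncard = c) :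
    (Omega ψ W).ncard = 1 + 21 * k + 210 * b + 280 * c := by
  have h1 := K.card_over K.planeSet_span k hk
  have h2 := K.card_over K.pairsW_span b hb
  have h3 := K.card_over K.framesW_span c hc
  rw [planeSet_card hF K.plane] at h1
  rw [pairsW_card hF K.plane] at h2
  rw [framesW_card hF K.plane] at h3
  have e : Omega ψ W = {d} ∪
      ({x ∈ Omega ψ W | ∃ y : ↥(Subgroup.centralizer ({d} : Set Γ)), (y : Γ) = x ∧ ψ y ∈ planeSet hF W} ∪
      ({x ∈ Omega ψ W | ∃ y : ↥(Subgroup.centralizer ({d} : Set Γ)), (y : Γ) = x ∧ ψ y ∈ pairsW hF W} ∪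
      {x ∈ Omega ψ W | ∃ y : ↥(Subgroup.centralizer ({d} : Set Γ)), (y : Γ) = x ∧ ψ y ∈ framesW hF W})) := by
    refine Set.Subset.antisymm (fun x hx => ?_) ?_
    · obtain ⟨y, rfl⟩ := Omega.lift hx
      rcases K.cases hx with rfl | h | h | h
      exacts [Or.inl K.hδ, Or.inr (Or.inl ⟨hx, y, rfl, h⟩), Or.inr (Or.inr (Or.inl ⟨hx, y, rfl, h⟩)),
        Or.inr (Or.inr (Or.inr ⟨hx, y, rfl, h⟩))]
    · rintro x (rfl | h | h | h)
      exacts [K.d_Omega, h.1, h.1, h.1]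
  rw [e, Set.ncard_union_eq ?_ (Set.toFinite _) (Set.toFinite _),
    Set.ncard_union_eq ?_ (Set.toFinite _) (Set.toFinite _),
    Set.ncard_union_eq ?_ (Set.toFinite _) (Set.toFinite _), Set.ncard_singleton, h1, h2, h3]
  · omega
  · refine Set.disjoint_left.2 ?_
    rintro x ⟨-, y, rfl, h⟩ ⟨-, z, e, h'⟩
    exact pairsW_not_framesW hF h (Subtype.val_injective e ▸ h')
  · refine Set.disjoint_left.2 ?_
    rintro x ⟨-, y, rfl, h⟩ (⟨-, z, e, h'⟩ | ⟨-, z, e, h'⟩)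
    · exact planeSet_not_pairsW hF K.plane h (Subtype.val_injective e ▸ h')
    · exact planeSet_not_framesW hF K.plane h (Subtype.val_injective e ▸ h')
  · refine Set.disjoint_left.2 ?_
    intro x hx h
    rw [Set.mem_singleton_iff] at hx
    subst hx
    rcases h with ⟨-, z, e, h⟩ | ⟨-, z, e, h⟩ | ⟨-, z, e, h⟩ <;>
      rw [show z = δ from Subtype.ext (e.trans K.hδ.symm), K.delta_one] at h
    · obtain ⟨v, hv, hv0, e'⟩ := h
      exact tau_ne_one hF (K.plane.iso_of_mem hv hv0) e'.symm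
    · exact pairsW_ne_one hF h
    · exact framesW_ne_one hF h

/-- The neighbours of `d`. -/
theorem nbr_d (K : Ctx hF ψ δ W) :
    {x ∈ Omega ψ W | cnum d x = 26542080} =
      {x ∈ Omega ψ W | ∃ y : ↥(Subgroup.centralizer ({d} : Set Γ)), (y : Γ) = x ∧ ψ y ∈ planeSet hF W} := by
  ext x
  refine and_congr_right fun hx => ?_
  obtain ⟨y, rfl⟩ := Omega.lift hx
  refine ⟨fun h => ⟨y, rfl, ?_⟩, fun ⟨z, e, hz⟩ => by
    rw [← Subtype.val_injective e]; exact K.cnum_member (K.planeSet_members hz)⟩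
  rcases K.cases hx with rfl | hy | hy | hy
  · rw [K.hδ, K.cnum_self] at h; omega
  · exact hy
  · obtain ⟨u, v, -, -, hp, e⟩ := hy
    rw [K.cnum_pair hp e] at h
    omega
  · have := K.cnum_triple hy
    omega

end Ctx

end Cfsg.Agent.U62Base
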