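/-
The conjugates of `d` in the preimage of the span of a plane: their number is 22.

* `small_orbit` : elements of the span with at most two conjugates under the centraliser of a product of two;
* `Ctx.pair_form` : a conjugate over `a * b` is `w a * w b * δ`;
* `Ctx.omega_ncard` : there are 22 conjugates.
-/
import Cfsg.Agent.Lib.U62Base.Ctx
import Cfsg.Agent.Lib.U62Base.GLBound

set_option autoImplicit false

namespace Cfsg.Agent.U62Base

open Cfsg.Agent.Unitary Cfsg.Agent.U62Cover Cfsg.Agent.ThreeTransSU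
open Cfsg.Agent.M22Cover (cnum cnum_comm cnum_conj)

section SmallOrbit

variable {F : Type*} [Field F] [Fintype F] {W : Submodule F (Fin 6 → F)}

theorem Frame3.reindex {u : Fin 3 → (Fin 6 → F)} (h : Frame3 u) (σ : Fin 3 → Fin 3) (hσ : Function.Injective σ) :
    Frame3 fun i => u (σ i) :=
  ⟨h.li.comp σ hσ, fun i j => h.orth _ _⟩

theorem form_conj (hF : Fintype.card F = 4) (g z : Cfsg.SU 6 F 2) (x y : Fin 6 → F) :
    form (g * z * g⁻¹) x y = form z (act g⁻¹ x) (act g⁻¹ y) := by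
  unfold form
  have e : act (g * z * g⁻¹) x + x = act g (act z (act g⁻¹ x) + act g⁻¹ x) := by
    rw [act_add, act_mul, act_mul, act_act_inv]
  rw [e]
  conv_lhs => rw [← act_act_inv g y, act_hf]

theorem form_shift (hF : Fintype.card F = 4) (P : IsPlane W) {z : Cfsg.SU 6 F 2} (hz : z ∈ fixW W)
    {p q : Fin 6 → F} (hp : p ∈ W) (hq : q ∈ W) (x y : Fin 6 → F) : form z (x + p) (y + q) = form z x y := by
  unfold form
  rw [act_add, hz p hp, show act z x + p + (x + p) = act z x + x + (p + p) by abel, vadd_self hF, add_zero,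
    hf_add_right hF, P.iso _ (disp_mem hF P hz x) q hq, add_zero]

/-- An off-diagonal entry vanishes if the squares of the diagonal elements fix the element. -/
theorem form_kill (hF : Fintype.card F = 4) (P : IsPlane W) {q : Fin 3 → (Fin 6 → F)} (hq : Frame3 q)
    (hqW : ∀ i, q i ∈ W) {z : Cfsg.SU 6 F 2} (hz : z ∈ fixW W)
    (hinv : ∀ g : Cfsg.SU 6 F 2, (∀ i, tau hF (act g (q i)) = tau hF (q i)) →
      toPSU 6 F (g * g) * toPSU 6 F z * (toPSU 6 F (g * g))⁻¹ = toPSU 6 F z)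
    {a b : Fin 6 → F} (ha : ∀ i, hf a (q i) = if i = 0 then 1 else 0)
    (hb : ∀ i, hf b (q i) = if i = 1 then 1 else 0) : form z a b = 0 := by
  obtain ⟨ω, hω0, hω⟩ := exists_omega hF
  have hw : Frame3 ![q 0, ω • q 1, q 2] := by
    refine ⟨Fintype.linearIndependent_iff.2 fun c hc => ?_, fun i j => ?_⟩
    · have := Fintype.linearIndependent_iff.1 hq.li ![c 0, c 1 * ω, c 2] (by
        rw [Fin.sum_univ_three] at hc ⊢
        simpa [smul_smul] using hc)
      intro i
      fin_cases i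
      · exact this 0
      · exact (mul_eq_zero.1 (this 1)).resolve_right hω0
      · exact this 2
    · fin_cases i <;> fin_cases j <;> simp [hf_smul_left hF, hf_smul_right hF, hq.orth]
  obtain ⟨g, c, hc, g0, g1, g2⟩ := exists_act_three hF hq hw
  change act g (q 1) = ω • q 1 at g1
  change act g (q 2) = c • q 2 at g2
  change act g (q 0) = q 0 at g0
  have hfix : ∀ i, tau hF (act g (q i)) = tau hF (q i) := fun i => by
    fin_cases i
    · exact congrArg (tau hF) g0
    · exact (congrArg (tau hF) g1).trans (tau_smul hF (hq.iso 1) hω0)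
    · exact (congrArg (tau hF) g2).trans (tau_smul hF (hq.iso 2) hc)
  have G0 : act (g * g) (q 0) = q 0 := by rw [act_mul, g0, g0]
  have G1 : act (g * g) (q 1) = ω ^ 2 • q 1 := by rw [act_mul, g1, act_smul, g1, smul_smul, pow_two]
  have G2 : act (g * g) (q 2) = c ^ 2 • q 2 := by rw [act_mul, g2, act_smul, g2, smul_smul, pow_two]
  obtain ⟨h, hh⟩ : ∃ h, h = g * g := ⟨_, rfl⟩
  rw [← hh] at G0 G1 G2
  have hi := hinv g hfix
  rw [← hh, ← map_inv, ← map_mul, ← map_mul] at hi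
  have hzz := fixW_sq hF P hz
  have e : h * z * h⁻¹ = z := eq_of_toPSU hF (by
    rw [show h * z * h⁻¹ * (h * z * h⁻¹) = h * (z * z) * h⁻¹ by group, hzz, mul_one, mul_inv_cancel]) hzz hi
  have pair : ∀ (x : Fin 6 → F) i, hf (act h⁻¹ x) (q i) = hf x (act h (q i)) := fun x i => by
    rw [← act_hf h (act h⁻¹ x) (q i), act_act_inv]
  obtain ⟨u, hu, hWu⟩ : ∃ u, u = q ∧ W = Submodule.span F (Set.range u) := ⟨q, rfl, by
    refine (Submodule.eq_of_le_of_finrank_eq (Submodule.span_le.2 (by rintro _ ⟨i, rfl⟩; exact hqW i)) ?_).symm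
    rw [finrank_span_eq_card hq.li, Fintype.card_fin, P.dim]⟩
  have inW : ∀ (x : Fin 6 → F), (∀ i, hf x (q i) = 0) → x ∈ W := fun x hx => by
    rw [hWu, hu]; exact (mem_iff_perp hF hq).2 hx
  have h1 : hf a (q 1) = 0 := by rw [ha]; rfl
  have h2 : hf a (q 2) = 0 := by rw [ha]; rfl
  have h3 : hf a (q 0) = 1 := by rw [ha]; rfl
  have k0 : hf b (q 0) = 0 := by rw [hb]; rfl
  have k1 : hf b (q 1) = 1 := by rw [hb]; rfl
  have k2 : hf b (q 2) = 0 := by rw [hb]; rfl
  have hω2 : (ω ^ 2) ^ 2 = ω := pow_q_pow_q (card_sq hF) _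
  have da : act h⁻¹ a + a ∈ W := inW _ fun i => by
    rw [hf_add_left hF, pair]
    fin_cases i
    · show hf a (act h (q 0)) + hf a (q 0) = 0
      rw [G0, add_self hF]
    · show hf a (act h (q 1)) + hf a (q 1) = 0
      rw [G1, hf_smul_right hF, h1]; simp
    · show hf a (act h (q 2)) + hf a (q 2) = 0
      rw [G2, hf_smul_right hF, h2]; simp
  have db : act h⁻¹ b + ω • b ∈ W := inW _ fun i => by
    rw [hf_add_left hF, pair, hf_smul_left hF]
    fin_cases i
    · show hf b (act h (q 0)) + ω * hf b (q 0) = 0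
      rw [G0, k0]; simp
    · show hf b (act h (q 1)) + ω * hf b (q 1) = 0
      rw [G1, hf_smul_right hF, k1, hω2]; simp [add_self hF]
    · show hf b (act h (q 2)) + ω * hf b (q 2) = 0
      rw [G2, hf_smul_right hF, k2]; simp
  have key : form z a b = ω ^ 2 * form z a b := by
    conv_lhs => rw [← e, form_conj hF]
    rw [show act h⁻¹ a = a + (act h⁻¹ a + a) by rw [add_comm (act h⁻¹ a) a, ← add_assoc, vadd_self hF, zero_add],
      show act h⁻¹ b = ω • b + (act h⁻¹ b + ω • b) by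
        rw [add_comm (act h⁻¹ b) (ω • b), ← add_assoc, vadd_self hF, zero_add],
      form_shift hF P hz da db]
    unfold form
    rw [hf_smul_right hF]
  by_contra hne
  have : (1 : F) = ω ^ 2 := mul_right_cancel₀ hne (by rw [one_mul]; exact key)
  exact hω0 (by linear_combination -this - hω)

/-- Elements of the span with at most two conjugates under the centraliser of a product of two members. -/
theorem small_orbit (hF : Fintype.card F = 4) (P : IsPlane W) {u v : Fin 6 → F} (hu : u ∈ W) (hv : v ∈ W)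
    (hp : OrthPair u v) {z z' : Cfsg.PSU 6 F 2} (hz : z ∈ spanW W)
    (h : ∀ g, Commute g (tau hF u * tau hF v) → g * z * g⁻¹ = z ∨ g * z * g⁻¹ = z') :
    z = 1 ∨ z = tau hF u ∨ z = tau hF v ∨ z = tau hF u * tau hF v := by
  -- squares fix `z`
  have hsqfix : ∀ g, Commute g (tau hF u * tau hF v) → g * g * z * (g * g)⁻¹ = z := by
    intro g hg
    rw [show g * g * z * (g * g)⁻¹ = g * (g * z * g⁻¹) * g⁻¹ by group]
    rcases h g hg with e | e
    · rw [e, e]
    · by_cases hzz : z' = z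
      · rw [e, hzz]; rw [hzz] at e; exact e
      rw [e]
      have h2 := h (g * g) (hg.mul_left hg)
      rw [show g * g * z * (g * g)⁻¹ = g * (g * z * g⁻¹) * g⁻¹ by group, e] at h2
      rcases h2 with k | k
      · exact k
      · exact absurd ((MulAut.conj g).injective (show g * z' * g⁻¹ = g * z * g⁻¹ from k.trans e.symm)) hzz
  obtain ⟨g0, hg0, rfl⟩ := hz
  obtain ⟨x, hxf, hxW⟩ := Set.nonempty_of_ncard_ne_zero
    (s := {x : Fin 6 → F | Frame3 ![x, u, v] ∧ x ∈ W}) (by rw [(third_card hF hp).2 W P hu hv]; norm_num)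
  obtain ⟨f, hf'⟩ := exists_duals hF hxf
  have hinv : ∀ q : Fin 3 → (Fin 6 → F), (∃ i j, i ≠ j ∧ tau hF (q i) = tau hF u ∧ tau hF (q j) = tau hF v) →
      (∀ i, Iso (q i)) → ∀ g : Cfsg.SU 6 F 2, (∀ i, tau hF (act g (q i)) = tau hF (q i)) →
      toPSU 6 F (g * g) * toPSU 6 F g0 * (toPSU 6 F (g * g))⁻¹ = toPSU 6 F g0 := by
    rintro q ⟨i, j, -, ei, ej⟩ hI g hg
    rw [map_mul]
    refine hsqfix _ (mul_inv_eq_iff_eq_mul.1 ?_)
    rw [show toPSU 6 F g * (tau hF u * tau hF v) * (toPSU 6 F g)⁻¹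
      = toPSU 6 F g * tau hF u * (toPSU 6 F g)⁻¹ * (toPSU 6 F g * tau hF v * (toPSU 6 F g)⁻¹) by group,
      ← ei, ← ej, tau_conj hF g (hI i), tau_conj hF g (hI j), hg, hg]
  have hW : ∀ i, (![x, u, v] : Fin 3 → _) i ∈ W := fun i => by fin_cases i <;> assumption
  have off : ∀ σ : Fin 3 → Fin 3, Function.Injective σ → form g0 (f (σ 0)) (f (σ 1)) = 0 := by
    intro σ hσ
    obtain ⟨i, hi⟩ := Finite.injective_iff_surjective.1 hσ 1
    obtain ⟨j, hj⟩ := Finite.injective_iff_surjective.1 hσ 2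
    have hfr := hxf.reindex σ hσ
    refine form_kill hF P hfr (fun i => hW _) hg0 (hinv _ ⟨i, j, fun e => ?_, ?_, ?_⟩ hfr.iso) ?_ ?_
    · rw [e, hj] at hi; exact absurd hi (by decide)
    · rw [hi]; rfl
    · rw [hj]; rfl
    · intro k; rw [hf']; exact if_congr ⟨fun e => (hσ e).symm, fun e => e ▸ rfl⟩ rfl rfl
    · intro k; rw [hf']; exact if_congr ⟨fun e => (hσ e).symm, fun e => e ▸ rfl⟩ rfl rfl
  have h01 : form g0 (f 0) (f 1) = 0 := off id Function.injective_id
  have h02 : form g0 (f 0) (f 2) = 0 := off ![0, 2, 1] (by decide)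
  have h12 : form g0 (f 1) (f 2) = 0 := off ![1, 2, 0] (by decide)
  have h10 : form g0 (f 1) (f 0) = 0 := by rw [form_symm hF P hg0, h01]; simp
  have h20 : form g0 (f 2) (f 0) = 0 := by rw [form_symm hF P hg0, h02]; simp
  have h21 : form g0 (f 2) (f 1) = 0 := by rw [form_symm hF P hg0, h12]; simp
  -- the same for the frame `x + u, u, v`
  have h00 : form g0 (f 0) (f 0) = 0 := by
    have hfr : Frame3 ![u, x + u, v] := by
      refine ⟨Fintype.linearIndependent_iff.2 fun c hc => ?_, fun i j => P.iso _ ?_ _ ?_⟩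
      · have := Fintype.linearIndependent_iff.1 hxf.li ![c 1, c 0 + c 1, c 2] (by
          rw [Fin.sum_univ_three] at hc ⊢
          rw [← hc]
          simp [smul_add, add_smul]
          abel)
        intro i
        have t0 : c 1 = 0 := this 0
        have t1 : c 0 + c 1 = 0 := this 1
        fin_cases i
        · simpa [t0] using t1
        · exact t0
        · exact this 2
      · fin_cases i
        exacts [hu, W.add_mem hxW hu, hv]
      · fin_cases j
        exacts [hu, W.add_mem hxW hu, hv]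
    have k := form_kill hF P hfr (fun i => by fin_cases i; exacts [hu, W.add_mem hxW hu, hv]) hg0
      (hinv _ ⟨0, 2, by decide, rfl, rfl⟩ hfr.iso) (a := f 1 + f 0) (b := f 0) ?_ ?_
    · rwa [show form g0 (f 1 + f 0) (f 0) = form g0 (f 1) (f 0) + form g0 (f 0) (f 0) by
        unfold form
        rw [act_add, show act g0 (f 1) + act g0 (f 0) + (f 1 + f 0)
          = (act g0 (f 1) + f 1) + (act g0 (f 0) + f 0) by abel, hf_add_left hF], h10, zero_add] at k
    · intro i
      rw [hf_add_left hF]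
      fin_cases i
      · show hf (f 1) u + hf (f 0) u = _
        rw [show hf (f 1) u = 1 from hf' 1 1, show hf (f 0) u = 0 from hf' 0 1]; simp
      · show hf (f 1) (x + u) + hf (f 0) (x + u) = _
        rw [hf_add_right hF, hf_add_right hF, show hf (f 1) u = 1 from hf' 1 1, show hf (f 0) u = 0 from hf' 0 1,
          show hf (f 1) x = 0 from hf' 1 0, show hf (f 0) x = 1 from hf' 0 0]
        simp [add_self hF]
      · show hf (f 1) v + hf (f 0) v = _
        rw [show hf (f 1) v = 0 from hf' 1 2, show hf (f 0) v = 0 from hf' 0 2]; simp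
    · intro i
      fin_cases i
      · show hf (f 0) u = _
        rw [show hf (f 0) u = 0 from hf' 0 1]; simp
      · show hf (f 0) (x + u) = _
        rw [hf_add_right hF, show hf (f 0) u = 0 from hf' 0 1, show hf (f 0) x = 1 from hf' 0 0]; simp
      · show hf (f 0) v = _
        rw [show hf (f 0) v = 0 from hf' 0 2]; simp
  -- compare
  have hWx : W = Submodule.span F (Set.range ![x, u, v]) := by
    refine (Submodule.eq_of_le_of_finrank_eq (Submodule.span_le.2 (by rintro _ ⟨i, rfl⟩; exact hW i)) ?_).symm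
    rw [finrank_span_eq_card hxf.li, Fintype.card_fin, P.dim]
  have mu := tv_mem_fixW hF P hu
  have mv := tv_mem_fixW hF P hv
  have hfu : ∀ k, hf u (f k) = if k = 1 then 1 else 0 := fun k => by
    rw [hf_symm hF (f k) u, show hf (f k) u = if k = 1 then (1 : F) else 0 from hf' k 1]; split <;> simp
  have hfv : ∀ k, hf v (f k) = if k = 2 then 1 else 0 := fun k => by
    rw [hf_symm hF (f k) v, show hf (f k) v = if k = 2 then (1 : F) else 0 from hf' k 2]; split <;> simp
  have hu' : ∀ k, hf (f k) u = if k = 1 then 1 else 0 := fun k => hf' k 1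
  have hv' : ∀ k, hf (f k) v = if k = 2 then 1 else 0 := fun k => hf' k 2
  have one_form : ∀ k l, form (1 : Cfsg.SU 6 F 2) (f k) (f l) = 0 := fun k l => by
    simp [form, act_one, vadd_self hF, hf_zero_left hF]
  have fu : ∀ k l, form (tv hF u) (f k) (f l) = (if k = 1 then 1 else 0) * (if l = 1 then 1 else 0) := fun k l => by
    rw [form_tv hF hp.1.2, hu', hfu]
  have fv : ∀ k l, form (tv hF v) (f k) (f l) = (if k = 2 then 1 else 0) * (if l = 2 then 1 else 0) := fun k l => by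
    rw [form_tv hF hp.2.1.2, hv', hfv]
  have val : ∀ k, form g0 (f k) (f k) = 0 ∨ form g0 (f k) (f k) = 1 := fun k => by
    rcases eq_or_ne (form g0 (f k) (f k)) 0 with e | e
    · exact Or.inl e
    · exact Or.inr (fixed_eq_one hF (form_symm hF P hg0 (f k) (f k)).symm e)
  have cmp : ∀ g ∈ fixW W, (∀ k l, form g0 (f k) (f l) = form g (f k) (f l)) → g0 = g := fun g hg e =>
    fixW_ext hF hxf hf' (hWx ▸ hg0) (hWx ▸ hg) e
  rcases val 1 with e1 | e1 <;> rcases val 2 with e2 | e2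
  · left
    rw [cmp 1 (one_mem _) fun k l => by rw [one_form]; fin_cases k <;> fin_cases l <;> assumption, map_one]
  · right; right; left
    rw [cmp _ mv fun k l => by rw [fv]; fin_cases k <;> fin_cases l <;> simp <;> assumption]
    rfl
  · right; left
    rw [cmp _ mu fun k l => by rw [fu]; fin_cases k <;> fin_cases l <;> simp <;> assumption]
    rfl
  · right; right; right
    rw [cmp _ (mul_mem mu mv) fun k l => by
      rw [form_mul hF P mu mv, fu, fv]; fin_cases k <;> fin_cases l <;> simp <;> assumption, map_mul]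
    rfl

end SmallOrbit

variable {F : Type*} [Field F] [Fintype F] {Γ : Type*} [Group Γ] [Finite Γ] {d : Γ}
  {W : Submodule F (Fin 6 → F)}
  {ψ : ↥(Subgroup.centralizer ({d} : Set Γ)) →* Cfsg.PSU 6 F 2}
  {δ : ↥(Subgroup.centralizer ({d} : Set Γ))} {hF : Fintype.card F = 4}

namespace Ctx

theorem norm_Omega (K : Ctx hF ψ δ W) {n x : Γ} (hn : n ∈ Subgroup.normalizer (bigA ψ W : Set Γ))
    (hx : x ∈ Omega ψ W) : n * x * n⁻¹ ∈ Omega ψ W :=
  ⟨(Subgroup.mem_normalizer_iff.1 hn x).1 hx.1, hx.2.trans (isConj_iff.2 ⟨n, rfl⟩)⟩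

theorem norm_Omega' (K : Ctx hF ψ δ W) {n x : Γ} (hn : n ∈ Subgroup.normalizer (bigA ψ W : Set Γ))
    (hx : x ∈ Omega ψ W) : n⁻¹ * x * n ∈ Omega ψ W := by
  have := K.norm_Omega (inv_mem hn) hx
  rwa [inv_inv] at this

theorem Omega_dvd (K : Ctx hF ψ δ W) : (Omega ψ W).ncard ∣ glOrder := by
  have e : Omega ψ W = {x | ∃ n ∈ Subgroup.normalizer (bigA ψ W : Set Γ), n * d * n⁻¹ = x} := by
    ext x
    exact ⟨fun h => K.transitive h.1 h.2, fun ⟨n, hn, e⟩ => e ▸ K.norm_Omega hn K.d_Omega⟩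
  rw [e]
  exact orbit_dvd (fun x hx y hy => (K.comm_bigA hx hy).eq) (fun x hx => K.sq_bigA hx) K.card_bigA K.d_mem

theorem two_le (K : Ctx hF ψ δ W)
    (hnwc : ∃ g : Γ, g * d * g⁻¹ ∈ Subgroup.centralizer ({d} : Set Γ) ∧ g * d * g⁻¹ ≠ d) :
    2 ≤ (Omega ψ W).ncard := by
  obtain ⟨g, hg, hne⟩ := hnwc
  have hy2 : ψ ⟨g * d * g⁻¹, hg⟩ * ψ ⟨g * d * g⁻¹, hg⟩ = 1 := by
    rw [← map_mul, ← map_one ψ]
    refine congrArg ψ (Subtype.ext ?_)
    show g * d * g⁻¹ * (g * d * g⁻¹) = 1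
    rw [show g * d * g⁻¹ * (g * d * g⁻¹) = g * (d * d) * g⁻¹ by group, K.sq_bigA K.d_mem, mul_one,
      mul_inv_cancel]
  obtain ⟨W', P', hmemW⟩ := involution_plane hF hy2
  obtain ⟨g', hg'⟩ := planeSet_conj_exists hF P' K.plane
  obtain ⟨h, rfl⟩ := K.X.surj g'
  have hmem : ((h * ⟨g * d * g⁻¹, hg⟩ * h⁻¹ : ↥(Subgroup.centralizer ({d} : Set Γ))) : Γ) ∈ Omega ψ W := by
    refine mem_Omega.2 ⟨?_, ?_⟩
    · rw [map_mul, map_mul, map_inv]
      exact spanW_conj hF P' K.plane hg' hmemW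
    · exact isConj_iff.2 ⟨(h : Γ) * g, by simp [mul_assoc]⟩
  have hne' : ((h * ⟨g * d * g⁻¹, hg⟩ * h⁻¹ : ↥(Subgroup.centralizer ({d} : Set Γ))) : Γ) ≠ d := by
    intro e
    refine hne ?_
    have hh := Subgroup.mem_centralizer_singleton_iff.1 h.2
    simp only [Subgroup.coe_mul, Subgroup.coe_inv] at e
    calc g * d * g⁻¹ = (h : Γ)⁻¹ * ((h : Γ) * (g * d * g⁻¹) * (h : Γ)⁻¹) * h := by group
      _ = d := by rw [e, mul_assoc, ← hh, inv_mul_cancel_left]
  have := Set.ncard_le_ncard (Set.insert_subset hmem (Set.singleton_subset_iff.2 K.d_Omega)) (Set.toFinite _)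
  rwa [Set.ncard_pair hne'] at this

/-- A conjugate over a product of two members. -/
theorem pair_form (K : Ctx hF ψ δ W) {w : Cfsg.PSU 6 F 2 → ↥(Subgroup.centralizer ({d} : Set Γ))}
    (hmap : ∀ a ∈ members hF, ψ (w a) = a)
    (hequiv : ∀ h, ∀ a ∈ members hF, h * w a * h⁻¹ = w (ψ h * a * (ψ h)⁻¹))
    {y : ↥(Subgroup.centralizer ({d} : Set Γ))} {u v : Fin 6 → F} (hu : u ∈ W) (hv : v ∈ W) (hp : OrthPair u v)
    (hy : ψ y = tau hF u * tau hF v) (hΩ : (y : Γ) ∈ Omega ψ W) :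
    y = w (tau hF u) * w (tau hF v) * δ ∧ ∀ h : ↥(Subgroup.centralizer ({d} : Set Γ)),
      ψ h = tau hF u ∨ ψ h = tau hF v → cnum (y : Γ) (h : Γ) = 26542080 := by
  have cp := K.cnum_pair hp hy
  obtain ⟨n, hn, hnd⟩ := K.transitive hΩ.1 hΩ.2
  have hΩ0 := K.norm_Omega' hn K.d_Omega
  obtain ⟨y0, ey0⟩ := Omega.lift hΩ0
  have hny0 : n * (y0 : Γ) * n⁻¹ = d := by rw [ey0]; group
  have c0 : cnum d (y0 : Γ) = 294912 := by
    rw [← cnum_conj n d (y0 : Γ), hnd, hny0, cnum_comm, cp]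
  obtain ⟨u0, v0, hu0, hv0, hp0, e0⟩ : ψ y0 ∈ pairsW hF W := by
    rcases K.cases (y := y0) (ey0.symm ▸ hΩ0) with rfl | h | h | h
    · rw [K.hδ, K.cnum_self] at c0; omega
    · rw [K.cnum_member (K.planeSet_members h)] at c0; omega
    · exact h
    · have := K.cnum_triple h; omega
  obtain ⟨a, ha⟩ : ∃ a, a = tau hF u := ⟨_, rfl⟩
  obtain ⟨b, hb⟩ : ∃ b, b = tau hF v := ⟨_, rfl⟩
  obtain ⟨a0, ha0⟩ : ∃ a, a = tau hF u0 := ⟨_, rfl⟩
  obtain ⟨b0, hb0⟩ : ∃ b, b = tau hF v0 := ⟨_, rfl⟩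
  have haD : a ∈ members hF := ha ▸ tau_mem hF hp.1
  have hbD : b ∈ members hF := hb ▸ tau_mem hF hp.2.1
  have ha0D : a0 ∈ members hF := ha0 ▸ tau_mem hF hp0.1
  have hb0D : b0 ∈ members hF := hb0 ▸ tau_mem hF hp0.2.1
  have cab : Commute a b := by rw [ha, hb]; exact (tau_comm_iff hF hp.1 hp.2.1).2 hp.2.2.1
  have cab0 : Commute a0 b0 := by rw [ha0, hb0]; exact (tau_comm_iff hF hp0.1 hp0.2.1).2 hp0.2.2.1
  have a0sq : a0 * a0 = 1 := by rw [ha0]; exact tau_sq hF hp0.1
  have b0sq : b0 * b0 = 1 := by rw [hb0]; exact tau_sq hF hp0.2.1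
  have hab : a ≠ b := fun e => by
    rw [ha, hb] at e
    obtain ⟨c, -, e'⟩ := tau_inj hF hp.1 hp.2.1 e
    exact hp.2.2.2 c e'
  rw [← ha, ← hb] at hy ⊢
  rw [← ha0, ← hb0] at e0
  have wcomm : Commute (w a) (w b) :=
    commute_lift hF K.X (by rw [hmap a haD]; exact haD) (by rw [hmap a haD, hmap b hbD]; exact cab.symm)
  have inA : ∀ {p : Fin 6 → F}, p ∈ W → Iso p →
      ((w (tau hF p) : ↥(Subgroup.centralizer ({d} : Set Γ))) : Γ) ∈ bigA ψ W := fun {p} hpW hpI =>
    ⟨w (tau hF p), show ψ (w (tau hF p)) ∈ spanW W by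
      rw [hmap _ (tau_mem hF hpI)]; exact ⟨_, tv_mem_fixW hF K.plane hpW, rfl⟩, rfl⟩
  obtain ⟨h1, h1m, e1⟩ := (Subgroup.mem_normalizer_iff.1 hn _).1 (inA hu0 hp0.1)
  obtain ⟨h2, h2m, e2⟩ := (Subgroup.mem_normalizer_iff.1 hn _).1 (inA hv0 hp0.2.1)
  rw [← ha0] at e1
  rw [← hb0] at e2
  change (h1 : Γ) = n * (w a0 : Γ) * n⁻¹ at e1
  change (h2 : Γ) = n * (w b0 : Γ) * n⁻¹ at e2
  -- the centraliser permutes the two images
  have perm : ∀ k : ↥(Subgroup.centralizer ({d} : Set Γ)), Commute (ψ k) (a * b) →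
      (k * h1 * k⁻¹ = h1 ∨ k * h1 * k⁻¹ = h2) ∧ (k * h2 * k⁻¹ = h2 ∨ k * h2 * k⁻¹ = h1) := by
    intro k hk
    have hky : (k : Γ) * (y : Γ) = (y : Γ) * k :=
      congrArg Subtype.val (K.pair_lift hp (by rw [hy, ha, hb]) (by rw [← ha, ← hb]; exact hk)).eq
    have hkd : (k : Γ) * d = d * k := Subgroup.mem_centralizer_singleton_iff.1 k.2
    have hk' : n⁻¹ * (k : Γ) * n ∈ Subgroup.centralizer ({d} : Set Γ) :=
      Subgroup.mem_centralizer_singleton_iff.2 (by
        calc n⁻¹ * (k : Γ) * n * d = n⁻¹ * ((k : Γ) * (n * d * n⁻¹)) * n := by group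
          _ = n⁻¹ * ((y : Γ) * k) * n := by rw [hnd, hky]
          _ = d * (n⁻¹ * (k : Γ) * n) := by rw [← hnd]; group)
    have hc : Commute (ψ ⟨_, hk'⟩) (a0 * b0) := by
      rw [← e0]
      refine Commute.map (Subtype.ext ?_) ψ
      show n⁻¹ * (k : Γ) * n * (y0 : Γ) = (y0 : Γ) * (n⁻¹ * (k : Γ) * n)
      rw [ey0]
      calc n⁻¹ * (k : Γ) * n * (n⁻¹ * d * n) = n⁻¹ * ((k : Γ) * d) * n := by group
        _ = n⁻¹ * d * n * (n⁻¹ * (k : Γ) * n) := by rw [hkd]; group
    have conj_back : ∀ {s t : ↥(Subgroup.centralizer ({d} : Set Γ))} {p q : Cfsg.PSU 6 F 2},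
        (s : Γ) = n * (w p : Γ) * n⁻¹ → (t : Γ) = n * (w q : Γ) * n⁻¹ →
        (⟨_, hk'⟩ : ↥(Subgroup.centralizer ({d} : Set Γ))) * w p * (⟨_, hk'⟩)⁻¹ = w q → k * s * k⁻¹ = t := by
      intro s t p q hs ht e
      refine Subtype.ext ?_
      have e' := congrArg Subtype.val e
      simp only [Subgroup.coe_mul, Subgroup.coe_inv] at e' ⊢
      rw [hs, ht, ← e']
      group
    have cases : ∀ {p q : Fin 6 → F}, OrthPair p q → tau hF p * tau hF q = a0 * b0 →
        ψ ⟨_, hk'⟩ * tau hF p * (ψ ⟨_, hk'⟩)⁻¹ = tau hF p ∨ ψ ⟨_, hk'⟩ * tau hF p * (ψ ⟨_, hk'⟩)⁻¹ = tau hF q := by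
      intro p q hpq e
      obtain ⟨g, hg⟩ := QuotientGroup.mk'_surjective _ (ψ ⟨_, hk'⟩)
      rw [← hg] at hc ⊢
      rw [tau_conj hF g hpq.1]
      refine pair_unique hF hpq (hpq.act g) ?_
      rw [← tau_conj hF g hpq.1, ← tau_conj hF g hpq.2.1, show toPSU 6 F g * tau hF p * (toPSU 6 F g)⁻¹
          * (toPSU 6 F g * tau hF q * (toPSU 6 F g)⁻¹) = toPSU 6 F g * (tau hF p * tau hF q) * (toPSU 6 F g)⁻¹ by
        group, e, hc.eq, mul_inv_cancel_right]
    constructor
    · rcases cases hp0 (by rw [ha0, hb0]) with h | h <;> rw [← ha0] at h <;> try rw [← hb0] at h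
      · exact Or.inl (conj_back e1 e1 ((hequiv _ a0 ha0D).trans (congrArg w h)))
      · exact Or.inr (conj_back e1 e2 ((hequiv _ a0 ha0D).trans (congrArg w h)))
    · rcases cases (hp0.symm hF) (by rw [cab0.eq, ha0, hb0]) with h | h <;> rw [← hb0] at h <;> try rw [← ha0] at h
      · exact Or.inl (conj_back e2 e2 ((hequiv _ b0 hb0D).trans (congrArg w h)))
      · exact Or.inr (conj_back e2 e1 ((hequiv _ b0 hb0D).trans (congrArg w h)))
  -- their images
  have ne_one : ∀ {p}, p ∈ members hF → p ≠ (1 : Cfsg.PSU 6 F 2) := by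
    rintro _ ⟨z, hz, rfl⟩; exact tau_ne_one hF hz
  have excl : ∀ {p : Cfsg.PSU 6 F 2} {h : ↥(Subgroup.centralizer ({d} : Set Γ))}, p ∈ members hF →
      p ≠ a0 * b0 → (h : Γ) = n * (w p : Γ) * n⁻¹ → ψ h ≠ 1 ∧ ψ h ≠ a * b := by
    intro p h hpD hpne e
    have back : ∀ {z : ↥(Subgroup.centralizer ({d} : Set Γ))}, (h : Γ) = n * (z : Γ) * n⁻¹ → p = ψ z := by
      intro z ez
      rw [← hmap p hpD, show w p = z from Subtype.ext ((MulAut.conj n).injective (e.symm.trans ez))]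
    constructor
    · intro he
      rcases (K.X.ker h).1 he with rfl | rfl
      · exact ne_one hpD ((back (z := 1) (by simp)).trans (map_one ψ))
      · exact hpne ((back (z := y0) (K.hδ.trans hny0.symm)).trans e0)
    · intro he
      rcases K.X.fibre (hy.trans he.symm) with rfl | rfl
      · exact ne_one hpD ((back (z := δ) (by rw [K.hδ, hnd])).trans K.delta_one)
      · refine hpne ((back (z := δ * y0) ?_).trans (by rw [map_mul, K.delta_one, one_mul, e0]))
        simp only [Subgroup.coe_mul, K.hδ]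
        rw [show n * (d * (y0 : Γ)) * n⁻¹ = n * d * n⁻¹ * (n * (y0 : Γ) * n⁻¹) by group, hnd, hny0]
  have na : a0 ≠ a0 * b0 := fun e => ne_one hb0D (mul_left_cancel (a := a0) (e.symm.trans (mul_one a0).symm))
  have nb : b0 ≠ a0 * b0 := fun e => ne_one ha0D (mul_right_cancel (b := b0) (e.symm.trans (one_mul b0).symm))
  have orbit : ∀ {s t : ↥(Subgroup.centralizer ({d} : Set Γ))}, ψ s ∈ spanW W → ψ s ≠ 1 ∧ ψ s ≠ a * b →
      (∀ k, Commute (ψ k) (a * b) → k * s * k⁻¹ = s ∨ k * s * k⁻¹ = t) → ψ s = a ∨ ψ s = b := by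
    intro s t hs hne h
    have hg : ∀ g, Commute g (tau hF u * tau hF v) → g * ψ s * g⁻¹ = ψ s ∨ g * ψ s * g⁻¹ = ψ t := by
      intro g hg
      obtain ⟨g', rfl⟩ := K.X.surj g
      rcases h g' (by rw [ha, hb]; exact hg) with e | e
      · exact Or.inl (by rw [← map_inv, ← map_mul, ← map_mul, e])
      · exact Or.inr (by rw [← map_inv, ← map_mul, ← map_mul, e])
    rcases small_orbit hF K.plane hu hv hp hs hg with k | k | k | k <;> try simp only [← ha, ← hb] at k
    exacts [absurd k hne.1, Or.inl k, Or.inr k, absurd k hne.2]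
  have p1 : ψ h1 = a ∨ ψ h1 = b := orbit h1m (excl ha0D na e1) fun k hk => (perm k hk).1
  have p2 : ψ h2 = a ∨ ψ h2 = b := orbit h2m (excl hb0D nb e2) fun k hk => (perm k hk).2
  -- an element exchanging `a` and `b`
  obtain ⟨g, g1, g2⟩ := exists_act_two hF (by norm_num) hp (hp.symm hF)
  obtain ⟨k, hk0⟩ := K.X.surj (toPSU 6 F g)
  have k1 : ψ k * a * (ψ k)⁻¹ = b := by rw [hk0, ha, tau_conj hF g hp.1, g1, hb]
  have k2 : ψ k * b * (ψ k)⁻¹ = a := by rw [hk0, hb, tau_conj hF g hp.2.1, g2, ha]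
  have hk : Commute (ψ k) (a * b) := by
    refine mul_inv_eq_iff_eq_mul.1 ?_
    rw [show ψ k * (a * b) * (ψ k)⁻¹ = ψ k * a * (ψ k)⁻¹ * (ψ k * b * (ψ k)⁻¹) by group, k1, k2, ← cab.eq]
  have hk2 : k * h1 * k⁻¹ = h2 := by
    refine ((perm k hk).1).resolve_left fun e => hab ?_
    have e' := congrArg ψ e
    rw [map_mul, map_mul, map_inv] at e'
    rcases p1 with h | h <;> rw [h] at e'
    · exact e'.symm.trans k1
    · exact k2.symm.trans e'
  -- the product of the images
  have hprod : h1 * h2 = w a * w b := by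
    have key : ∀ {p q}, p ∈ members hF → ψ h1 = p → ψ k * p * (ψ k)⁻¹ = q → h1 * h2 = w p * w q := by
      intro p q hpD hp1 hq1
      have hw : k * w p * k⁻¹ = w q := by rw [hequiv k p hpD, hq1]
      rcases K.X.fibre ((hmap p hpD).trans hp1.symm) with h | h
      · rw [← hk2, h, hw]
      · have e : k * (w p * δ) * k⁻¹ = w q * δ := by
          rw [← hw, mul_assoc k, mul_assoc (w p), (K.X.central k⁻¹).eq]
          group
        rw [← hk2, h, e, mul_assoc (w p), ← mul_assoc δ, (K.X.central (w q)).eq, mul_assoc (w q), K.X.sq,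
          mul_one]
    rcases p1 with h | h
    · exact key haD h k1
    · exact (key hbD h k2).trans wcomm.symm.eq
  have hnu : n * ((w a0 * w b0 : ↥(Subgroup.centralizer ({d} : Set Γ))) : Γ) * n⁻¹
      = ((w a * w b : ↥(Subgroup.centralizer ({d} : Set Γ))) : Γ) := by
    rw [← hprod]
    simp only [Subgroup.coe_mul, e1, e2]
    group
  have hy0 : y0 = w a0 * w b0 * δ := by
    refine (K.X.fibre (show ψ (w a0 * w b0) = ψ y0 by rw [map_mul, hmap _ ha0D, hmap _ hb0D, e0])).resolve_left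
      fun e => ?_
    rw [← e, hny0] at hnu
    have := congrArg ψ (show w a * w b = δ from Subtype.ext (hnu.symm.trans K.hδ.symm))
    rw [map_mul, hmap a haD, hmap b hbD, K.delta_one] at this
    refine hab ?_
    rw [ha, hb] at this ⊢
    rw [← tau_inv hF hp.2.1]
    exact eq_inv_of_mul_eq_one_left this
  have hyeq : y = w a * w b * δ := by
    have e : δ = w a * w b * y := by
      refine Subtype.ext (K.hδ.trans (hny0.symm.trans ?_))
      rw [hy0]
      simp only [Subgroup.coe_mul, K.hδ] at hnu ⊢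
      rw [← hnu, ← hnd]
      group
    have hsq : (w a * w b) * (w a * w b) = 1 := K.sq_A0 (show ψ (w a * w b) ∈ spanW W by
      rw [map_mul, hmap a haD, hmap b hbD, ha, hb]
      exact mul_mem ⟨_, tv_mem_fixW hF K.plane hu, rfl⟩ ⟨_, tv_mem_fixW hF K.plane hv, rfl⟩)
    calc y = (w a * w b) * (w a * w b) * y := by rw [hsq, one_mul]
      _ = w a * w b * δ := by rw [mul_assoc (w a * w b), ← e]
  refine ⟨hyeq, fun h hh => ?_⟩
  -- the number at the lifts of `a` and `b`
  have lifts : ∀ {p} {s : ↥(Subgroup.centralizer ({d} : Set Γ))}, p ∈ members hF → (s : Γ) = n * (w p : Γ) * n⁻¹ →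
      ψ (w p * y0) ∈ members hF → ψ h = ψ s → cnum (y : Γ) (h : Γ) = 26542080 := by
    intro p s hpD es hpy e
    rcases K.X.fibre e.symm with rfl | rfl
    · rw [← hnd, es, cnum_conj, K.cnum_member (by rw [hmap p hpD]; exact hpD)]
    · rw [Subgroup.coe_mul, K.hδ, es]
      conv_lhs => arg 2; arg 2; rw [← hny0]
      rw [show n * (w p : Γ) * n⁻¹ * (n * (y0 : Γ) * n⁻¹)
          = n * ((w p * y0 : ↥(Subgroup.centralizer ({d} : Set Γ))) : Γ) * n⁻¹ by
        simp [mul_assoc], ← hnd, cnum_conj, K.cnum_member hpy]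
  have d1 : ψ (w a0 * y0) ∈ members hF := by
    rw [map_mul, hmap _ ha0D, e0, ← mul_assoc, a0sq, one_mul]; exact hb0D
  have d2 : ψ (w b0 * y0) ∈ members hF := by
    rw [map_mul, hmap _ hb0D, e0, cab0.eq, ← mul_assoc, b0sq, one_mul]; exact ha0D
  have hne : ψ h1 ≠ ψ h2 := fun e => hab (by
    have := congrArg ψ hprod
    rw [map_mul, map_mul, hmap a haD, hmap b hbD, ← e] at this
    rcases p1 with h | h <;> rw [h] at this
    · exact mul_left_cancel this
    · exact mul_right_cancel this.symm)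
  rcases hh with hh | hh <;> rcases p1 with h' | h'
  · exact lifts ha0D e1 d1 (hh.trans h'.symm)
  · exact lifts hb0D e2 d2 (hh.trans (Eq.symm (p2.resolve_right fun k => hne (h'.trans k.symm))))
  · exact lifts hb0D e2 d2 (hh.trans (Eq.symm (p2.resolve_left fun k => hne (h'.trans k.symm))))
  · exact lifts ha0D e1 d1 (hh.trans h'.symm)

/-- One conjugate over each member, one over each pair: the cover would split. -/
theorem one_one (K : Ctx hF ψ δ W) (hperf : commutator ↥(Subgroup.centralizer ({d} : Set Γ)) = ⊤)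
    (hk : ∀ a ∈ planeSet hF W, (fib ψ a).ncard = 1) (hb : ∀ x ∈ pairsW hF W, (fib ψ x).ncard = 1) : False := by
  classical
  obtain ⟨a₀, ha₀⟩ := Set.nonempty_of_ncard_ne_zero (s := planeSet hF W) (by rw [planeSet_card hF K.plane]; norm_num)
  obtain ⟨u₀, hu₀, hu₀c⟩ := Set.nonempty_of_ncard_ne_zero (s := fib ψ a₀) (by rw [hk a₀ ha₀]; norm_num)
  obtain ⟨w, hwu, hmap, hequiv⟩ := exists_section hF K.X (u₀ := u₀) (by rw [hu₀]; exact K.planeSet_members ha₀)
  rw [hu₀] at hwu
  have hconj : ∀ b ∈ members hF, IsConj d (w b : Γ) := by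
    intro b hb
    obtain ⟨g, rfl⟩ := members_conj_transitive hF (K.planeSet_members ha₀) hb
    obtain ⟨k, rfl⟩ := K.X.surj g
    rw [← hequiv k a₀ (K.planeSet_members ha₀), hwu]
    exact hu₀c.trans (isConj_iff.2 ⟨(k : Γ), by simp⟩)
  have hmap' : ∀ a ∈ members hF, ψ (w a * δ) = a := fun a ha => by rw [map_mul, hmap a ha, K.delta_one, mul_one]
  have hequiv' : ∀ h, ∀ a ∈ members hF, h * (w a * δ) * h⁻¹ = w (ψ h * a * (ψ h)⁻¹) * δ := fun h a ha => by
    rw [← hequiv h a ha, mul_assoc (h * w a), (K.X.central h⁻¹).symm.eq]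
    group
  let S : Set Γ := (fun c => ((w c * δ : ↥(Subgroup.centralizer ({d} : Set Γ))) : Γ)) '' planeSet hF W
  have dt : ∀ c, d * ((w c * δ : ↥(Subgroup.centralizer ({d} : Set Γ))) : Γ) = (w c : Γ) := fun c => by
    have e : δ * (w c * δ) = w c := by rw [(K.X.central (w c * δ)).eq, mul_assoc, K.X.sq, mul_one]
    exact (congrArg (· * _) K.hδ.symm).trans (congrArg Subtype.val e)
  have hcard : {x ∈ Omega ψ W | cnum d x = 26542080}.ncard = 21 := by
    rw [K.nbr_d, K.card_over K.planeSet_span 1 hk, planeSet_card hF K.plane]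
  have nbr_conj : ∀ {n u : Γ}, n ∈ Subgroup.normalizer (bigA ψ W : Set Γ) →
      {x ∈ Omega ψ W | cnum (n * u * n⁻¹) x = 26542080} =
        (fun x => n * x * n⁻¹) '' {x ∈ Omega ψ W | cnum u x = 26542080} := by
    intro n u hn
    ext x
    constructor
    · rintro ⟨hx, hc⟩
      have e : n * (n⁻¹ * x * n) * n⁻¹ = x := by group
      refine ⟨n⁻¹ * x * n, ⟨K.norm_Omega' hn hx, ?_⟩, e⟩
      rw [← cnum_conj n u (n⁻¹ * x * n), e, hc]
    · rintro ⟨x, ⟨hx, hc⟩, rfl⟩
      exact ⟨K.norm_Omega hn hx, by rw [cnum_conj, hc]⟩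
  have hdn : {x ∈ Omega ψ W | cnum d x = 26542080} = (fun c => (w c : Γ)) '' planeSet hF W := by
    refine (Set.eq_of_subset_of_ncard_le ?_ ?_ (Set.toFinite _)).symm
    · rintro _ ⟨c, hc, rfl⟩
      have hcD := K.planeSet_members hc
      exact ⟨mem_Omega.2 ⟨by rw [hmap c hcD]; exact K.planeSet_span hc, hconj c hcD⟩,
        K.cnum_member (by rw [hmap c hcD]; exact hcD)⟩
    · rw [hcard, Set.ncard_image_of_injOn, planeSet_card hF K.plane]
      intro p hp q hq e
      have := congrArg ψ (Subtype.val_injective e)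
      rwa [hmap p (K.planeSet_members hp), hmap q (K.planeSet_members hq)] at this
  -- elements taking `d` to the lift of a member fix `S`
  have step : ∀ a ∈ planeSet hF W, ∃ n ∈ Subgroup.normalizer (bigA ψ W : Set Γ),
      (∀ t ∈ S, n * t * n⁻¹ ∈ S) ∧ n * d * n⁻¹ = (w a : Γ) := by
    intro a ha
    have haD := K.planeSet_members ha
    have hΩ : (w a : Γ) ∈ Omega ψ W := mem_Omega.2 ⟨by rw [hmap a haD]; exact K.planeSet_span ha, hconj a haD⟩
    obtain ⟨n, hn, hnd⟩ := K.transitive hΩ.1 hΩ.2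
    refine ⟨n, hn, ?_, hnd⟩
    have hun : {x ∈ Omega ψ W | cnum (w a : Γ) x = 26542080}
        = (fun c => (w a : Γ) * ((w c * δ : ↥(Subgroup.centralizer ({d} : Set Γ))) : Γ)) '' planeSet hF W := by
      refine (Set.eq_of_subset_of_ncard_le ?_ ?_ (Set.toFinite _)).symm
      · rintro _ ⟨c, hc, rfl⟩
        rcases eq_or_ne a c with rfl | hne
        · have e : (w a : Γ) * ((w a * δ : ↥(Subgroup.centralizer ({d} : Set Γ))) : Γ) = d := by
            rw [← Subgroup.coe_mul, ← mul_assoc, K.sq_A0 (show ψ (w a) ∈ spanW W by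
              rw [hmap a haD]; exact K.planeSet_span ha), one_mul, K.hδ]
          refine ⟨?_, ?_⟩ <;> simp only [e]
          · exact K.d_Omega
          · rw [cnum_comm, K.cnum_member (by rw [hmap a haD]; exact haD)]
        · obtain ⟨p, q, hpW, hqW, hpq, ep, eq⟩ := plane_pair hF K.plane ha hc hne
          obtain ⟨y, hy⟩ := Set.ncard_eq_one.1 (hb (a * c) ⟨p, q, hpW, hqW, hpq, by rw [ep, eq]⟩)
          have hmem : y ∈ fib ψ (a * c) := by rw [hy]; rfl
          have hΩy : (y : Γ) ∈ Omega ψ W := mem_Omega.2 ⟨by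
            rw [hmem.1]; exact mul_mem (K.planeSet_span ha) (K.planeSet_span hc), hmem.2⟩
          obtain ⟨e, hcn⟩ := K.pair_form hmap hequiv hpW hqW hpq (by rw [hmem.1, ep, eq]) hΩy
          have e' : (w a : Γ) * ((w c * δ : ↥(Subgroup.centralizer ({d} : Set Γ))) : Γ) = (y : Γ) := by
            rw [e, ep, eq]; simp [mul_assoc]
          refine ⟨?_, ?_⟩ <;> simp only [e']
          · exact hΩy
          · rw [cnum_comm, hcn (w a) (Or.inl (by rw [hmap a haD, ep]))]
      · rw [← hnd, nbr_conj hn, Set.ncard_image_of_injective _ (fun x y e => mul_left_cancel (mul_right_cancel e)), hcard,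
          Set.ncard_image_of_injOn, planeSet_card hF K.plane]
        intro p hp q hq e
        have := congrArg ψ (Subtype.val_injective (mul_left_cancel e))
        rwa [hmap' p (K.planeSet_members hp), hmap' q (K.planeSet_members hq)] at this
    rintro _ ⟨c, hc, rfl⟩
    have : n * (w c : Γ) * n⁻¹ ∈ {x ∈ Omega ψ W | cnum (w a : Γ) x = 26542080} := by
      rw [← hnd, nbr_conj hn, hdn]
      exact ⟨_, ⟨c, hc, rfl⟩, rfl⟩
    rw [hun] at this
    obtain ⟨c', hc', e⟩ := this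
    refine ⟨c', hc', ?_⟩
    dsimp only at e ⊢
    refine mul_left_cancel (a := n * d * n⁻¹) ?_
    conv_lhs => rw [hnd]
    rw [e, ← dt c]
    group
  let O : Set Γ := {x | ∃ n ∈ Subgroup.normalizer (bigA ψ W : Set Γ),
    (∀ t ∈ S, n * t * n⁻¹ ∈ S) ∧ n * d * n⁻¹ = x}
  have closed : ∀ x ∈ O, ∀ t ∈ S, x * t ∈ O := by
    rintro x ⟨n, hn, hW, rfl⟩ t ht
    have himg : (fun s => n * s * n⁻¹) '' S = S := by
      refine Set.eq_of_subset_of_ncard_le (by rintro _ ⟨s, hs, rfl⟩; exact hW s hs) ?_ (Set.toFinite _)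
      exact (Set.ncard_image_of_injective _ (MulAut.conj n).injective).ge
    rw [← himg] at ht
    obtain ⟨s, hs, rfl⟩ := ht
    obtain ⟨c, hc, rfl⟩ := hs
    obtain ⟨m, hm, hmW, hmd⟩ := step c hc
    refine ⟨n * m, mul_mem hn hm, fun t ht => ?_, ?_⟩
    · rw [show n * m * t * (n * m)⁻¹ = n * (m * t * m⁻¹) * n⁻¹ by group]
      exact hW _ (hmW t ht)
    · rw [show n * m * d * (n * m)⁻¹ = n * (m * d * m⁻¹) * n⁻¹ by group, hmd, ← dt c]
      group
  have hgen : ∀ z, z ∈ Subgroup.closure ((fun c => w c * δ) '' planeSet hF W) → d * (z : Γ) ∈ O := by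
    intro z hz
    induction hz using Subgroup.closure_induction_right with
    | one => exact ⟨1, one_mem _, fun t ht => by simpa using ht, by simp⟩
    | mul_right x hx t ht ih =>
      obtain ⟨c, hc, rfl⟩ := ht
      rw [Subgroup.coe_mul, ← mul_assoc]
      exact closed _ ih _ ⟨c, hc, rfl⟩
    | mul_inv_cancel x hx t ht ih =>
      obtain ⟨c, hc, rfl⟩ := ht
      rw [show (w c * δ)⁻¹ = w c * δ from inv_eq_of_mul_eq_one_left (K.sq_A0 (show ψ (w c * δ) ∈ spanW W by
        rw [hmap' c (K.planeSet_members hc)]; exact K.planeSet_span hc)), Subgroup.coe_mul, ← mul_assoc]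
      exact closed _ ih _ ⟨c, hc, rfl⟩
  refine not_mem_commutator hF K.X (w := fun c => w c * δ) hmap' hequiv' K.plane (fun x hx hx1 => ?_) hperf
  rcases (K.X.ker x).1 hx1 with h | h
  · exact h
  · exfalso
    subst h
    obtain ⟨n, hn, -, e⟩ := hgen _ hx
    refine K.one_not_Omega ?_
    rw [← K.sq_bigA K.d_mem]
    conv => arg 2; arg 2; rw [← K.hδ]
    exact e ▸ K.norm_Omega hn K.d_Omega

/-- Two conjugates over each triple and nothing else. -/
theorem frame_two (K : Ctx hF ψ δ W) (hn : (Omega ψ W).ncard = 561)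
    (hk : ∀ a ∈ planeSet hF W, (fib ψ a).ncard = 0) (hb : ∀ x ∈ pairsW hF W, (fib ψ x).ncard = 0)
    (hc : ∀ x ∈ framesW hF W, (fib ψ x).ncard = 2) : False := by
  have step : ∀ z ∈ Omega ψ W, z ≠ d → d * z ∈ Omega ψ W := by
    intro z hz hne
    obtain ⟨y, rfl⟩ := Omega.lift hz
    rcases K.cases hz with rfl | h | h | h
    · exact absurd K.hδ hne
    · have h4 := hk _ h
      rw [Set.ncard_eq_zero (Set.toFinite _)] at h4
      exact absurd (⟨rfl, hz.2⟩ : y ∈ fib ψ (ψ y)) (Set.eq_empty_iff_forall_notMem.1 h4 y)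
    · have h4 := hb _ h
      rw [Set.ncard_eq_zero (Set.toFinite _)] at h4
      exact absurd (⟨rfl, hz.2⟩ : y ∈ fib ψ (ψ y)) (Set.eq_empty_iff_forall_notMem.1 h4 y)
    · have e : fib ψ (ψ y) = {y, y * δ} := by
        refine Set.eq_of_subset_of_ncard_le (fun w hw => K.X.fibre hw.1.symm) ?_ (Set.toFinite _)
        refine (Set.ncard_insert_le _ _).trans ?_
        rw [Set.ncard_singleton, hc _ h]
      have hm : y * δ ∈ fib ψ (ψ y) := by rw [e]; exact Or.inr rfl
      have e' : d * (y : Γ) = ((y * δ : ↥(Subgroup.centralizer ({d} : Set Γ))) : Γ) :=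
        (congrArg (· * (y : Γ)) K.hδ.symm).trans (congrArg Subtype.val (K.X.central y).eq)
      rw [e']
      exact mem_Omega.2 ⟨by rw [map_mul, K.delta_one, mul_one]; exact (mem_Omega.1 hz).1, hm.2⟩
  have closed : ∀ x ∈ Omega ψ W, ∀ y ∈ Omega ψ W, x ≠ y → x * y ∈ Omega ψ W := by
    intro x hx y hy hne
    obtain ⟨n, hn, rfl⟩ := K.transitive hx.1 hx.2
    have h := K.norm_Omega hn (step _ (K.norm_Omega' hn hy) fun e => hne (by rw [← e]; group))
    rwa [show n * (d * (n⁻¹ * y * n)) * n⁻¹ = n * d * n⁻¹ * y by group] at h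
  let V : Subgroup Γ :=
    { carrier := insert 1 (Omega ψ W)
      one_mem' := Or.inl rfl
      mul_mem' := by
        rintro x y (rfl | hx) (rfl | hy)
        · exact Or.inl (one_mul 1)
        · exact Or.inr (by rwa [one_mul])
        · exact Or.inr (by rwa [mul_one])
        · rcases eq_or_ne x y with rfl | hne
          · exact Or.inl (K.sq_bigA hx.1)
          · exact Or.inr (closed x hx y hy hne)
      inv_mem' := by
        rintro x (rfl | hx)
        · exact Or.inl inv_one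
        · exact Or.inr (by rwa [inv_eq_of_mul_eq_one_left (K.sq_bigA hx.1)]) }
  have hle : V ≤ bigA ψ W := by
    rintro x (rfl | hx)
    exacts [one_mem _, hx.1]
  have hdvd := Subgroup.card_dvd_of_le hle
  have hV : Nat.card ↥V = 562 := by
    show Nat.card ↥(insert (1 : Γ) (Omega ψ W)) = 562
    rw [Nat.card_coe_set_eq, Set.ncard_insert_of_notMem K.one_not_Omega (Set.toFinite _), hn]
  rw [hV, K.card_bigA] at hdvd
  norm_num at hdvd

/-- There are 22 conjugates. -/
theorem omega_ncard (K : Ctx hF ψ δ W) (hperf : commutator ↥(Subgroup.centralizer ({d} : Set Γ)) = ⊤)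
    (hnwc : ∃ g : Γ, g * d * g⁻¹ ∈ Subgroup.centralizer ({d} : Set Γ) ∧ g * d * g⁻¹ ≠ d) :
    (Omega ψ W).ncard = 22 := by
  obtain ⟨a, ha⟩ := Set.nonempty_of_ncard_ne_zero (s := planeSet hF W) (by rw [planeSet_card hF K.plane]; norm_num)
  obtain ⟨x, hx⟩ := Set.nonempty_of_ncard_ne_zero (s := pairsW hF W) (by rw [pairsW_card hF K.plane]; norm_num)
  obtain ⟨t, ht⟩ := Set.nonempty_of_ncard_ne_zero (s := framesW hF W) (by rw [framesW_card hF K.plane]; norm_num)
  have hk : ∀ a' ∈ planeSet hF W, (fib ψ a').ncard = (fib ψ a).ncard := fun a' h => K.fib_member ha h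
  have hb : ∀ x' ∈ pairsW hF W, (fib ψ x').ncard = (fib ψ x).ncard := fun x' h => K.fib_pair hx h
  have hc : ∀ t' ∈ framesW hF W, (fib ψ t').ncard = (fib ψ t).ncard := fun t' h => K.fib_frame ht h
  have bk := K.fib_le a
  have bc := K.fib_le t
  have bb : (fib ψ x).ncard ≤ 1 := by
    obtain ⟨p, q, hp, hq, hpq, rfl⟩ := id hx
    obtain ⟨u, hu⟩ := K.X.surj (tau hF p)
    obtain ⟨w, -, hmap, hequiv⟩ := exists_section hF K.X (u₀ := u) (hu ▸ tau_mem hF hpq.1)
    refine (Set.ncard_le_ncard (t := {w (tau hF p) * w (tau hF q) * δ}) (fun y hy => ?_) (Set.toFinite _)).trans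
      (Set.ncard_singleton _).le
    exact (K.pair_form hmap hequiv hp hq hpq hy.1 (mem_Omega.2 ⟨by rw [hy.1]; exact K.pairsW_span hx, hy.2⟩)).1
  have hn := K.count hk hb hc
  have h2 := K.two_le hnwc
  have hd := K.Omega_dvd
  have bad : ∀ m ∈ [281, 211, 491, 771, 302, 582, 43, 323, 603, 253, 533, 813], (Omega ψ W).ncard ≠ m :=
    fun m hm e => glOrder_not m hm (e ▸ hd)
  simp only [List.forall_mem_cons, List.not_mem_nil, IsEmpty.forall_iff, implies_true, and_true] at bad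
  rcases (by omega : ((fib ψ a).ncard = 0 ∧ (fib ψ x).ncard = 0 ∧ (fib ψ t).ncard = 2) ∨
      ((fib ψ a).ncard = 1 ∧ (fib ψ x).ncard = 1) ∨
      (¬((fib ψ a).ncard = 0 ∧ (fib ψ x).ncard = 0 ∧ (fib ψ t).ncard = 2) ∧
        ¬((fib ψ a).ncard = 1 ∧ (fib ψ x).ncard = 1))) with ⟨h, h', h''⟩ | ⟨h, h'⟩ | ⟨n1, n2⟩
  · exact (K.frame_two (by rw [hn, h, h', h'']) (fun a' ha' => (hk a' ha').trans h)
      (fun x' hx' => (hb x' hx').trans h') fun t' ht' => (hc t' ht').trans h'').elim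
  · exact (K.one_one hperf (fun a' ha' => (hk a' ha').trans h) fun x' hx' => (hb x' hx').trans h').elim
  · interval_cases ha' : (fib ψ a).ncard <;> interval_cases hx' : (fib ψ x).ncard <;>
      interval_cases ht' : (fib ψ t).ncard <;> omega

end Ctx

end Cfsg.Agent.U62Base
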